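import Groth.Agent.Lib.WildQuotH28.ASBasis
import Groth.Agent.Lib.H2Alg.PSHom
import Groth.Agent.Lib.ArtFun.PS
import Groth.Agent.Lib.RegLoc.Basic
import Groth.Agent.Lib.VarDim.Alg

/-!
# The Artin–Schreier family over a power series ring
-/

open IsLocalRing MvPolynomial

universe u

namespace Groth.Agent.WildQuotH28.AS

variable {p n : ℕ} [hpf : Fact p.Prime] {k : Type u} [Field k] [CharP k p]
  (a : Fin n → MvPowerSeries (Fin n) k) (ham : ∀ i, MvPowerSeries.constantCoeff (a i) = 0)

local notation "R" => MvPowerSeries (Fin n) k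

variable (p) in
/-- The algebra. -/
abbrev Fam : Type u :=
  Alg p (fun i => a i ^ (p - 1)) (fun i => (MvPowerSeries.X i : MvPowerSeries (Fin n) k))

local notation "A" => Fam p a

variable (p) in
/-- Its generators. -/
noncomputable abbrev v (i : Fin n) : Fam p a := u _ _ i

lemma hp2 : 2 ≤ p := hpf.out.two_le

/-- The ideal of the generators. -/
noncomputable abbrev uIdeal : Ideal (Fam p a) := Ideal.span (Set.range (v p a))

lemma map_span_X :
    Ideal.map (Ideal.Quotient.mk (rel p (fun i => a i ^ (p - 1)) fun i => MvPowerSeries.X i))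
      (Ideal.span (Set.range (X : Fin n → MvPolynomial (Fin n) (MvPowerSeries (Fin n) k)))) =
    uIdeal (p := p) a := by
  rw [Ideal.map_span, ← Set.range_comp]
  rfl

lemma algebraMap_X (i : Fin n) : algebraMap R A (MvPowerSeries.X i) =
    v p a i ^ p - algebraMap R A (a i ^ (p - 1)) * v p a i := by
  rw [v, u_pow, add_sub_cancel_left]

include ham in
lemma a_mem (i : Fin n) : a i ∈ maximalIdeal R := by
  rw [mem_maximalIdeal, mem_nonunits_iff, MvPowerSeries.isUnit_iff_constantCoeff, ham i]
  exact not_isUnit_zero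

lemma v_mem (i : Fin n) : v p a i ∈ uIdeal (p := p) a := Ideal.subset_span (Set.mem_range_self i)

lemma map_maximalIdeal_le : (maximalIdeal R).map (algebraMap R A) ≤ uIdeal (p := p) a := by
  rw [H2Alg.PSHom.maximalIdeal_eq, H2Alg.PSHom.V, Ideal.map_span, Ideal.span_le]
  rintro _ ⟨_, ⟨i, rfl⟩, rfl⟩
  rw [SetLike.mem_coe, algebraMap_X]
  exact sub_mem (Ideal.pow_mem_of_mem _ (v_mem a i) _ hpf.out.pos)
    (Ideal.mul_mem_left _ _ (v_mem a i))

include hpf in
lemma algebraMap_injective : Function.Injective (algebraMap R A) := by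
  haveI := free (fun i => a i ^ (p - 1)) (fun i => (MvPowerSeries.X i : R)) (hp2 (p := p))
  haveI : Nontrivial A := by
    refine nontrivial_of_ne (mono _ _ fun _ => ⟨0, hpf.out.pos⟩) 0 ?_
    rw [← basis_apply _ _ hp2]
    exact (basis _ _ hp2).ne_zero _
  exact FaithfulSMul.algebraMap_injective R A

instance nontrivial : Nontrivial (Fam p a) :=
  ⟨⟨algebraMap R A 0, algebraMap R A 1, fun h => zero_ne_one (algebraMap_injective a h)⟩⟩

instance moduleFinite : Module.Finite (MvPowerSeries (Fin n) k) (Fam p a) :=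
  finite _ _ hp2

instance moduleFree : Module.Free (MvPowerSeries (Fin n) k) (Fam p a) :=
  free _ _ hp2

/-- Every element is a constant modulo the generators. -/
lemma exists_sub_mem (z : A) : ∃ r : R, z - algebraMap R A r ∈ uIdeal (p := p) a := by
  obtain ⟨f, rfl⟩ := Ideal.Quotient.mk_surjective z
  induction f using MvPolynomial.induction_on with
  | C r => exact ⟨r, by rw [show algebraMap R A r = Ideal.Quotient.mk _ (C r) from rfl, sub_self]; exact zero_mem _⟩
  | add f g hf hg =>
    obtain ⟨r, hr⟩ := hf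
    obtain ⟨s, hs⟩ := hg
    exact ⟨r + s, by rw [map_add, map_add, add_sub_add_comm]; exact add_mem hr hs⟩
  | mul_X f i _ =>
    refine ⟨0, ?_⟩
    rw [map_zero, sub_zero, map_mul]
    exact Ideal.mul_mem_left _ _ (Ideal.subset_span ⟨i, rfl⟩)

lemma uIdeal_ne_top : uIdeal (p := p) a ≠ ⊤ := by
  let ev : A →+* k := Ideal.Quotient.lift _
    (MvPolynomial.eval₂Hom (MvPowerSeries.constantCoeff) fun _ => (0 : k)) fun x hx => by
      induction hx using Submodule.span_induction with
      | mem y hy =>
        obtain ⟨i, rfl⟩ := hy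
        simp [hpf.out.ne_zero]
      | zero => rw [map_zero]
      | add a b _ _ ha hb => rw [map_add, ha, hb, add_zero]
      | smul r a _ ha => rw [smul_eq_mul, map_mul, ha, mul_zero]
  refine ne_top_of_le_ne_top (RingHom.ker_ne_top ev) (Ideal.span_le.2 ?_)
  rintro _ ⟨i, rfl⟩
  show ev (Ideal.Quotient.mk _ (X i)) = 0
  rw [Ideal.Quotient.lift_mk, MvPolynomial.eval₂Hom_X']

include ham in
theorem eq_uIdeal_of_isMaximal (M : Ideal A) [hM : M.IsMaximal] : M = uIdeal (p := p) a := by
  have hc : M.comap (algebraMap R A) = maximalIdeal R :=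
    eq_maximalIdeal (Ideal.isMaximal_comap_of_isIntegral_of_isMaximal M)
  refine (hM.eq_of_le hM.ne_top le_rfl).trans (Eq.symm ?_)
  have hle : uIdeal (p := p) a ≤ M := by
    refine Ideal.span_le.2 ?_
    rintro _ ⟨i, rfl⟩
    refine hM.isPrime.mem_of_pow_mem p ?_
    rw [v, u_pow]
    refine add_mem (Ideal.mul_mem_right _ _ ?_) ?_
    · rw [map_pow]
      refine Ideal.pow_mem_of_mem _ ?_ _ (by have := hp2 (p := p); omega)
      rw [← Ideal.mem_comap, hc]
      exact a_mem a ham i
    · rw [← Ideal.mem_comap, hc, H2Alg.PSHom.maximalIdeal_eq]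
      exact Ideal.subset_span ⟨i, rfl⟩
  refine le_antisymm hle fun z hz => ?_
  obtain ⟨r, hr⟩ := exists_sub_mem a z
  have hrm : r ∈ maximalIdeal R := by
    rw [← hc, Ideal.mem_comap, show algebraMap R A r = z - (z - algebraMap R A r) by ring]
    exact sub_mem hz (hle hr)
  rw [← sub_add_cancel z (algebraMap R A r)]
  exact add_mem hr (map_maximalIdeal_le a (Ideal.mem_map_of_mem _ hrm))

include ham in
theorem isMaximal_uIdeal : (uIdeal (p := p) a).IsMaximal := by
  obtain ⟨M, hM, _⟩ := Ideal.exists_le_maximal _ (uIdeal_ne_top (p := p) a)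
  exact eq_uIdeal_of_isMaximal a ham M ▸ hM

include ham in
theorem isLocalRing : IsLocalRing A :=
  IsLocalRing.of_unique_max_ideal ⟨uIdeal a, isMaximal_uIdeal a ham, fun M hM =>
    haveI := hM; eq_uIdeal_of_isMaximal a ham M⟩

include ham in
theorem maximalIdeal_eq [IsLocalRing A] : maximalIdeal A = uIdeal (p := p) a :=
  eq_uIdeal_of_isMaximal a ham _

include ham in
theorem isRegularLocalRing : IsRegularLocalRing A := by
  haveI := isLocalRing (p := p) a ham
  haveI : IsNoetherianRing A := isNoetherianRing_of_surjective _ _ (Ideal.Quotient.mk _) Ideal.Quotient.mk_surjective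
  refine IsRegularLocalRing.of_spanFinrank_maximalIdeal_le _ ?_
  have hdim : ringKrullDim A = ringKrullDim R := by
    exact VarDim.ringKrullDim_eq_of_isIntegral (algebraMap_injective a)
  rw [hdim, H2Alg.PSHom.ringKrullDim_eq, maximalIdeal_eq a ham]
  refine Nat.cast_le.2 ((Submodule.spanFinrank_span_le_ncard_of_finite (Set.finite_range _)).trans ?_)
  rw [← Set.image_univ]
  refine (Set.ncard_image_le Set.finite_univ).trans ?_
  simp

include ham in
theorem isDomain : IsDomain A := by
  haveI := isRegularLocalRing (p := p) a ham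
  exact RegLoc.isDomain A

include ham in
theorem map_maximalIdeal_le_pow : (maximalIdeal R).map (algebraMap R A) ≤ uIdeal (p := p) a ^ p := by
  haveI := isLocalRing (p := p) a ham
  refine Submodule.le_of_le_smul_of_le_jacobson_bot (I := uIdeal a)
    (Ideal.FG.map (IsNoetherian.noetherian _) _) ?_ ?_
  · rw [← maximalIdeal_eq a ham]
    exact maximalIdeal_le_jacobson _
  · conv_lhs => rw [H2Alg.PSHom.maximalIdeal_eq, H2Alg.PSHom.V, Ideal.map_span]
    rw [Ideal.span_le]
    rintro _ ⟨_, ⟨i, rfl⟩, rfl⟩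
    rw [SetLike.mem_coe, algebraMap_X, map_pow]
    refine sub_mem (Ideal.mem_sup_left (Ideal.pow_mem_pow (v_mem a i) p))
      (Ideal.mem_sup_right ?_)
    rw [smul_eq_mul, mul_comm (_ ^ _)]
    exact Ideal.mul_mem_mul (v_mem a i)
      (Ideal.pow_mem_of_mem _ (Ideal.mem_map_of_mem _ (a_mem a ham i)) _
        (by have := hp2 (p := p); omega))

include ham in
theorem isAdicComplete : IsAdicComplete (uIdeal (p := p) a) A := by
  haveI := isLocalRing (p := p) a ham
  haveI : IsAdicComplete (maximalIdeal k) k := by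
    rw [(IsLocalRing.isField_iff_maximalIdeal_eq).1 (Field.toIsField k)]
    infer_instance
  haveI : IsAdicComplete (maximalIdeal R) R := ArtFunLib.isAdicComplete_mvPowerSeries
  haveI hJ : IsAdicComplete ((maximalIdeal R).map (algebraMap R A)) A :=
    (IsAdicComplete.map_algebraMap_iff (maximalIdeal R) A).2 (Compl.isAdicComplete_of_finite (maximalIdeal R) A)
  haveI hart : IsArtinianRing (A ⧸ (maximalIdeal R).map (algebraMap R A)) := by
    letI := Ideal.Quotient.field (maximalIdeal R)
    exact IsArtinianRing.of_finite (R ⧸ maximalIdeal R) _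
  haveI : IsNoetherianRing A := isNoetherianRing_of_surjective _ _ (Ideal.Quotient.mk _) Ideal.Quotient.mk_surjective
  obtain ⟨N, hN⟩ : ∃ N, uIdeal (p := p) a ^ N ≤ (maximalIdeal R).map (algebraMap R A) := by
    have hrad : uIdeal (p := p) a ≤ ((maximalIdeal R).map (algebraMap R A)).radical := by
      refine Ideal.span_le.2 ?_
      rintro _ ⟨i, rfl⟩
      refine ⟨p, ?_⟩
      rw [v, u_pow, map_pow]
      refine add_mem (Ideal.mul_mem_right _ _ (Ideal.pow_mem_of_mem _ (Ideal.mem_map_of_mem _ (a_mem a ham i)) _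
        (by have := hp2 (p := p); omega))) (Ideal.mem_map_of_mem _ ?_)
      rw [H2Alg.PSHom.maximalIdeal_eq]
      exact Ideal.subset_span ⟨i, rfl⟩
    obtain ⟨N, hN⟩ := ((maximalIdeal R).map (algebraMap R A)).exists_radical_pow_le_of_fg (IsNoetherian.noetherian _)
    exact ⟨N, (Ideal.pow_right_mono hrad N).trans hN⟩
  exact Compl.isAdicComplete_of_le_of_pow_le A (map_maximalIdeal_le a) hN

end Groth.Agent.WildQuotH28.AS
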