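import Mathlib.RingTheory.PiTensorProduct
import Mathlib.LinearAlgebra.PiTensorProduct.Basis
import Mathlib.RingTheory.AdjoinRoot
import Mathlib.RingTheory.MvPolynomial.Basic
import Mathlib.RingTheory.Ideal.Quotient.Operations
import Mathlib.LinearAlgebra.Dimension.Free
import Mathlib.LinearAlgebra.Dimension.Constructions

/-!
# The monomial basis of `R[u]/(u_i^p - c_i u_i - d_i)`
-/

open MvPolynomial

universe u

namespace Groth.Agent.WildQuotH28.AS

variable {R : Type u} [CommRing R] {n p : ℕ} (c d : Fin n → R)

variable (p) in
/-- The relations. -/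
noncomputable def rel : Ideal (MvPolynomial (Fin n) R) :=
  Ideal.span (Set.range fun i : Fin n => X i ^ p - C (c i) * X i - C (d i))

variable (p) in
/-- The algebra. -/
abbrev Alg : Type u := MvPolynomial (Fin n) R ⧸ rel p c d

/-- The variables. -/
noncomputable def u (i : Fin n) : Alg p c d := Ideal.Quotient.mk _ (X i)

/-- Monomials. -/
noncomputable def mono (e : Fin n → Fin p) : Alg p c d := ∏ i, u c d i ^ (e i : ℕ)

lemma u_pow (i : Fin n) :
    (u c d i : Alg p c d) ^ p = algebraMap R _ (c i) * u c d i + algebraMap R _ (d i) := by
  rw [← sub_eq_zero, ← sub_sub]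
  show Ideal.Quotient.mk _ (X i) ^ p - Ideal.Quotient.mk _ (C (c i)) * Ideal.Quotient.mk _ (X i) -
    Ideal.Quotient.mk _ (C (d i)) = 0
  rw [← map_pow, ← map_mul, ← map_sub, ← map_sub, Ideal.Quotient.eq_zero_iff_mem]
  exact Ideal.subset_span ⟨i, rfl⟩

lemma mono_update (e : Fin n → Fin p) (i : Fin n) (j : Fin p) :
    mono c d (Function.update e i j) = u c d i ^ (j : ℕ) * ∏ k ∈ Finset.univ.erase i, u c d k ^ (e k : ℕ) := by
  rw [mono, ← Finset.mul_prod_erase _ _ (Finset.mem_univ i), Function.update_self]
  congr 1
  exact Finset.prod_congr rfl fun k hk => by rw [Function.update_of_ne (Finset.ne_of_mem_erase hk)]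

lemma smul_eq (r : R) (x : Alg p c d) : r • x = algebraMap R (Alg p c d) r * x := Algebra.smul_def r x

variable (hp : 2 ≤ p)

include hp in
theorem span_mono_eq_top : Submodule.span R (Set.range (mono (p := p) c d)) = ⊤ := by
  rw [eq_top_iff]
  rintro z -
  obtain ⟨f, rfl⟩ := Ideal.Quotient.mk_surjective z
  induction f using MvPolynomial.induction_on with
  | C r =>
    have h1 : (Ideal.Quotient.mk (rel p c d) (C r)) = r • mono c d (fun _ => ⟨0, by omega⟩) := by
      rw [smul_eq, mono]
      simp only [pow_zero, Finset.prod_const_one, mul_one]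
      rfl
    rw [h1]
    exact Submodule.smul_mem _ _ (Submodule.subset_span ⟨_, rfl⟩)
  | add f g hf hg => rw [map_add]; exact add_mem hf hg
  | mul_X f i hf =>
    rw [map_mul]
    show Ideal.Quotient.mk _ f * u c d i ∈ _
    have key : ∀ y ∈ Submodule.span R (Set.range (mono (p := p) c d)),
        y * u c d i ∈ Submodule.span R (Set.range (mono (p := p) c d)) := by
      intro y hy
      induction hy using Submodule.span_induction with
      | mem y hy =>
        obtain ⟨e, rfl⟩ := hy
        have he := mono_update c d e i (e i)
        rw [Function.update_eq_self] at he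
        by_cases h : (e i : ℕ) + 1 < p
        · refine Submodule.subset_span ⟨Function.update e i ⟨e i + 1, h⟩, ?_⟩
          rw [mono_update, he, pow_succ]
          ring
        · have hei : (e i : ℕ) + 1 = p := by omega
          have e1 := mono_update c d e i ⟨1, by omega⟩
          have e0 := mono_update c d e i ⟨0, by omega⟩
          simp only [pow_zero, one_mul, pow_one] at e0 e1
          have : mono c d e * u c d i = c i • mono c d (Function.update e i ⟨1, by omega⟩) +
              d i • mono c d (Function.update e i ⟨0, by omega⟩) := by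
            rw [he, mul_right_comm, ← pow_succ, hei, u_pow, smul_eq, smul_eq, e0, e1]
            ring
          rw [this]
          exact add_mem (Submodule.smul_mem _ _ (Submodule.subset_span ⟨_, rfl⟩))
            (Submodule.smul_mem _ _ (Submodule.subset_span ⟨_, rfl⟩))
      | zero => rw [zero_mul]; exact zero_mem _
      | add a b _ _ ha hb => rw [add_mul]; exact add_mem ha hb
      | smul r a _ ha => rw [smul_mul_assoc]; exact Submodule.smul_mem _ r ha
    exact key _ hf

section indep

variable (p) in
/-- The one-variable polynomial. -/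
noncomputable def g (i : Fin n) : Polynomial R :=
  Polynomial.X ^ p - Polynomial.C (c i) * Polynomial.X - Polynomial.C (d i)

include hp in
lemma g_degree (i : Fin n) :
    (Polynomial.C (c i) * Polynomial.X + Polynomial.C (d i)).degree < (p : WithBot ℕ) := by
  refine (Polynomial.degree_linear_le).trans_lt ?_
  exact_mod_cast (show 1 < p by omega)

include hp in
lemma g_monic (i : Fin n) : (g p c d i).Monic := by
  rw [g, sub_sub]
  exact Polynomial.monic_X_pow_sub (g_degree c d hp i)

include hp in
lemma g_natDegree [Nontrivial R] (i : Fin n) : (g p c d i).natDegree = p := by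
  rw [g, sub_sub, Polynomial.natDegree_sub_eq_left_of_natDegree_lt, Polynomial.natDegree_X_pow]
  rw [Polynomial.natDegree_X_pow]
  exact lt_of_le_of_lt Polynomial.natDegree_linear_le (by omega)

variable (p) in
/-- The model. -/
abbrev Model : Type u := PiTensorProduct R fun i => AdjoinRoot (g p c d i)

variable (p) in
/-- Evaluation into the model. -/
noncomputable def toModel : Alg p c d →ₐ[R] Model p c d :=
  Ideal.Quotient.liftₐ _ (MvPolynomial.aeval fun i =>
    PiTensorProduct.singleAlgHom (R := R) (A := fun i => AdjoinRoot (g p c d i)) i (AdjoinRoot.root _))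
    fun x hx => by
      induction hx using Submodule.span_induction with
      | mem y hy =>
        obtain ⟨i, rfl⟩ := hy
        simp only [map_sub, map_mul, map_pow, MvPolynomial.aeval_X, MvPolynomial.aeval_C]
        rw [← map_pow, ← AlgHom.commutes (PiTensorProduct.singleAlgHom (R := R)
          (A := fun i => AdjoinRoot (g p c d i)) i) (c i), ← map_mul,
          ← AlgHom.commutes (PiTensorProduct.singleAlgHom (R := R)
          (A := fun i => AdjoinRoot (g p c d i)) i) (d i), ← map_sub, ← map_sub]
        convert map_zero (PiTensorProduct.singleAlgHom (R := R) (A := fun i => AdjoinRoot (g p c d i)) i)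
        have h := AdjoinRoot.mk_self (f := g p c d i)
        simp only [g, map_sub, map_mul, map_pow, AdjoinRoot.mk_X, AdjoinRoot.mk_C] at h
        exact h
      | zero => rw [map_zero]
      | add a b _ _ ha hb => rw [map_add, ha, hb, add_zero]
      | smul r a _ ha => rw [smul_eq_mul, map_mul, ha, mul_zero]

lemma toModel_u (i : Fin n) : toModel p c d (u c d i) =
    PiTensorProduct.singleAlgHom (R := R) (A := fun i => AdjoinRoot (g p c d i)) i (AdjoinRoot.root _) := by
  show MvPolynomial.aeval _ (X i) = _
  rw [MvPolynomial.aeval_X]

lemma toModel_mono (e : Fin n → Fin p) : toModel p c d (mono c d e) =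
    PiTensorProduct.tprod R fun i => AdjoinRoot.root (g p c d i) ^ (e i : ℕ) := by
  rw [mono, map_prod]
  simp only [map_pow, toModel_u]
  simp only [← map_pow]
  simp only [PiTensorProduct.singleAlgHom_apply]
  rw [← PiTensorProduct.tprod_prod]
  congr 1
  exact Finset.univ_prod_mulSingle _

include hp in
theorem linearIndependent_mono [Nontrivial R] : LinearIndependent R (mono (p := p) c d) := by
  let b : ∀ i, Module.Basis (Fin p) R (AdjoinRoot (g p c d i)) := fun i =>
    (AdjoinRoot.powerBasis' (g_monic c d hp i)).basis.reindex (finCongr (g_natDegree c d hp i))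
  have h := (Basis.piTensorProduct b).linearIndependent
  refine LinearIndependent.of_comp (toModel p c d).toLinearMap ?_
  suffices hh : ((toModel p c d).toLinearMap ∘ mono c d) = ⇑(Basis.piTensorProduct b) by
    rw [hh]; exact h
  funext e
  rw [Basis.piTensorProduct_apply]
  refine (toModel_mono c d e).trans ?_
  congr 1
  funext i
  rw [Module.Basis.reindex_apply, PowerBasis.basis_eq_pow, AdjoinRoot.powerBasis'_gen]
  rfl

/-- The monomial basis. -/
noncomputable def basis [Nontrivial R] : Module.Basis (Fin n → Fin p) R (Alg p c d) :=
  Module.Basis.mk (linearIndependent_mono c d hp) (span_mono_eq_top c d hp).ge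

lemma basis_apply [Nontrivial R] (e : Fin n → Fin p) : basis c d hp e = mono c d e :=
  Module.Basis.mk_apply _ _ e

include hp in
theorem free [Nontrivial R] : Module.Free R (Alg p c d) :=
  Module.Free.of_basis (basis c d hp)

include hp in
theorem finite [Nontrivial R] : Module.Finite R (Alg p c d) :=
  Module.Finite.of_basis (basis c d hp)

include hp in
theorem finrank_eq [Nontrivial R] : Module.finrank R (Alg p c d) = p ^ n := by
  rw [Module.finrank_eq_card_basis (basis c d hp), Fintype.card_fun, Fintype.card_fin, Fintype.card_fin]

end indep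

end Groth.Agent.WildQuotH28.AS
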