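import Groth.Agent.Lib.WildQuotH28.AS
import Mathlib.RingTheory.LocalRing.Length
import Mathlib.Algebra.CharP.Algebra
import Mathlib.FieldTheory.Finite.Basic

/-!
# Automorphisms and fixed points of the Artin–Schreier family
-/

open IsLocalRing MvPolynomial

universe u

namespace Groth.Agent.WildQuotH28.AS

variable {p n : ℕ} [hpf : Fact p.Prime] {k : Type u} [Field k] [CharP k p]
  (a : Fin n → MvPowerSeries (Fin n) k) (ham : ∀ i, MvPowerSeries.constantCoeff (a i) = 0)

local notation "R" => MvPowerSeries (Fin n) k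
local notation "A" => Fam p a

lemma charP_R : CharP R p :=
  charP_of_injective_ringHom (f := (MvPowerSeries.C : k →+* R))
    (fun x y h => by simpa using congrArg MvPowerSeries.constantCoeff h) p

lemma charP_A : CharP A p :=
  haveI := charP_R (p := p) (n := n) (k := k)
  charP_of_injective_ringHom (algebraMap_injective a) p

lemma algHom_ext {B : Type u} [Semiring B] [Algebra R B] {f g : A →ₐ[R] B} (h : ∀ i, f (v p a i) = g (v p a i)) :
    f = g :=
  Ideal.Quotient.algHom_ext _ (MvPolynomial.algHom_ext h)

/-- The translation `u ↦ u + m a`. -/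
noncomputable def shift (m : Fin n → ℕ) : A →ₐ[R] A :=
  Ideal.Quotient.liftₐ _ (MvPolynomial.aeval fun i => v p a i + algebraMap R A ((m i : R) * a i))
    fun x hx => by
      induction hx using Submodule.span_induction with
      | mem y hy =>
        obtain ⟨i, rfl⟩ := hy
        simp only [map_sub, map_mul, map_pow, MvPolynomial.aeval_X, MvPolynomial.aeval_C, map_natCast]
        haveI := charP_A (p := p) a
        have hm : ((m i : A)) ^ p = m i := by
          rw [← frobenius_def, map_natCast]
        have hsum : (v p a i + (m i : A) * algebraMap R A (a i)) ^ p =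
            v p a i ^ p + (m i : A) * algebraMap R A (a i) ^ p := by
          rw [add_pow_char, mul_pow, hm]
        have hp : algebraMap R A (a i) ^ p = algebraMap R A (a i) ^ (p - 1) * algebraMap R A (a i) := by
          rw [← pow_succ, Nat.sub_add_cancel hpf.out.one_le]
        rw [hsum, hp, algebraMap_X, map_pow]
        ring
      | zero => rw [map_zero]
      | add a b _ _ ha hb => rw [map_add, ha, hb, add_zero]
      | smul r a _ ha => rw [smul_eq_mul, map_mul, ha, mul_zero]

lemma shift_v (m : Fin n → ℕ) (i : Fin n) :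
    shift (p := p) a m (v p a i) = v p a i + algebraMap R A ((m i : R) * a i) := by
  show MvPolynomial.aeval _ (X i) = _
  rw [MvPolynomial.aeval_X]

lemma shift_comp (m m' : Fin n → ℕ) : (shift (p := p) a m).comp (shift a m') = shift a (m + m') := by
  refine algHom_ext a fun i => ?_
  rw [AlgHom.comp_apply, shift_v, map_add, shift_v, AlgHom.commutes, shift_v, Pi.add_apply,
    Nat.cast_add, add_mul, map_add, add_assoc]

lemma shift_eq_id (m : Fin n → ℕ) (hm : ∀ i, p ∣ m i) : shift (p := p) a m = AlgHom.id R A := by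
  haveI := charP_R (p := p) (n := n) (k := k)
  refine algHom_ext a fun i => ?_
  rw [shift_v, (CharP.cast_eq_zero_iff R p (m i)).2 (hm i), zero_mul, map_zero, add_zero, AlgHom.id_apply]

/-- The translation as an automorphism. -/
noncomputable def shiftEquiv (m : Fin n → ℕ) : A ≃ₐ[R] A :=
  AlgEquiv.ofAlgHom (shift a m) (shift a fun i => (p - 1) * m i)
    (by rw [shift_comp]; exact shift_eq_id a _ fun i => ⟨m i, by
      show m i + (p - 1) * m i = p * m i
      rw [add_comm, ← Nat.succ_mul, Nat.succ_eq_add_one, Nat.sub_add_cancel hpf.out.one_le]⟩)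
    (by rw [shift_comp]; exact shift_eq_id a _ fun i => ⟨m i, by
      show (p - 1) * m i + m i = p * m i
      rw [← Nat.succ_mul, Nat.succ_eq_add_one, Nat.sub_add_cancel hpf.out.one_le]⟩)

lemma shiftEquiv_v (m : Fin n → ℕ) (i : Fin n) :
    shiftEquiv (p := p) a m (v p a i) = v p a i + algebraMap R A ((m i : R) * a i) :=
  shift_v a m i

variable (ha0 : ∀ i, a i ≠ 0)

include ham ha0 in
lemma exists_nat (σ : A ≃ₐ[R] A) (i : Fin n) :
    ∃ c : ℕ, c < p ∧ σ (v p a i) = v p a i + algebraMap R A ((c : R) * a i) := by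
  classical
  haveI := isDomain (p := p) a ham
  haveI := charP_A (p := p) a
  let z := σ (v p a i) - v p a i
  let b := algebraMap R A (a i)
  have hb : b ≠ 0 := fun h => ha0 i (algebraMap_injective (p := p) a (by rw [map_zero]; exact h))
  let f : Polynomial A := Polynomial.X ^ p - Polynomial.C (b ^ (p - 1)) * Polynomial.X
  have hz : f.eval z = 0 := by
    have h1 : σ (v p a i) ^ p = algebraMap R A (a i ^ (p - 1)) * σ (v p a i) + algebraMap R A (MvPowerSeries.X i) := by
      have h := congrArg σ (u_pow (p := p) (fun i => a i ^ (p - 1)) (fun i => (MvPowerSeries.X i : R)) i)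
      rwa [map_pow, map_add, map_mul, AlgEquiv.commutes, AlgEquiv.commutes] at h
    simp only [f, Polynomial.eval_sub, Polynomial.eval_pow, Polynomial.eval_X, Polynomial.eval_mul,
      Polynomial.eval_C, z, b]
    rw [sub_pow_char, h1, v, u_pow, ← map_pow]
    ring
  have hf : f.natDegree = p := by
    have h1 : (Polynomial.C (b ^ (p - 1)) * Polynomial.X).natDegree < p :=
      lt_of_le_of_lt ((Polynomial.natDegree_C_mul_le _ _).trans Polynomial.natDegree_X_le) hpf.out.one_lt
    rw [Polynomial.natDegree_sub_eq_left_of_natDegree_lt (by rwa [Polynomial.natDegree_X_pow]),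
      Polynomial.natDegree_X_pow]
  by_contra hne
  push Not at hne
  let S : Finset A := insert z ((Finset.range p).image fun c : ℕ => (c : A) * b)
  have hcard : p < S.card := by
    rw [Finset.card_insert_of_notMem, Finset.card_image_of_injOn, Finset.card_range]
    · exact Nat.lt_succ_self p
    · intro x hx y hy hxy
      exact CharP.natCast_injOn_Iio A p (Finset.mem_range.1 hx) (Finset.mem_range.1 hy) (mul_right_cancel₀ hb hxy)
    · intro h
      obtain ⟨c, hc, hcz⟩ := Finset.mem_image.1 h
      refine hne c (Finset.mem_range.1 hc) ?_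
      rw [map_mul, map_natCast, hcz]
      simp only [z, add_sub_cancel]
  have := Polynomial.eq_zero_of_natDegree_lt_card_of_eval_eq_zero' f S (fun x hx => ?_) (hf.trans_lt hcard)
  · rw [this, Polynomial.natDegree_zero] at hf
    exact hpf.out.ne_zero hf.symm
  · rcases Finset.mem_insert.1 hx with rfl | hx
    · exact hz
    · obtain ⟨c, _, rfl⟩ := Finset.mem_image.1 hx
      simp only [f, Polynomial.eval_sub, Polynomial.eval_pow, Polynomial.eval_X, Polynomial.eval_mul,
        Polynomial.eval_C]
      rw [mul_pow, show ((c : A)) ^ p = c from (frobenius_def p (c : A)).symm.trans (map_natCast (frobenius A p) c), sub_eq_zero,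
        mul_left_comm, ← pow_succ, Nat.sub_add_cancel hpf.out.one_le]

include ham ha0 in
theorem exists_eq_shiftEquiv (σ : A ≃ₐ[R] A) :
    ∃ m : Fin n → Fin p, σ = shiftEquiv a fun i => (m i : ℕ) := by
  choose c hc hσ using exists_nat a ham ha0 σ
  refine ⟨fun i => ⟨c i, hc i⟩, AlgEquiv.coe_algHom_injective (algHom_ext a fun i => ?_)⟩
  exact (hσ i).trans (shiftEquiv_v a _ i).symm

include ha0 in
theorem shiftEquiv_injective :
    Function.Injective fun m : Fin n → Fin p => shiftEquiv (p := p) a fun i => (m i : ℕ) := by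
  intro m m' h
  funext i
  haveI := charP_R (p := p) (n := n) (k := k)
  have h1 := congrArg (fun σ : A ≃ₐ[R] A => σ (v p a i)) h
  simp only [shiftEquiv_v, add_right_inj] at h1
  exact Fin.ext (CharP.natCast_injOn_Iio R p (m i).2 (m' i).2
    (mul_right_cancel₀ (ha0 i) (algebraMap_injective a h1)))

include ham ha0 in
theorem card_aut : Nat.card (A ≃ₐ[R] A) = p ^ n := by
  rw [← Nat.card_eq_of_bijective (fun m : Fin n → Fin p => shiftEquiv (p := p) a fun i => (m i : ℕ))
    ⟨shiftEquiv_injective a ha0, fun σ => by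
      obtain ⟨m, hm⟩ := exists_eq_shiftEquiv a ham ha0 σ
      exact ⟨m, hm.symm⟩⟩, Nat.card_fun, Nat.card_eq_fintype_card, Nat.card_eq_fintype_card,
    Fintype.card_fin, Fintype.card_fin]

lemma shiftEquiv_mul (m m' : Fin n → ℕ) :
    shiftEquiv (p := p) a m * shiftEquiv a m' = shiftEquiv a (m + m') :=
  AlgEquiv.coe_algHom_injective (shift_comp a m m')

include ham ha0 in
theorem comm_aut (σ τ : A ≃ₐ[R] A) : σ * τ = τ * σ := by
  obtain ⟨m, rfl⟩ := exists_eq_shiftEquiv a ham ha0 σ
  obtain ⟨m', rfl⟩ := exists_eq_shiftEquiv a ham ha0 τ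
  rw [shiftEquiv_mul, shiftEquiv_mul, add_comm]

include ham ha0 in
theorem pow_aut (σ : A ≃ₐ[R] A) : σ ^ p = 1 := by
  obtain ⟨m, rfl⟩ := exists_eq_shiftEquiv a ham ha0 σ
  have h : ∀ j, shiftEquiv (p := p) a (fun i => (m i : ℕ)) ^ (j + 1) =
      shiftEquiv a fun i => (j + 1) * (m i : ℕ) := by
    intro j
    induction j with
    | zero => rw [pow_one]; congr 1; funext i; rw [zero_add, one_mul]
    | succ j ih =>
      rw [pow_succ, ih, shiftEquiv_mul]
      congr 1
      funext i
      rw [Pi.add_apply]
      ring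
  have h' := h (p - 1)
  rw [Nat.sub_add_cancel hpf.out.one_le] at h'
  rw [h']
  exact AlgEquiv.coe_algHom_injective (shift_eq_id a _ fun i => dvd_mul_right p _)

include ha0 in
/-- The fixed ring is the base. -/
theorem mem_range_of_fixed (b : A) (hb : ∀ σ : A ≃ₐ[R] A, σ b = b) :
    b ∈ Set.range (algebraMap R A) := by
  classical
  haveI := charP_R (p := p) (n := n) (k := k)
  let B := basis (p := p) (fun i => a i ^ (p - 1)) (fun i => (MvPowerSeries.X i : R)) (hp2 (p := p))
  let r := B.repr b
  let e0 : Fin n → Fin p := fun _ => ⟨0, hpf.out.pos⟩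
  suffices hkey : ∀ e, e ≠ e0 → r e = 0 by
    refine ⟨r e0, ?_⟩
    conv_rhs => rw [← B.sum_repr b]
    rw [Finset.sum_eq_single e0 (fun e _ he => by rw [show B.repr b e = 0 from hkey e he, zero_smul])
      (fun h => absurd (Finset.mem_univ _) h), basis_apply, mono, smul_eq]
    simp [e0, r, B]
  intro e he
  obtain ⟨i, hi⟩ : ∃ i, e i ≠ e0 i := Function.ne_iff.1 he
  suffices h : ∀ (j : ℕ) (e : Fin n → Fin p), 0 < (e i : ℕ) → p ≤ (e i : ℕ) + j → r e = 0 from
    h p e (Nat.pos_of_ne_zero fun h => hi (Fin.ext h)) (Nat.le_add_left _ _)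
  intro j
  induction j with
  | zero => intro e _ h; exact absurd (e i).2 (by omega)
  | succ j ih =>
    intro e hei hej
    let δ : Fin n → ℕ := Pi.single i 1
    let f : Fin n → Fin p := Function.update e i ⟨e i - 1, by omega⟩
    -- coefficient of `f` in the image of a monomial
    have hmono : ∀ e' : Fin n → Fin p, shiftEquiv (p := p) a δ (mono _ _ e') =
        ∑ l ∈ Finset.range ((e' i : ℕ) + 1),
          (algebraMap R A (a i ^ ((e' i : ℕ) - l) * ((e' i : ℕ).choose l : R))) *
            (u _ _ i ^ l * ∏ q ∈ Finset.univ.erase i, u _ _ q ^ (e' q : ℕ)) := by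
      intro e'
      rw [mono, map_prod, ← Finset.mul_prod_erase _ _ (Finset.mem_univ i)]
      simp only [map_pow, shiftEquiv_v]
      rw [show δ i = 1 from Pi.single_eq_same i 1, Nat.cast_one, one_mul, add_pow, Finset.sum_mul]
      refine Finset.sum_congr rfl fun l _ => ?_
      rw [Finset.prod_congr rfl fun q hq => by
        rw [show δ q = 0 from Pi.single_eq_of_ne (Finset.ne_of_mem_erase hq) 1, Nat.cast_zero, zero_mul,
          map_zero, add_zero], map_mul, map_pow, map_natCast]
      ring
    have hcoef : ∀ e' : Fin n → Fin p, B.repr (shiftEquiv (p := p) a δ (mono _ _ e')) f =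
        ∑ l : Fin p, if (l : ℕ) ≤ e' i ∧ Function.update e' i l = f then
          a i ^ ((e' i : ℕ) - l) * ((e' i : ℕ).choose l : R) else 0 := by
      intro e'
      rw [hmono, Finset.sum_range, map_sum, Finsupp.finsetSum_apply]
      have hl : ∀ l : Fin ((e' i : ℕ) + 1), B.repr ((algebraMap R A (a i ^ ((e' i : ℕ) - l) * ((e' i : ℕ).choose l : R))) *
          (u _ _ i ^ (l : ℕ) * ∏ q ∈ Finset.univ.erase i, u _ _ q ^ (e' q : ℕ))) f =
          if Function.update e' i ⟨l, by omega⟩ = f then a i ^ ((e' i : ℕ) - l) * ((e' i : ℕ).choose l : R) else 0 := by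
        intro l
        rw [← mono_update _ _ e' i ⟨l, by omega⟩, ← smul_eq, map_smul, Finsupp.smul_apply, ← basis_apply _ _ hp2,
          B.repr_self, Finsupp.single_apply, smul_ite, smul_zero, smul_eq_mul, mul_one]
      simp only [hl]
      refine Finset.sum_bij_ne_zero (fun l _ _ => (⟨l, by omega⟩ : Fin p)) (fun _ _ _ => Finset.mem_univ _)
        (fun x _ _ y _ _ h => Fin.ext (Fin.mk.inj h)) ?_ ?_
      · intro l _ hne
        have hle : (l : ℕ) ≤ e' i ∧ Function.update e' i l = f := by
          by_contra hh; exact hne (if_neg hh)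
        refine ⟨⟨l, by omega⟩, Finset.mem_univ _, ?_, Fin.ext rfl⟩
        rw [if_pos hle.2]
        rw [if_pos hle] at hne
        exact hne
      · intro l _ hne
        have hu : Function.update e' i (⟨l, by omega⟩ : Fin p) = f := by
          by_contra hh; exact hne (if_neg hh)
        rw [if_pos hu, if_pos ⟨Nat.le_of_lt_succ l.2, hu⟩]
    have hsum : ∑ e', r e' * B.repr (shiftEquiv (p := p) a δ (mono _ _ e')) f = r f := by
      conv_rhs => rw [show r f = B.repr (shiftEquiv (p := p) a δ b) f by rw [hb]]
      conv_rhs => rw [← B.sum_repr b, map_sum, map_sum, Finsupp.finsetSum_apply]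
      refine Finset.sum_congr rfl fun e' _ => ?_
      rw [map_smul, map_smul, Finsupp.smul_apply, smul_eq_mul, basis_apply]
    have hf : (f i : ℕ) = e i - 1 := by simp [f]
    have hfq : ∀ q, q ≠ i → f q = e q := fun q hq => Function.update_of_ne hq _ _
    rw [Finset.sum_eq_add e f (fun h => by
      have := congrArg (fun g : Fin n → Fin p => (g i : ℕ)) h; simp only [hf] at this; omega) (fun e' _ hne => ?_)
      (fun h => absurd (Finset.mem_univ _) h) (fun h => absurd (Finset.mem_univ _) h), hcoef, hcoef] at hsum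
    · rw [Finset.sum_eq_single (f i) (fun l _ hl => if_neg fun h => hl (by rw [← h.2, Function.update_self]))
        (fun h => absurd (Finset.mem_univ _) h),
        Finset.sum_eq_single (f i) (fun l _ hl => if_neg fun h => hl (by rw [← h.2, Function.update_self]))
        (fun h => absurd (Finset.mem_univ _) h),
        if_pos ⟨by omega, funext fun q => by
          by_cases hq : q = i
          · subst hq; rw [Function.update_self]
          · rw [Function.update_of_ne hq, hfq q hq]⟩,
        if_pos ⟨le_rfl, Function.update_eq_self i f⟩, Nat.sub_self, pow_zero, one_mul, Nat.choose_self,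
        Nat.cast_one, mul_one, add_eq_right, hf,
        show (e i : ℕ) - ((e i : ℕ) - 1) = 1 by omega, pow_one, Nat.choose_symm_of_eq_add (a := (e i : ℕ) - 1) (b := 1)
          (by omega), Nat.choose_one_right] at hsum
      rcases mul_eq_zero.1 hsum with h | h
      · exact h
      · rcases mul_eq_zero.1 h with h | h
        · exact absurd h (ha0 i)
        · exact absurd ((CharP.cast_eq_zero_iff R p _).1 h) (Nat.not_dvd_of_pos_of_lt hei (e i).2)
    · obtain ⟨hne1, hne2⟩ := hne
      rw [hcoef]
      by_cases h : r e' = 0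
      · rw [h, zero_mul]
      refine mul_eq_zero_of_right _ (Finset.sum_eq_zero fun l _ => if_neg fun hl => ?_)
      have hq : ∀ q, q ≠ i → e' q = f q := fun q hq => by rw [← hl.2, Function.update_of_ne hq]
      have hli : l = f i := by rw [← hl.2, Function.update_self]
      have hval : (f i : ℕ) ≤ e' i := hli ▸ hl.1
      have h1 : (e' i : ℕ) ≠ e i - 1 := fun h' => hne2 (funext fun q => by
        by_cases hqi : q = i
        · subst hqi; exact Fin.ext (h'.trans hf.symm)
        · exact hq q hqi)
      have h2 : (e' i : ℕ) ≠ e i := fun h' => hne1 (funext fun q => by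
        by_cases hqi : q = i
        · subst hqi; exact Fin.ext h'
        · rw [hq q hqi, hfq q hqi])
      exact h (ih e' (by omega) (by omega))

section fixedIdeal

include ham in
theorem fixed_le_pow_and_length (σ : A ≃ₐ[R] A) (hσ : ∀ i, σ (v p a i) = v p a i + algebraMap R A (a i)) :
    Ideal.span (Set.range fun t : A => σ t - t) ≤ uIdeal (p := p) a ^ p ∧
      Module.length A (A ⧸ Ideal.span (Set.range fun t : A => σ t - t)) =
        (p ^ n : ℕ∞) * Module.length R (R ⧸ Ideal.span (Set.range a)) := by
  set J := Ideal.span (Set.range fun t : A => σ t - t)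
  let I := Ideal.span (Set.range a)
  have hJ : J = I.map (algebraMap R A) := by
    refine le_antisymm (Ideal.span_le.2 ?_) (Ideal.map_le_iff_le_comap.2 (Ideal.span_le.2 ?_))
    · rintro _ ⟨t, rfl⟩
      have h : (Ideal.Quotient.mkₐ R (I.map (algebraMap R A))).comp σ.toAlgHom =
          Ideal.Quotient.mkₐ R (I.map (algebraMap R A)) := algHom_ext a fun i => by
        show Ideal.Quotient.mk _ (σ (v p a i)) = Ideal.Quotient.mk _ (v p a i)
        rw [hσ, map_add, add_eq_left, Ideal.Quotient.eq_zero_iff_mem]
        exact Ideal.mem_map_of_mem _ (Ideal.subset_span (Set.mem_range_self i))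
      exact Ideal.Quotient.eq.1 (DFunLike.congr_fun h t)
    · rintro _ ⟨i, rfl⟩
      exact Ideal.subset_span ⟨v p a i, by show σ (v p a i) - v p a i = _; rw [hσ, add_sub_cancel_left]⟩
  refine ⟨hJ ▸ le_trans (Ideal.map_mono (Ideal.span_le.2 ?_)) (map_maximalIdeal_le_pow a ham), ?_⟩
  · rintro _ ⟨i, rfl⟩
    exact a_mem a ham i
  haveI := isLocalRing (p := p) a ham
  haveI : IsLocalHom (algebraMap R A) := by
    refine ((local_hom_TFAE (algebraMap R A)).out 0 2).2 ?_
    exact (map_maximalIdeal_le a).trans_eq (maximalIdeal_eq a ham).symm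
  have hres : Module.length (ResidueField R) (ResidueField A) = 1 := by
    refine Eq.trans (b := Module.length (ResidueField A) (ResidueField A)) (Module.length_eq_of_surjective ?_) (Module.length_eq_one_iff.2 inferInstance)
    · intro z
      obtain ⟨b, rfl⟩ := residue_surjective z
      obtain ⟨r, hr⟩ := exists_sub_mem a b
      refine ⟨residue R r, ?_⟩
      rw [← maximalIdeal_eq a ham, ← residue_eq_zero_iff, map_sub, sub_eq_zero] at hr
      exact hr.symm
  have h1 := IsLocalRing.length_restrictScalars R A (A ⧸ J)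
  rw [hres, mul_one] at h1
  rw [← h1, hJ]
  let B := basis (p := p) (fun i => a i ^ (p - 1)) (fun i => (MvPowerSeries.X i : R)) (hp2 (p := p))
  have hsub : (I.map (algebraMap R A)).restrictScalars R = I • (⊤ : Submodule R A) :=
    (Ideal.smul_top_eq_map I).symm
  have e1 : (A ⧸ I.map (algebraMap R A)) ≃ₗ[R] TensorProduct R (R ⧸ I) A :=
    (Submodule.Quotient.restrictScalarsEquiv R _).symm ≪≫ₗ Submodule.quotEquivOfEq _ _ hsub ≪≫ₗ
      (TensorProduct.quotTensorEquivQuotSMul A I).symm
  rw [e1.length_eq, (TensorProduct.congr (LinearEquiv.refl R (R ⧸ I)) B.repr ≪≫ₗ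
    TensorProduct.finsuppScalarRight R R (R ⧸ I) (Fin n → Fin p)).length_eq, Module.length_finsupp,
    ENat.card_eq_coe_fintype_card, Fintype.card_fun, Fintype.card_fin, Fintype.card_fin, Nat.cast_pow]

end fixedIdeal

end Groth.Agent.WildQuotH28.AS
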