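import Mathlib.FieldTheory.Galois.Basic
import Mathlib.FieldTheory.SplittingField.Construction
import Mathlib.RingTheory.Henselian
import Mathlib.RingTheory.LocalRing.ResidueField.Basic
import Mathlib.Algebra.CharP.Lemmas
import Mathlib.Algebra.Polynomial.Roots
import Mathlib.FieldTheory.Finite.Basic
import Mathlib.Algebra.Field.ZMod

/-!
# Artin–Schreier equations with roots
-/

open Polynomial

universe u v

namespace Groth.Agent.WildQuotH28

set_option maxHeartbeats 400000 in
/-- An Artin–Schreier splitting field has degree `p` unless the equation has a root. -/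
theorem finrank_as {k : Type v} [Field k] (p : ℕ) [Fact p.Prime] [CharP k p] (c : k)
    (hno : ∀ x : k, x ^ p - x ≠ c) {L : Type v} [Field L] [Algebra k L] [FiniteDimensional k L]
    (hdeg : (X ^ p - X - C c : k[X]).degree = p) (hf0 : (X ^ p - X - C c : k[X]) ≠ 0)
    (hfs : ((X ^ p - X - C c : k[X]).map (algebraMap k L)).Splits)
    (hadj : Algebra.adjoin k ((X ^ p - X - C c : k[X]).rootSet L) = ⊤) : Module.finrank k L = p := by
  classical
  have hp := (Fact.out : p.Prime)
  haveI : CharP L p := charP_of_injective_algebraMap (algebraMap k L).injective p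
  obtain ⟨θ, hθ⟩ : ∃ θ : L, aeval θ (X ^ p - X - C c : k[X]) = 0 := by
    obtain ⟨θ, hθ⟩ := hfs.exists_eval_eq_zero (by rw [degree_map, hdeg]; exact_mod_cast hp.ne_zero)
    exact ⟨θ, by rwa [aeval_def, ← eval_map]⟩
  have hθ' : θ ^ p - θ = algebraMap k L c := by simpa [sub_eq_zero] using hθ
  -- all roots are translates of `θ` by prime-field elements
  have hroots : ∀ r : L, aeval r (X ^ p - X - C c : k[X]) = 0 → ∃ i : k, r = θ + algebraMap k L i := fun r hr => by
    have hr' : r ^ p - r = algebraMap k L c := by simpa [sub_eq_zero] using hr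
    have hd : (r - θ) ^ p - (r - θ) = 0 := by
      rw [sub_pow_char]; linear_combination hr' - hθ'
    have hmem : r - θ ∈ (Finset.univ : Finset (ZMod p)).image (ZMod.castHom (dvd_refl p) L) := by
      by_contra hnot
      let S := insert (r - θ) ((Finset.univ : Finset (ZMod p)).image (ZMod.castHom (dvd_refl p) L))
      have hdegXp : ((X : L[X]) ^ p - X).natDegree = p := FiniteField.X_pow_card_sub_X_natDegree_eq L hp.one_lt
      have h0 : ((X : L[X]) ^ p - X) ≠ 0 := FiniteField.X_pow_card_sub_X_ne_zero L hp.one_lt
      have hS : S.val ⊆ ((X : L[X]) ^ p - X).roots := fun z hz => by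
        rw [mem_roots h0]
        rcases Finset.mem_insert.1 hz with rfl | hz
        · simpa [IsRoot] using hd
        · obtain ⟨i, -, rfl⟩ := Finset.mem_image.1 hz
          show ((X : L[X]) ^ p - X).eval (ZMod.castHom (dvd_refl p) L i) = 0
          rw [eval_sub, eval_pow, eval_X, ← map_pow, ZMod.pow_card, sub_self]
      have hcard := (Multiset.card_le_card ((Multiset.le_iff_subset S.nodup).2 hS)).trans (card_roots' _)
      rw [hdegXp, Finset.card_val, Finset.card_insert_of_notMem hnot,
        Finset.card_image_of_injective _ (RingHom.injective _), Finset.card_univ, ZMod.card] at hcard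
      omega
    obtain ⟨i, -, hi⟩ := Finset.mem_image.1 hmem
    exact ⟨ZMod.castHom (dvd_refl p) k i, by
      rw [← RingHom.comp_apply (algebraMap k L),
        Subsingleton.elim ((algebraMap k L).comp (ZMod.castHom (dvd_refl p) k)) (ZMod.castHom (dvd_refl p) L), hi]
      ring⟩
  -- the minimal polynomial has full degree
  have hint : IsIntegral k θ := Algebra.IsIntegral.isIntegral θ
  have hqdvd : minpoly k θ ∣ (X ^ p - X - C c : k[X]) := minpoly.dvd k θ hθ
  let q := (minpoly k θ).map (algebraMap k L)
  have hqs : q.Splits := hfs.of_dvd (map_ne_zero hf0) (Polynomial.map_dvd (algebraMap k L) hqdvd)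
  have hqm : q.Monic := (minpoly.monic hint).map _
  have hqd : q.natDegree = (minpoly k θ).natDegree := natDegree_map _
  have hsum : ∀ M : Multiset L, (∀ r ∈ M, ∃ i : k, r = θ + algebraMap k L i) →
      ∃ i : k, M.sum = (M.card : L) * θ + algebraMap k L i := by
    intro M
    induction M using Multiset.induction with
    | empty => exact fun _ => ⟨0, by simp⟩
    | cons r M ih =>
      intro hM
      obtain ⟨i, hi⟩ := ih fun z hz => hM z (Multiset.mem_cons_of_mem hz)
      obtain ⟨j, hj⟩ := hM r (Multiset.mem_cons_self r M)
      exact ⟨i + j, by rw [Multiset.sum_cons, hi, hj, Multiset.card_cons, map_add]; push_cast; ring⟩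
  obtain ⟨i, hi⟩ := hsum q.roots fun r hr => hroots r (by
    obtain ⟨g, hg⟩ := hqdvd
    have h := (mem_roots'.1 hr).2
    rw [IsRoot, eval_map, ← aeval_def] at h
    rw [hg, map_mul, h, zero_mul])
  have hcardq : q.roots.card = (minpoly k θ).natDegree := hqd ▸ (splits_iff_card_roots.1 hqs)
  have hnext := hqs.nextCoeff_eq_neg_sum_roots_of_monic hqm
  rw [nextCoeff_map (algebraMap k L).injective, hi, hcardq] at hnext
  have hdle : (minpoly k θ).natDegree ≤ p := (natDegree_le_of_dvd hqdvd hf0).trans (natDegree_eq_of_degree_eq_some hdeg).le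
  rcases hdle.eq_or_lt with hd | hd
  · rw [← hd, ← IntermediateField.adjoin.finrank hint]
    have htop : IntermediateField.adjoin k ({θ} : Set L) = ⊤ := by
      rw [eq_top_iff]
      intro z _
      have hz : z ∈ Algebra.adjoin k ((X ^ p - X - C c : k[X]).rootSet L) := by rw [hadj]; trivial
      refine Algebra.adjoin_le (S := (IntermediateField.adjoin k ({θ} : Set L)).toSubalgebra) (fun r hr => ?_) hz
      obtain ⟨i, rfl⟩ := hroots r (mem_rootSet.1 hr).2
      exact add_mem (IntermediateField.mem_adjoin_simple_self k θ) (IntermediateField.algebraMap_mem _ i)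
    rw [htop]
    exact IntermediateField.finrank_top'.symm
  · have hd0 := minpoly.natDegree_pos hint
    have hne : ((minpoly k θ).natDegree : k) ≠ 0 := by
      rw [Ne, CharP.cast_eq_zero_iff k p]
      exact fun h => absurd (Nat.le_of_dvd hd0 h) (by omega)
    refine absurd ?_ (hno ((-(minpoly k θ).nextCoeff - i) / ((minpoly k θ).natDegree : k)))
    refine (algebraMap k L).injective ?_
    have hθk : θ = algebraMap k L ((-(minpoly k θ).nextCoeff - i) / ((minpoly k θ).natDegree : k)) := by
      rw [map_div₀, map_sub, map_neg, map_natCast, eq_div_iff (by rw [← map_natCast (algebraMap k L)]; exact (_root_.map_ne_zero _).2 hne), hnext]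
      ring
    rw [map_sub, map_pow, ← hθk, hθ']


/-- Without Galois extensions of degree `p`, Artin–Schreier equations have roots. -/
theorem exists_as_root {k : Type v} [Field k] (p : ℕ) [Fact p.Prime] [CharP k p]
    (hkp : ∀ (L : Type v) [Field L] [Algebra k L], IsGalois k L → Module.finrank k L ≠ p) (c : k) :
    ∃ x : k, x ^ p - x = c := by
  classical
  by_contra hno
  push Not at hno
  have hp := (Fact.out : p.Prime)
  let f : k[X] := X ^ p - X - C c
  have hf : f = X ^ p - (X + C c) := sub_sub _ _ _
  have hdeg : f.degree = p := by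
    rw [hf, degree_sub_eq_left_of_degree_lt, degree_X_pow]
    rw [degree_X_pow]
    exact (degree_X_add_C c).trans_lt (by exact_mod_cast hp.one_lt)
  have hsep : f.Separable := by
    rw [separable_def]
    refine ⟨0, -1, ?_⟩
    simp [f, derivative_X_pow, CharP.cast_eq_zero]
  have hf0 : f ≠ 0 := fun h => by rw [h, degree_zero] at hdeg; exact WithBot.bot_ne_coe hdeg
  let L := f.SplittingField
  exact hkp L (IsGalois.of_separable_splitting_field hsep)
    (finrank_as p c hno (L := L) hdeg hf0 (SplittingField.splits f) (SplittingField.adjoin_rootSet f))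

/-- The same over a Henselian local ring with such a coefficient field. -/
theorem exists_as_root_complete {A : Type u} [CommRing A] [IsLocalRing A]
    [IsAdicComplete (IsLocalRing.maximalIdeal A) A] (p : ℕ) [Fact p.Prime] [CharP A p]
    {k : Type v} [Field k] [Algebra k A] (hk : Function.Surjective (IsLocalRing.residue A ∘ algebraMap k A))
    (hkp : ∀ (L : Type v) [Field L] [Algebra k L], IsGalois k L → Module.finrank k L ≠ p) (e : A) :
    ∃ θ : A, θ ^ p - θ = e := by
  haveI : CharP k p := RingHom.charP (algebraMap k A) (algebraMap k A).injective p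
  obtain ⟨c, hc⟩ := hk (IsLocalRing.residue A e)
  obtain ⟨x, hx⟩ := exists_as_root p hkp c
  have hd : (X ^ p - (X + C e) : A[X]).Monic := monic_X_pow_sub (by
    exact (degree_X_add_C e).trans_lt (by exact_mod_cast (Fact.out : p.Prime).one_lt))
  obtain ⟨θ, hθ, -⟩ := HenselianRing.is_henselian (I := IsLocalRing.maximalIdeal A) (X ^ p - (X + C e)) hd
    (algebraMap k A x) (by
      rw [← IsLocalRing.residue_eq_zero_iff]
      simp only [eval_sub, eval_add, eval_pow, eval_X, eval_C, map_sub, map_add]
      rw [← hc, Function.comp_apply, ← hx]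
      simp only [map_sub, map_pow]
      ring) (by
      simp [derivative_X_pow, CharP.cast_eq_zero])
  refine ⟨θ, ?_⟩
  simp only [IsRoot, eval_sub, eval_add, eval_pow, eval_X, eval_C] at hθ
  linear_combination hθ

end Groth.Agent.WildQuotH28
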