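import Mathlib.LinearAlgebra.Dimension.Localization
import Mathlib.LinearAlgebra.FreeModule.Finite.Matrix
import Mathlib.RingTheory.Localization.FractionRing
import Mathlib.RingTheory.Localization.BaseChange
import Mathlib.RingTheory.TensorProduct.Maps
import Mathlib.RingTheory.TensorProduct.Finite

/-!
# At most rank many automorphisms of a finite domain extension
-/

open TensorProduct
open scoped nonZeroDivisors

universe u v

namespace Groth.Agent.WildQuotH28

/-- A finite domain extension has at most rank many automorphisms. -/
theorem finite_and_card_algEquiv_le (R : Type v) (A : Type u) [CommRing R] [CommRing A] [IsDomain A] [Algebra R A]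
    [Module.Finite R A] (hinj : Function.Injective (algebraMap R A)) :
    Finite (A ≃ₐ[R] A) ∧ Nat.card (A ≃ₐ[R] A) ≤ Module.finrank R A := by
  haveI : IsDomain R := hinj.isDomain _
  let K := FractionRing R
  let L := FractionRing A
  have hRL : Function.Injective (algebraMap R L) := by
    rw [IsScalarTower.algebraMap_eq R A L]
    exact (IsFractionRing.injective A L).comp hinj
  letI : Algebra K L := (IsFractionRing.lift (g := algebraMap R L) hRL).toAlgebra
  haveI : IsScalarTower R K L := IsScalarTower.of_algebraMap_eq fun r =>
    (IsFractionRing.lift_algebraMap hRL r).symm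
  haveI : Module.Finite K (K ⊗[R] A) := inferInstance
  haveI : IsLocalizedModule R⁰ (TensorProduct.mk R K A 1) :=
    (isLocalizedModule_iff_isBaseChange R⁰ K _).2 (TensorProduct.isBaseChange _ A K)
  have hfr : Module.finrank K (K ⊗[R] A) = Module.finrank R A := by
    rw [IsLocalization.finrank_eq K R⁰ le_rfl, IsLocalizedModule.finrank_eq R⁰ (TensorProduct.mk R K A 1) le_rfl]
  let F : (A ≃ₐ[R] A) → (K ⊗[R] A →ₐ[K] L) := fun e =>
    Algebra.TensorProduct.lift (Algebra.ofId K L) ((IsScalarTower.toAlgHom R A L).comp (e : A →ₐ[R] A))
      (fun _ _ => Commute.all _ _)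
  have hF : Function.Injective F := fun e e' h => AlgEquiv.ext fun a => by
    refine IsFractionRing.injective A L ?_
    have := AlgHom.congr_fun h (1 ⊗ₜ[R] a)
    simpa [F] using this
  haveI : Finite (K ⊗[R] A →ₐ[K] L) := inferInstance
  exact ⟨Finite.of_injective F hF, hfr ▸ (Nat.card_le_card_of_injective F hF).trans (card_algHom_le_finrank K _ L)⟩

end Groth.Agent.WildQuotH28
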