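import Groth.Agent.Lib.WildQuotH28.PSFree
import Groth.Agent.Lib.RegLoc.Sop
import Mathlib.RingTheory.MvPowerSeries.Expand
import Mathlib.RingTheory.MvPowerSeries.Inverse
import Mathlib.LinearAlgebra.Dual.Lemmas

/-!
# No Frobenius-fixed classes in local cohomology along two elements of a complete regular ring
-/

open IsLocalRing

universe u v

namespace Groth.Agent.WildQuotH28

section PS

open MvPowerSeries

variable {k : Type v} [Field k] (p : ℕ) [Fact p.Prime] [CharP k p] {σ : Type*} [Finite σ]

/-- A `p⁻¹`-linear form not killing a given element. -/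
theorem exists_semilinear (c : k) (hc : c ≠ 0) :
    ∃ g : k →+ k, (∀ z w, g (z ^ p * w) = z * g w) ∧ g c ≠ 0 := by
  let K0 : Subfield k := (frobenius k p).fieldRange
  obtain ⟨f, hf⟩ : ∃ f : Module.Dual K0 k, f c ≠ 0 := by
    by_contra h
    push Not at h
    exact hc ((Module.forall_dual_apply_eq_zero_iff K0 c).1 h)
  have hcb : ∀ y : K0, ∃ x : k, x ^ p = (y : k) := fun y => by
    obtain ⟨x, hx⟩ := y.2
    exact ⟨x, hx⟩
  choose rt hrt using hcb
  have hinj : Function.Injective (frobenius k p) := (frobenius k p).injective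
  refine ⟨{ toFun := fun w => rt (f w), map_zero' := hinj ?_, map_add' := fun x y => hinj ?_ }, fun z w => hinj ?_,
    fun h => hf (Subtype.ext ?_)⟩
  · simp only [map_zero, frobenius_def, hrt, ZeroMemClass.coe_zero]
  · simp only [map_add, frobenius_def, add_pow_char, hrt, AddMemClass.coe_add]
  · show frobenius k p (rt (f (z ^ p * w))) = frobenius k p (z * rt (f w))
    simp only [frobenius_def, mul_pow, hrt]
    rw [show f (z ^ p * w) = (⟨z ^ p, z, frobenius_def _ _⟩ : K0) • f w from
        f.map_smul (⟨z ^ p, z, frobenius_def _ _⟩ : K0) w]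
    rfl
  · have h' : rt (f c) = 0 := h
    rw [← hrt, h', zero_pow (Fact.out : p.Prime).ne_zero]
    rfl

/-- The Cartier-type operator of a monomial. -/
theorem exists_cartier (y : MvPowerSeries σ k) (m : σ →₀ ℕ) (hm : coeff m y ≠ 0) :
    ∃ π : MvPowerSeries σ k →+ MvPowerSeries σ k,
      (∀ z f, π (z ^ p * f) = z * π f) ∧
        coeff (Finsupp.mapRange (· / p) (Nat.zero_div p) m) (π y) ≠ 0 := by
  classical
  obtain ⟨g, hg, hgc⟩ := exists_semilinear p _ hm
  have hp : 0 < p := (Fact.out : p.Prime).pos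
  let e : σ →₀ ℕ := Finsupp.mapRange (· % p) (Nat.zero_mod p) m
  let π : MvPowerSeries σ k →+ MvPowerSeries σ k :=
    { toFun := fun f q => g (coeff (e + p • q) f)
      map_zero' := funext fun q => by
        show g (coeff (e + p • q) 0) = 0
        rw [map_zero, map_zero]
      map_add' := fun f f' => funext fun q => by
        show g (coeff (e + p • q) (f + f')) = g (coeff _ f) + g (coeff _ f')
        rw [map_add, map_add] }
  have hπ : ∀ f q, coeff q (π f) = g (coeff (e + p • q) f) := fun f q => coeff_apply (π f) q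
  refine ⟨π, fun z f => MvPowerSeries.ext fun q => ?_, ?_⟩
  · rw [hπ, coeff_mul, coeff_mul, map_sum]
    simp only [hπ]
    symm
    refine Finset.sum_of_injOn (fun x => (p • x.1, e + p • x.2)) ?_ ?_ ?_ ?_
    · intro x _ y _ h
      simp only [Prod.mk.injEq, add_right_inj] at h
      exact Prod.ext (Finsupp.ext fun s => Nat.eq_of_mul_eq_mul_left hp (by simpa using DFunLike.congr_fun h.1 s))
        (Finsupp.ext fun s => Nat.eq_of_mul_eq_mul_left hp (by simpa using DFunLike.congr_fun h.2 s))
    · intro x hx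
      simp only [Finset.mem_coe, Finset.HasAntidiagonal.mem_antidiagonal] at hx ⊢
      rw [← hx, smul_add]
      abel
    · intro x hx hnot
      by_cases hdiv : ∀ s, p ∣ x.1 s
      · exfalso
        apply hnot
        rw [Finset.HasAntidiagonal.mem_antidiagonal] at hx
        let q1 : σ →₀ ℕ := Finsupp.mapRange (· / p) (Nat.zero_div p) x.1
        have h1 : ∀ s, x.1 s = p * q1 s := fun s => by
          simp [q1, Nat.mul_div_cancel' (hdiv s)]
        have hle : ∀ s, q1 s ≤ q s := fun s => by
          have := DFunLike.congr_fun hx s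
          simp only [Finsupp.add_apply, Finsupp.smul_apply, smul_eq_mul, h1] at this
          have he : e s < p := by simpa [e] using Nat.mod_lt _ hp
          by_contra hlt
          have h2 : p * (q s + 1) ≤ p * q1 s := Nat.mul_le_mul_left p (by omega)
          rw [mul_add, mul_one] at h2
          omega
        refine ⟨(q1, q - q1), ?_, Prod.ext (Finsupp.ext fun s => by simp [h1]) (Finsupp.ext fun s => ?_)⟩
        · simp only [Finset.mem_coe, Finset.HasAntidiagonal.mem_antidiagonal]
          exact add_tsub_cancel_of_le hle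
        · have := DFunLike.congr_fun hx s
          simp only [Finsupp.add_apply, Finsupp.smul_apply, smul_eq_mul, h1, Finsupp.tsub_apply] at this ⊢
          have h2 := Nat.mul_sub p (q s) (q1 s)
          have h3 := Nat.mul_le_mul_left p (hle s)
          omega
      · push Not at hdiv
        obtain ⟨s, hs⟩ := hdiv
        rw [← map_frobenius_expand (p := p) hp.ne', coeff_map, coeff_expand_of_not_dvd p hp.ne' z hs, map_zero,
          zero_mul, map_zero]
    · intro x _
      rw [← map_frobenius_expand (p := p) hp.ne', coeff_map, coeff_expand_smul, frobenius_def, hg]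
  · rw [hπ]
    have : e + p • Finsupp.mapRange (· / p) (Nat.zero_div p) m = m :=
      Finsupp.ext fun s => by simp [e, Nat.mod_add_div]
    rwa [this]

/-- A Frobenius-fixed Čech class along two elements is zero. -/
theorem exists_eq_add_of_frobenius (r a b v w : MvPowerSeries σ k) (ha : a ≠ 0)
    (he : r ^ p - r * (a * b) ^ (p - 1) = b ^ p * v - a ^ p * w) :
    ∃ s t, r = a * s + b * t := by
  classical
  have hp : 2 ≤ p := (Fact.out : p.Prime).two_le
  let J : MvPowerSeries σ k → Prop := fun y => ∃ s t, y * r = a * s + b * t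
  obtain ⟨m0, hm0⟩ : ∃ m, coeff m a ≠ 0 := by
    by_contra h
    push Not at h
    exact ha (MvPowerSeries.ext fun m => by rw [h, map_zero])
  have hex : ∃ d, ∃ y, J y ∧ ∃ m, coeff m y ≠ 0 ∧ m.degree = d :=
    ⟨_, a, ⟨r, 0, by ring⟩, m0, hm0, rfl⟩
  obtain ⟨y, ⟨s, t, hst⟩, m, hm, hdeg⟩ := Nat.find_spec hex
  by_cases hd : m.degree = 0
  · rw [Finsupp.degree_eq_zero_iff] at hd
    subst hd
    rw [coeff_zero_eq_constantCoeff] at hm
    refine ⟨y⁻¹ * s, y⁻¹ * t, ?_⟩
    linear_combination y⁻¹ * hst - r * MvPowerSeries.inv_mul_cancel y hm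
  · exfalso
    obtain ⟨π, hπ, hπm⟩ := exists_cartier p y m hm
    have hkey : r ^ p * y = a ^ p * (b ^ (p - 1) * s - y * w) + b ^ p * (a ^ (p - 1) * t + y * v) := by
      have h1 : a ^ p = a ^ (p - 1) * a := by rw [← pow_succ, Nat.sub_add_cancel (by omega)]
      have h2 : b ^ p = b ^ (p - 1) * b := by rw [← pow_succ, Nat.sub_add_cancel (by omega)]
      rw [mul_pow] at he
      linear_combination y * he + a ^ (p - 1) * b ^ (p - 1) * hst - b ^ (p - 1) * s * h1 - a ^ (p - 1) * t * h2
    have hJ : J (π y) := ⟨π (b ^ (p - 1) * s - y * w), π (a ^ (p - 1) * t + y * v), by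
      rw [← hπ, ← hπ, ← map_add, ← hkey, hπ, mul_comm]⟩
    refine Nat.find_min hex (m := (Finsupp.mapRange (· / p) (Nat.zero_div p) m).degree) ?_
      ⟨π y, hJ, _, hπm, rfl⟩
    have hle : p * (Finsupp.mapRange (· / p) (Nat.zero_div p) m).degree ≤ m.degree := by
      have heq : Finsupp.mapRange (· % p) (Nat.zero_mod p) m + p • Finsupp.mapRange (· / p) (Nat.zero_div p) m = m :=
        Finsupp.ext fun s => by simp [Nat.mod_add_div]
      conv_rhs => rw [← heq, map_add, map_nsmul, smul_eq_mul]
      exact Nat.le_add_left _ _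
    rw [← hdeg]
    have : 2 * (Finsupp.mapRange (· / p) (Nat.zero_div p) m).degree ≤ m.degree :=
      (Nat.mul_le_mul_right _ hp).trans hle
    omega

end PS

/-- A complete regular local ring with a coefficient field is a power series ring. -/
theorem exists_psEquiv {A : Type u} [CommRing A] [IsRegularLocalRing A] [IsAdicComplete (maximalIdeal A) A]
    {n : ℕ} (hn : ringKrullDim A = n) {k : Type v} [Field k] [Algebra k A]
    (hk : Function.Surjective (residue A ∘ algebraMap k A)) :
    Nonempty (MvPowerSeries (Fin n) k ≃ₐ[k] A) := by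
  obtain ⟨x, hx⟩ := RegLoc.exists_fin_generators A
  obtain rfl : n = (maximalIdeal A).spanFinrank := (RegLoc.spanFinrank_eq_of_dim hn).symm
  obtain ⟨φ, hφ⟩ := H2Alg.PSHom.exists_algHom (A := k) (maximalIdeal A) x
    (fun i => hx ▸ Ideal.subset_span ⟨i, rfl⟩)
  have hX : Ideal.span (Set.range fun i => φ (MvPowerSeries.X i)) = maximalIdeal A := by
    rw [funext hφ]; exact hx
  obtain ⟨d, b, hd, hb⟩ := exists_basis_ps' hn hk φ
    (by rw [hX]; exact (maximalIdeal.isMaximal A).isPrime.radical)
  rw [hX] at hd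
  haveI : IsSimpleModule A (A ⧸ maximalIdeal A) :=
    isSimpleModule_iff_isCoatom.2 (maximalIdeal.isMaximal A).out
  obtain rfl : d = 1 := by
    rw [Module.length_eq_one] at hd
    exact_mod_cast hd
  have hu : IsUnit (b 0) := by
    obtain ⟨r, hr⟩ := hb.2 1
    exact IsUnit.of_mul_eq_one (φ (r 0)) (by simpa [mul_comm] using hr)
  refine ⟨AlgEquiv.ofBijective φ ⟨fun r r' h => congrFun (hb.1 (a₁ := fun _ => r) (a₂ := fun _ => r') (by simp [h])) 0,
    fun a => ?_⟩⟩
  obtain ⟨r, hr⟩ := hb.2 (a * b 0)
  exact ⟨r 0, hu.mul_right_cancel (by simpa using hr)⟩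

/-- The same in a complete regular local ring. -/
theorem exists_eq_add_of_frobenius' (p : ℕ) [Fact p.Prime] {A : Type u} [CommRing A] [IsRegularLocalRing A]
    [CharP A p] [IsAdicComplete (maximalIdeal A) A] {k : Type v} [Field k] [Algebra k A]
    (hk : Function.Surjective (residue A ∘ algebraMap k A))
    (r a b v w : A) (ha : a ≠ 0) (he : r ^ p - r * (a * b) ^ (p - 1) = b ^ p * v - a ^ p * w) :
    ∃ s t, r = a * s + b * t := by
  haveI : CharP k p := RingHom.charP (algebraMap k A) (algebraMap k A).injective p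
  obtain ⟨n, hn⟩ : ∃ n : ℕ, ringKrullDim A = n :=
    ⟨_, (IsRegularLocalRing.spanFinrank_maximalIdeal (R := A)).symm⟩
  obtain ⟨e⟩ := exists_psEquiv hn hk
  obtain ⟨s, t, h⟩ := exists_eq_add_of_frobenius p (e.symm r) (e.symm a) (e.symm b) (e.symm v) (e.symm w)
    (by simpa using ha) (by simpa only [map_sub, map_mul, map_pow] using congrArg e.symm he)
  exact ⟨e s, e t, by simpa using congrArg e h⟩

end Groth.Agent.WildQuotH28
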