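import Mathlib.RingTheory.RegularLocalRing.Defs
import Mathlib.RingTheory.Ideal.Cotangent
import Mathlib.GroupTheory.PGroup
import Mathlib.RingTheory.Nakayama
import Mathlib.Algebra.Ring.Action.Basic
import Mathlib.Algebra.CharP.Basic
import Mathlib.GroupTheory.FiniteAbelian.Basic
import Mathlib.RingTheory.Finiteness.Defs
import Mathlib.LinearAlgebra.Dimension.OrzechProperty
import Mathlib.LinearAlgebra.Dimension.Constructions

/-!
# Admissible regular systems of parameters for p-groups
-/

open IsLocalRing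

universe u v

namespace Groth.Agent.WildQuotH28

variable {A : Type u} [CommRing A] (p : ℕ) [Fact p.Prime] [CharP A p]
  {G : Type v} [Group G] [Finite G] [MulSemiringAction G A]

/-- A fixed non-zero class in a stable subquotient. -/
theorem exists_fixed_mod (hG : IsPGroup p G) (I J : Ideal A) (hI : ∀ (σ : G), ∀ x ∈ I, σ • x ∈ I)
    (hJ : ∀ (σ : G), ∀ x ∈ J, σ • x ∈ J) (hne : ¬ I ≤ J) :
    ∃ x ∈ I, x ∉ J ∧ ∀ σ : G, σ • x - x ∈ J := by
  classical
  obtain ⟨x₀, hx₀I, hx₀J⟩ := SetLike.not_le_iff_exists.1 hne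
  let S : AddSubgroup A := AddSubgroup.closure (Set.range fun σ : G => σ • x₀)
  have hSI : ∀ s ∈ S, s ∈ I := fun s hs => by
    refine (AddSubgroup.closure_le (K := I.toAddSubgroup)).2 ?_ hs
    rintro _ ⟨σ, rfl⟩
    exact hI σ _ hx₀I
  have hS : ∀ (σ : G), ∀ s ∈ S, σ • s ∈ S := fun σ s hs => by
    induction hs using AddSubgroup.closure_induction with
    | mem x hx => obtain ⟨τ, rfl⟩ := hx; exact AddSubgroup.subset_closure ⟨σ * τ, mul_smul σ τ x₀⟩
    | zero => rw [smul_zero]; exact S.zero_mem
    | add x y _ _ hx hy => rw [smul_add]; exact S.add_mem hx hy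
    | neg x _ hx => rw [smul_neg]; exact S.neg_mem hx
  let T : AddSubgroup (A ⧸ J) := S.map (Ideal.Quotient.mk J).toAddMonoidHom
  have hJ' : ∀ σ : G, J ≤ J.comap (MulSemiringAction.toRingHom G A σ) := fun σ x hx => hJ σ x hx
  let q : G → (A ⧸ J) →+* A ⧸ J := fun σ => Ideal.quotientMap J (MulSemiringAction.toRingHom G A σ) (hJ' σ)
  have hq : ∀ (σ : G) (s : A), q σ (Ideal.Quotient.mk J s) = Ideal.Quotient.mk J (σ • s) :=
    fun σ s => Ideal.quotientMap_mk
  have hT : ∀ (σ : G), ∀ t ∈ T, q σ t ∈ T := by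
    rintro σ _ ⟨s, hs, rfl⟩
    exact ⟨σ • s, hS σ s hs, (hq σ s).symm⟩
  letI : MulAction G T :=
    { smul := fun σ t => ⟨q σ t.1, hT σ _ t.2⟩
      one_smul := fun t => Subtype.ext (by
        obtain ⟨_, s, _, rfl⟩ := t
        show q 1 (Ideal.Quotient.mk J s) = Ideal.Quotient.mk J s
        rw [hq, one_smul])
      mul_smul := fun σ τ t => Subtype.ext (by
        obtain ⟨_, s, _, rfl⟩ := t
        show q (σ * τ) (Ideal.Quotient.mk J s) = q σ (q τ (Ideal.Quotient.mk J s))
        rw [hq, hq, hq, mul_smul]) }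
  have hexp : ∀ t : T, p • t = 0 := fun t => Subtype.ext (by
    obtain ⟨s, _, hst⟩ := t.2
    show p • t.1 = 0
    rw [← hst, ← map_nsmul, nsmul_eq_mul, CharP.cast_eq_zero, zero_mul, map_zero])
  haveI : AddGroup.FG T := by
    refine (AddGroup.fg_iff_addSubgroup_fg T).2 ?_
    refine (AddSubgroup.fg_iff _).2 ⟨Ideal.Quotient.mk J '' Set.range fun σ : G => σ • x₀, ?_,
      (Set.finite_range _).image _⟩
    exact (AddMonoidHom.map_closure (Ideal.Quotient.mk J).toAddMonoidHom _).symm
  haveI : Finite T := AddCommGroup.finite_of_fg_torsion T fun t =>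
    isOfFinAddOrder_iff_nsmul_eq_zero.2 ⟨p, (Fact.out : p.Prime).pos, hexp t⟩
  let t₀ : T := ⟨Ideal.Quotient.mk J x₀, x₀, AddSubgroup.subset_closure ⟨1, one_smul G x₀⟩, rfl⟩
  have ht₀ : t₀ ≠ 0 := fun h => hx₀J (Ideal.Quotient.eq_zero_iff_mem.1 (congrArg Subtype.val h))
  have hdvd : p ∣ Nat.card T := by
    have h1 : addOrderOf t₀ ∣ p := addOrderOf_dvd_of_nsmul_eq_zero (hexp t₀)
    rcases (Nat.dvd_prime (Fact.out : p.Prime)).1 h1 with h | h
    · exact absurd (AddMonoid.addOrderOf_eq_one_iff.1 h) ht₀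
    · exact h ▸ addOrderOf_dvd_natCard t₀
  obtain ⟨t, ht, hne'⟩ := hG.exists_fixed_point_of_prime_dvd_card_of_fixed_point T hdvd
    (a := 0) (fun σ => Subtype.ext (map_zero _))
  obtain ⟨s, hs, hst⟩ := t.2
  refine ⟨s, hSI s hs, fun h => hne' (Subtype.ext ?_).symm, fun σ => Ideal.Quotient.eq.1 ?_⟩
  · rw [← hst]
    exact Ideal.Quotient.eq_zero_iff_mem.2 h
  · have h := congrArg Subtype.val (ht σ)
    change q σ t.1 = t.1 at h
    rw [← hst] at h
    exact (hq σ s).symm.trans h

/-- An admissible regular system of parameters. -/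
theorem exists_admissible [IsRegularLocalRing A] (hG : IsPGroup p G)
    (hres : ∀ (σ : G) (a : A), σ • a - a ∈ maximalIdeal A) (n : ℕ) (hn : ringKrullDim A = n) :
    ∃ u : Fin n → A, ∀ τ : Fin n → G,
      Ideal.span (Set.range fun i => τ i • u i) = maximalIdeal A := by
  have hm : ∀ (σ : G), ∀ x ∈ maximalIdeal A, σ • x ∈ maximalIdeal A := fun σ x hx => by
    simpa using add_mem (hres σ x) hx
  have hm2 : ∀ (σ : G), ∀ x ∈ maximalIdeal A ^ 2, σ • x ∈ maximalIdeal A ^ 2 := fun σ x hx => by
    rw [pow_two] at hx ⊢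
    induction hx using Submodule.mul_induction_on' with
    | mem_mul_mem a ha b hb => rw [smul_mul']; exact Ideal.mul_mem_mul (hm σ a ha) (hm σ b hb)
    | add a _ b _ ha hb => rw [smul_add]; exact add_mem ha hb
  have hfr : Module.finrank (ResidueField A) (CotangentSpace A) = n := by
    exact_mod_cast (IsRegularLocalRing.iff_finrank_cotangentSpace A).1 inferInstance ▸ hn
  have key : ∀ d ≤ n, ∃ v : Fin d → maximalIdeal A,
      LinearIndependent (ResidueField A) (fun i => (maximalIdeal A).toCotangent (v i)) ∧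
      ∀ (σ : G) (i : Fin d), σ • (v i : A) - v i ∈
        Ideal.span ((fun j => (v j : A)) '' Set.Iio i) ⊔ maximalIdeal A ^ 2 := by
    intro d
    induction d with
    | zero => exact fun _ => ⟨Fin.elim0, linearIndependent_empty_type, fun _ i => i.elim0⟩
    | succ d ih =>
      intro hd
      obtain ⟨v, hli, hv⟩ := ih (Nat.le_of_succ_le hd)
      let J : Ideal A := Ideal.span (Set.range fun j => (v j : A)) ⊔ maximalIdeal A ^ 2
      have hvJ : ∀ (σ : G) (i : Fin d), σ • (v i : A) - v i ∈ J := fun σ i =>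
        (sup_le (le_sup_of_le_left (Ideal.span_mono (Set.image_subset_range _ _))) le_sup_right :
          Ideal.span ((fun j => (v j : A)) '' Set.Iio i) ⊔ maximalIdeal A ^ 2 ≤ J) (hv σ i)
      have hJ : ∀ (σ : G), ∀ x ∈ J, σ • x ∈ J := fun σ x hx => by
        obtain ⟨a, ha, b, hb, rfl⟩ := Submodule.mem_sup.1 hx
        rw [smul_add]
        refine add_mem ?_ (Ideal.mem_sup_right (hm2 σ b hb))
        have hle : Ideal.span (Set.range fun j => (v j : A)) ≤
            J.comap (MulSemiringAction.toRingHom G A σ) := by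
          refine Ideal.span_le.2 ?_
          rintro _ ⟨i, rfl⟩
          show σ • (v i : A) ∈ J
          simpa using add_mem (hvJ σ i) (Ideal.mem_sup_left (Ideal.subset_span ⟨i, rfl⟩) : (v i : A) ∈ J)
        exact hle ha
      have hsp : ∀ x : maximalIdeal A, (x : A) ∈ J → (maximalIdeal A).toCotangent x ∈
          Submodule.span (ResidueField A) (Set.range fun i => (maximalIdeal A).toCotangent (v i)) := by
        intro x hx
        obtain ⟨a, ha, b, hb, hab⟩ := Submodule.mem_sup.1 hx
        obtain ⟨c, hc⟩ := Submodule.mem_span_range_iff_exists_fun A |>.1 ha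
        have : (maximalIdeal A).toCotangent x = ∑ i, c i • (maximalIdeal A).toCotangent (v i) := by
          simp only [← map_smul, ← map_sum]
          rw [Ideal.toCotangent_eq]
          have e : (x : A) - ↑(∑ i, c i • v i) = b := by
            rw [Submodule.coe_sum]
            simp only [Submodule.coe_smul]
            rw [hc, ← hab, add_sub_cancel_left]
          rw [e]
          exact hb
        rw [this]
        exact Submodule.sum_mem _ fun i _ => Submodule.smul_of_tower_mem _ _ (Submodule.subset_span ⟨i, rfl⟩)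
      have hnot : ¬ maximalIdeal A ≤ J := fun hle => by
        have htop : Submodule.span (ResidueField A)
            (Set.range fun i => (maximalIdeal A).toCotangent (v i)) = ⊤ := eq_top_iff.2 fun z _ => by
          obtain ⟨x, rfl⟩ := (maximalIdeal A).toCotangent_surjective z
          exact hsp x (hle x.2)
        have hcard := finrank_span_eq_card hli
        rw [htop, finrank_top, Fintype.card_fin, hfr] at hcard
        omega
      obtain ⟨x, hxm, hxJ, hx⟩ := exists_fixed_mod p hG (maximalIdeal A) J hm hJ hnot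
      refine ⟨Fin.snoc v ⟨x, hxm⟩, ?_, fun σ i => ?_⟩
      · rw [show (fun i => (maximalIdeal A).toCotangent ((Fin.snoc v ⟨x, hxm⟩ : Fin (d + 1) → _) i)) =
          Fin.snoc (fun i => (maximalIdeal A).toCotangent (v i)) ((maximalIdeal A).toCotangent ⟨x, hxm⟩)
          from Fin.comp_snoc _ _ _, linearIndependent_finSnoc]
        refine ⟨hli, fun hmem => hxJ ?_⟩
        obtain ⟨c, hc⟩ := (Submodule.mem_span_range_iff_exists_fun _).1 hmem
        choose b hb using fun i => residue_surjective (c i)
        have h2 : (maximalIdeal A).toCotangent (∑ i, b i • v i) = (maximalIdeal A).toCotangent ⟨x, hxm⟩ := by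
          rw [map_sum]
          simpa [map_smul, ← hb, ← ResidueField.algebraMap_eq, algebraMap_smul] using hc
        rw [Ideal.toCotangent_eq] at h2
        have : x = (∑ i, b i * (v i : A)) - ((↑(∑ i, b i • v i) : A) - x) := by
          simp [Submodule.coe_sum]
        rw [this]
        exact sub_mem (Ideal.mem_sup_left (sum_mem fun i _ =>
          Ideal.mul_mem_left _ _ (Ideal.subset_span ⟨i, rfl⟩))) (Ideal.mem_sup_right h2)
      · induction i using Fin.lastCases with
        | last =>
          rw [Fin.snoc_last]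
          suffices hle : J ≤ _ from hle (hx σ)
          refine sup_le (le_sup_of_le_left (Ideal.span_mono ?_)) le_sup_right
          rintro _ ⟨j, rfl⟩
          exact ⟨j.castSucc, Fin.castSucc_lt_last j, by simp⟩
        | cast i =>
          rw [Fin.snoc_castSucc]
          suffices hle : Ideal.span ((fun j => (v j : A)) '' Set.Iio i) ⊔ maximalIdeal A ^ 2 ≤ _ from hle (hv σ i)
          refine sup_le (le_sup_of_le_left (Ideal.span_mono ?_)) le_sup_right
          rintro _ ⟨j, hj, rfl⟩
          exact ⟨j.castSucc, Fin.castSucc_lt_castSucc_iff.2 hj, by simp⟩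
  obtain ⟨v, hli, hv⟩ := key n le_rfl
  refine ⟨fun i => v i, fun τ => le_antisymm (Ideal.span_le.2 ?_) ?_⟩
  · rintro _ ⟨i, rfl⟩
    exact hm _ _ (v i).2
  set S := Ideal.span (Set.range fun i => τ i • (v i : A))
  have hvS : ∀ i, (v i : A) ∈ S ⊔ maximalIdeal A ^ 2 := fun i => by
    induction i using WellFoundedLT.induction with
    | ind i ih =>
      rw [← sub_sub_cancel (τ i • (v i : A)) (v i : A)]
      have hle : Ideal.span ((fun j => (v j : A)) '' Set.Iio i) ⊔ maximalIdeal A ^ 2 ≤
          S ⊔ maximalIdeal A ^ 2 := by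
        refine sup_le (Ideal.span_le.2 ?_) le_sup_right
        rintro _ ⟨j, hj, rfl⟩
        exact ih j hj
      exact sub_mem (Ideal.mem_sup_left (Ideal.subset_span ⟨i, rfl⟩)) (hle (hv (τ i) i))
  refine Submodule.le_of_le_smul_of_le_jacobson_bot (IsNoetherian.noetherian (maximalIdeal A))
    (maximalIdeal_le_jacobson _) fun x hx => ?_
  rw [smul_eq_mul, ← pow_two]
  have htop : Submodule.span (ResidueField A)
      (Set.range fun i => (maximalIdeal A).toCotangent (v i)) = ⊤ :=
    hli.span_eq_top_of_card_eq_finrank' (by rw [Fintype.card_fin, hfr])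
  have hmem : (maximalIdeal A).toCotangent ⟨x, hx⟩ ∈ Submodule.span (ResidueField A)
      (Set.range fun i => (maximalIdeal A).toCotangent (v i)) := htop ▸ Submodule.mem_top
  obtain ⟨c, hc⟩ := (Submodule.mem_span_range_iff_exists_fun _).1 hmem
  choose b hb using fun i => residue_surjective (c i)
  have h2 : (maximalIdeal A).toCotangent (∑ i, b i • v i) = (maximalIdeal A).toCotangent ⟨x, hx⟩ := by
    rw [map_sum]
    simpa [map_smul, ← hb, ← ResidueField.algebraMap_eq, algebraMap_smul] using hc
  rw [Ideal.toCotangent_eq] at h2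
  have : x = (∑ i, b i * (v i : A)) - ((↑(∑ i, b i • v i) : A) - x) := by
    simp [Submodule.coe_sum]
  rw [this]
  exact sub_mem (sum_mem fun i _ => Ideal.mul_mem_left _ _ (hvS i)) (Ideal.mem_sup_right h2)

end Groth.Agent.WildQuotH28
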