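import Groth.Agent.Lib.WildQuotH28.PSFree
import Groth.Agent.Lib.WildQuotH28.PGroup
import Groth.Agent.Lib.VarDim.Alg
import Groth.Agent.S15790
import Mathlib.RingTheory.IntegralClosure.IntegrallyClosed
import Mathlib.RingTheory.Invariant.Basic
import Mathlib.FieldTheory.Fixed

/-!
# Invariants of a complete regular local ring under a p-group fixing a coefficient field
-/

open IsLocalRing

universe u v w

namespace Groth.Agent.WildQuotH28

variable {A : Type u} [CommRing A] {G : Type w} [Group G] [MulSemiringAction G A]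

lemma smul_mem_maximalIdeal [IsLocalRing A] (σ : G) {x : A} (hx : x ∈ maximalIdeal A) :
    σ • x ∈ maximalIdeal A := fun h => hx (by
  simpa using h.map (MulSemiringAction.toRingHom G A σ⁻¹))

lemma smul_sub_mem [IsLocalRing A] {k : Type v} [CommRing k] [Algebra k A]
    (hk : Function.Surjective (residue A ∘ algebraMap k A))
    (hGk : ∀ (σ : G) (c : k), σ • algebraMap k A c = algebraMap k A c) (σ : G) (a : A) :
    σ • a - a ∈ maximalIdeal A := by
  obtain ⟨c, hc⟩ := hk (residue A a)
  have h : a - algebraMap k A c ∈ maximalIdeal A := Ideal.Quotient.eq.1 hc.symm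
  rw [show σ • a - a = σ • (a - algebraMap k A c) - (a - algebraMap k A c) by rw [smul_sub, hGk]; ring]
  exact sub_mem (smul_mem_maximalIdeal σ h) h

lemma isUnit_fixed {b : FixedPoints.subring A G} (h : IsUnit (b : A)) : IsUnit b := by
  obtain ⟨w, hw⟩ := h.exists_right_inv
  have hwf : ∀ σ : G, σ • w = w := fun σ => by
    have h1 : (b : A) * (σ • w) = 1 := by
      rw [← b.2 σ, ← smul_mul', hw, smul_one]
    calc σ • w = (w * (b : A)) * (σ • w) := by rw [mul_comm w, hw, one_mul]
      _ = w := by rw [mul_assoc, h1, mul_one]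
  exact IsUnit.of_mul_eq_one (⟨w, hwf⟩ : FixedPoints.subring A G) (Subtype.ext hw)

lemma isLocalRing_fixed [IsLocalRing A] : IsLocalRing (FixedPoints.subring A G) :=
  IsLocalRing.of_nonunits_add fun a b ha hb => by
    intro h
    have ha' : (a : A) ∈ maximalIdeal A := fun h' => ha (isUnit_fixed h')
    have hb' : (b : A) ∈ maximalIdeal A := fun h' => hb (isUnit_fixed h')
    exact (maximalIdeal A).add_mem ha' hb' (h.map (FixedPoints.subring A G).subtype)

lemma maximalIdeal_fixed [IsLocalRing A] :
    letI := isLocalRing_fixed (A := A) (G := G)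
    maximalIdeal (FixedPoints.subring A G) =
      (maximalIdeal A).comap (FixedPoints.subring A G).subtype := by
  letI := isLocalRing_fixed (A := A) (G := G)
  ext b
  exact ⟨fun hb h => hb (isUnit_fixed h), fun hb h => hb (h.map (FixedPoints.subring A G).subtype)⟩

/-- A power series substitution into invariant elements takes invariant values. -/
lemma smul_apply_eq [IsLocalRing A] [IsNoetherianRing A] {k : Type v} [CommRing k] [Algebra k A] {n : ℕ}
    (hGk : ∀ (σ : G) (c : k), σ • algebraMap k A c = algebraMap k A c)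
    (φ : MvPowerSeries (Fin n) k →ₐ[k] A) (hm : ∀ i, φ (MvPowerSeries.X i) ∈ maximalIdeal A)
    (hfix : ∀ (σ : G) (i : Fin n), σ • φ (MvPowerSeries.X i) = φ (MvPowerSeries.X i))
    (σ : G) (r : MvPowerSeries (Fin n) k) : σ • φ r = φ r := by
  let f : MvPowerSeries (Fin n) k →ₐ[k] A :=
    { (MulSemiringAction.toRingHom G A σ).comp φ.toRingHom with
      commutes' := fun c => by
        show σ • φ (algebraMap k _ c) = algebraMap k A c
        rw [AlgHom.commutes, hGk] }
  have : f = φ := H2Alg.PSHom.algHom_ext (maximalIdeal A) (fun i => show σ • φ (MvPowerSeries.X i) ∈ maximalIdeal A from smul_mem_maximalIdeal σ (hm i)) fun i => hfix σ i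
  exact AlgHom.congr_fun this r

section finite

variable (p : ℕ) [Fact p.Prime] [IsRegularLocalRing A] [CharP A p]
  [IsAdicComplete (maximalIdeal A) A] [Finite G] {k : Type v} [Field k] [Algebra k A]

/-- The invariants are Noetherian and `A` is finite over them. -/
theorem noetherian_finite (hG : IsPGroup p G)
    (hk : Function.Surjective (residue A ∘ algebraMap k A))
    (hGk : ∀ (σ : G) (c : k), σ • algebraMap k A c = algebraMap k A c) :
    IsNoetherianRing (FixedPoints.subring A G) ∧ Module.Finite (FixedPoints.subring A G) A := by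
  classical
  cases nonempty_fintype G
  obtain ⟨n, hn⟩ : ∃ n : ℕ, ringKrullDim A = n :=
    ⟨_, (IsRegularLocalRing.spanFinrank_maximalIdeal (R := A)).symm⟩
  obtain ⟨u, hu⟩ := exists_admissible p hG (smul_sub_mem hk hGk) n hn
  have hu1 : Ideal.span (Set.range u) = maximalIdeal A := by simpa using hu fun _ => 1
  have hrad := (S15790.result A G n u hu1).2 fun τ => by rw [hu τ]; exact Ideal.le_radical
  have hum : ∀ i, ∏ σ : G, σ • u i ∈ maximalIdeal A := fun i =>
    (maximalIdeal A).prod_mem (Finset.mem_univ (1 : G))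
      (by rw [one_smul, ← hu1]; exact Ideal.subset_span ⟨i, rfl⟩)
  obtain ⟨φ, hφ⟩ := H2Alg.PSHom.exists_algHom (A := k) (maximalIdeal A) (fun i => ∏ σ : G, σ • u i) hum
  have hX : (fun i => φ (MvPowerSeries.X i)) = fun i => ∏ σ : G, σ • u i := funext hφ
  have hle : Ideal.span (Set.range fun i => ∏ σ : G, σ • u i) ≤ maximalIdeal A :=
    Ideal.span_le.2 (by rintro _ ⟨i, rfl⟩; exact hum i)
  obtain ⟨d, b, -, hb⟩ := exists_basis_ps' hn hk φ (by
    rw [hX]
    exact le_antisymm ((Ideal.radical_mono hle).trans (maximalIdeal.isMaximal A).isPrime.radical.le) hrad)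
  have hfix : ∀ (σ : G) (r : MvPowerSeries (Fin n) k), σ • φ r = φ r :=
    smul_apply_eq hGk φ (fun i => by rw [hφ]; exact hum i) fun σ i => by
      rw [hφ, Finset.smul_prod']
      exact Fintype.prod_equiv (Equiv.mulLeft σ) _ _ fun τ => (mul_smul σ τ (u i)).symm
  let ψ : MvPowerSeries (Fin n) k →+* FixedPoints.subring A G :=
    φ.toRingHom.codRestrict (FixedPoints.subring A G) fun r σ => hfix σ r
  letI : Algebra (MvPowerSeries (Fin n) k) A := φ.toRingHom.toAlgebra
  letI : Algebra (MvPowerSeries (Fin n) k) (FixedPoints.subring A G) := ψ.toAlgebra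
  haveI : IsScalarTower (MvPowerSeries (Fin n) k) (FixedPoints.subring A G) A :=
    IsScalarTower.of_algebraMap_eq fun _ => rfl
  haveI : Module.Finite (MvPowerSeries (Fin n) k) A := by
    refine Module.Finite.of_surjective (Fintype.linearCombination (MvPowerSeries (Fin n) k) b) fun a => ?_
    obtain ⟨r, hr⟩ := hb.2 a
    refine ⟨r, ?_⟩
    rw [Fintype.linearCombination_apply, ← hr]
    exact Finset.sum_congr rfl fun i _ => Algebra.smul_def (r i) (b i)
  haveI : IsNoetherian (MvPowerSeries (Fin n) k) A := isNoetherian_of_isNoetherianRing_of_finite _ _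
  haveI : IsNoetherian (MvPowerSeries (Fin n) k) (FixedPoints.subring A G) :=
    isNoetherian_of_injective (IsScalarTower.toAlgHom (MvPowerSeries (Fin n) k) (FixedPoints.subring A G) A).toLinearMap
      Subtype.coe_injective
  exact ⟨isNoetherian_of_tower (MvPowerSeries (Fin n) k) inferInstance, Module.Finite.of_restrictScalars_finite (MvPowerSeries (Fin n) k) _ _⟩

end finite

/-- An ideal power of `A` meets the invariants inside a given power of their maximal ideal. -/
theorem exists_pow_inf_le [IsLocalRing A] [IsNoetherianRing A] [Finite G]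
    [IsNoetherianRing (FixedPoints.subring A G)] [Module.Finite (FixedPoints.subring A G) A] (j : ℕ) :
    ∃ N : ℕ, ∀ b : FixedPoints.subring A G, (b : A) ∈ maximalIdeal A ^ N →
      b ∈ (maximalIdeal A).comap (FixedPoints.subring A G).subtype ^ j := by
  set I := (maximalIdeal A).comap (FixedPoints.subring A G).subtype with hI
  let M : Ideal A := I.map (algebraMap (FixedPoints.subring A G) A)
  letI := isLocalRing_fixed (A := A) (G := G)
  have hrad : maximalIdeal A ≤ M.radical := by
    rw [Ideal.radical_eq_sInf, le_sInf_iff]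
    rintro P ⟨hMP, hP⟩
    haveI := hP
    have hc : P.comap (algebraMap (FixedPoints.subring A G) A) = maximalIdeal (FixedPoints.subring A G) := by
      refine ((maximalIdeal.isMaximal _).eq_of_le (hP.comap _).ne_top ?_).symm
      rw [maximalIdeal_fixed]
      exact Ideal.map_le_iff_le_comap.1 hMP
    haveI hmax : (P.comap (algebraMap (FixedPoints.subring A G) A)).IsMaximal := hc ▸ maximalIdeal.isMaximal _
    exact (IsLocalRing.eq_maximalIdeal (Ideal.isMaximal_of_isIntegral_of_isMaximal_comap P hmax)).ge
  obtain ⟨t, ht⟩ := Ideal.exists_pow_le_of_le_radical_of_fg hrad (IsNoetherian.noetherian _)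
  obtain ⟨c, hc⟩ := I.exists_pow_inf_eq_pow_smul
    (Submodule.map (Algebra.linearMap (FixedPoints.subring A G) A) ⊤)
  refine ⟨t * (j + c), fun b hb => ?_⟩
  have h1 : (b : A) ∈ I ^ (j + c) • (⊤ : Submodule (FixedPoints.subring A G) A) := by
    rw [Ideal.smul_top_eq_map, Submodule.restrictScalars_mem, Ideal.map_pow]
    rw [pow_mul] at hb
    exact Ideal.pow_right_mono ht _ hb
  have h2 : (b : A) ∈ I ^ (j + c - c) • (I ^ c • (⊤ : Submodule (FixedPoints.subring A G) A) ⊓
      Submodule.map (Algebra.linearMap (FixedPoints.subring A G) A) ⊤) :=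
    (hc (j + c) (Nat.le_add_left _ _)).le ⟨h1, b, trivial, rfl⟩
  have h3 : (b : A) ∈ Submodule.map (Algebra.linearMap (FixedPoints.subring A G) A) (I ^ j • ⊤) := by
    rw [Submodule.map_smul'']
    rw [Nat.add_sub_cancel] at h2
    exact Submodule.smul_mono le_rfl inf_le_right h2
  obtain ⟨b', hb', he⟩ := h3
  rw [smul_eq_mul, Ideal.mul_top] at hb'
  rwa [Subtype.ext he] at hb'

/-- The invariants are complete. -/
theorem isAdicComplete_fixed [IsLocalRing A] [IsNoetherianRing A] [Finite G] [IsAdicComplete (maximalIdeal A) A]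
    [IsNoetherianRing (FixedPoints.subring A G)] [Module.Finite (FixedPoints.subring A G) A] :
    IsAdicComplete ((maximalIdeal A).comap (FixedPoints.subring A G).subtype)
      (FixedPoints.subring A G) := by
  set I := (maximalIdeal A).comap (FixedPoints.subring A G).subtype with hI
  letI := isLocalRing_fixed (A := A) (G := G)
  haveI : IsHausdorff I (FixedPoints.subring A G) :=
    IsHausdorff.of_le_jacobson I _ (by
      rw [jacobson_eq_maximalIdeal ⊥ bot_ne_top, maximalIdeal_fixed])
  have hle : ∀ (i : ℕ) (b : FixedPoints.subring A G), b ∈ I ^ i → (b : A) ∈ maximalIdeal A ^ i :=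
    fun i b hb => Ideal.le_comap_pow _ i hb
  refine { toIsHausdorff := inferInstance, toIsPrecomplete := ⟨fun f hf => ?_⟩ }
  simp only [SModEq.sub_mem, smul_eq_mul, Ideal.mul_top] at hf ⊢
  obtain ⟨L, hL⟩ := IsPrecomplete.prec (I := maximalIdeal A) inferInstance (f := fun i => (f i : A))
    (fun {a b} hab => by
      rw [SModEq.sub_mem, smul_eq_mul, Ideal.mul_top]
      exact hle a _ (hf hab))
  simp only [SModEq.sub_mem, smul_eq_mul, Ideal.mul_top] at hL
  have hfix : ∀ σ : G, σ • L = L := fun σ => by
    rw [← sub_eq_zero]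
    refine IsHausdorff.haus (I := maximalIdeal A) inferInstance _ fun i => ?_
    rw [SModEq.zero, smul_eq_mul, Ideal.mul_top]
    have h2 : σ • ((f i : A) - L) ∈ maximalIdeal A ^ i := by
      have := Ideal.mem_map_of_mem (MulSemiringAction.toRingHom G A σ) (hL i)
      rw [Ideal.map_pow] at this
      refine Ideal.pow_right_mono ?_ i this
      exact Ideal.map_le_iff_le_comap.2 fun x hx => smul_mem_maximalIdeal σ hx
    rw [show σ • L - L = ((f i : A) - L) - σ • ((f i : A) - L) by rw [smul_sub, (f i).2 σ]; ring]
    exact sub_mem (hL i) h2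
  refine ⟨⟨L, hfix⟩, fun i => ?_⟩
  obtain ⟨N, hN⟩ := exists_pow_inf_le (A := A) (G := G) i
  have h1 : f (max N i) - ⟨L, hfix⟩ ∈ I ^ i :=
    hN _ (Ideal.pow_le_pow_right (le_max_left N i) (hL (max N i)))
  have h2 := add_mem (hf (le_max_right N i)) h1
  rwa [sub_add_sub_cancel] at h2

/-- Invariants of a normal domain are normal. -/
theorem isIntegrallyClosed_fixed [IsDomain A] [IsIntegrallyClosed A] :
    IsIntegrallyClosed (FixedPoints.subring A G) := by
  refine (isIntegrallyClosed_iff (FractionRing (FixedPoints.subring A G))).2 fun {x} hx => ?_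
  let j : FractionRing (FixedPoints.subring A G) →+* FractionRing A :=
    IsFractionRing.lift (g := (algebraMap A (FractionRing A)).comp (FixedPoints.subring A G).subtype)
      ((IsFractionRing.injective A (FractionRing A)).comp Subtype.coe_injective)
  have hj : ∀ b : FixedPoints.subring A G,
      j (algebraMap _ _ b) = algebraMap A (FractionRing A) (b : A) := fun b => IsFractionRing.lift_algebraMap _ b
  have hjx : IsIntegral A (j x) := by
    obtain ⟨P, hP, hP0⟩ := hx
    refine ⟨P.map (FixedPoints.subring A G).subtype, hP.map _, ?_⟩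
    rw [Polynomial.eval₂_map]
    have : (algebraMap A (FractionRing A)).comp (FixedPoints.subring A G).subtype = j.comp (algebraMap _ _) :=
      RingHom.ext fun b => (hj b).symm
    rw [this, ← Polynomial.hom_eval₂, hP0, map_zero]
  obtain ⟨a, ha⟩ := IsIntegrallyClosed.isIntegral_iff.1 hjx
  obtain ⟨num, den, hden, hnd⟩ := IsFractionRing.div_surjective (FixedPoints.subring A G) x
  have hd0 : (den : A) ≠ 0 := fun h => nonZeroDivisors.ne_zero hden (Subtype.ext h)
  have hmul : a * (den : A) = (num : A) := by
    refine IsFractionRing.injective A (FractionRing A) ?_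
    rw [map_mul, ha, ← hj, ← hj, ← map_mul, ← hnd, div_mul_cancel₀]
    exact fun h => nonZeroDivisors.ne_zero hden (IsFractionRing.injective _ _ (by rw [h, map_zero]))
  have hfix : ∀ σ : G, σ • a = a := fun σ => by
    refine mul_right_cancel₀ hd0 ?_
    have e := congrArg (σ • ·) hmul
    simp only [smul_mul'] at e
    rw [den.2 σ, num.2 σ, ← hmul] at e
    exact e
  exact ⟨⟨a, hfix⟩, j.injective (by rw [hj, ← ha])⟩

/-- Invariants have the same dimension. -/
theorem ringKrullDim_fixed [Finite G] :
    ringKrullDim (FixedPoints.subring A G) = ringKrullDim A := by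
  haveI : Algebra.IsInvariant (FixedPoints.subring A G) A G := ⟨fun x h => ⟨⟨x, h⟩, rfl⟩⟩
  haveI := Algebra.IsInvariant.isIntegral (FixedPoints.subring A G) A G
  exact (VarDim.ringKrullDim_eq_of_isIntegral Subtype.coe_injective).symm

end Groth.Agent.WildQuotH28
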