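import Groth.Agent.Lib.WildQuotH28.PurelyInsep
import Groth.Agent.Lib.WildQuotH28.FrobColon
import Groth.Agent.Lib.WildQuotH28.ASRoot
import Groth.Agent.Lib.RegLoc.UFD

/-!
# Automorphisms of the invariants lift
-/

open IsLocalRing Polynomial

universe u v w

namespace Groth.Agent.WildQuotH28

variable {A : Type u} [CommRing A] {G : Type w} [Group G] [MulSemiringAction G A]

local notation "BB" => FixedPoints.subring A G

lemma trace_fixed [Fintype G] (x : A) (τ : G) : τ • (∑ g : G, g • x) = ∑ g : G, g • x := by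
  rw [Finset.smul_sum]
  exact Fintype.sum_equiv (Equiv.mulLeft τ) _ _ fun g => (mul_smul τ g x).symm

lemma prod_fixed [Fintype G] (x : A) (τ : G) : τ • (∏ g : G, g • x) = ∏ g : G, g • x := by
  rw [Finset.smul_prod']
  exact Fintype.prod_equiv (Equiv.mulLeft τ) _ _ fun g => (mul_smul τ g x).symm

/-- Powers of invariants in the maximal ideal are traces. -/
theorem exists_trace_eq_pow [Fintype G] [IsLocalRing A]
    (hram : ∀ P : Ideal A, P.IsPrime → P ≠ maximalIdeal A → P.inertia G = ⊥)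
    (b : BB) (hb : (b : A) ∈ maximalIdeal A) :
    ∃ N : ℕ, 0 < N ∧ ∃ a : A, ∑ g : G, g • a = (b : A) ^ N := by
  classical
  let T : Ideal BB :=
    { carrier := {b | ∃ a : A, ∑ g : G, g • a = (b : A)}
      zero_mem' := ⟨0, by simp⟩
      add_mem' := by
        rintro x y ⟨a, ha⟩ ⟨c, hc⟩
        exact ⟨a + c, by simp [smul_add, Finset.sum_add_distrib, ha, hc]⟩
      smul_mem' := by
        rintro c x ⟨a, ha⟩
        refine ⟨(c : A) * a, ?_⟩
        rw [show ((c • x : BB) : A) = (c : A) * (x : A) from rfl, ← ha, Finset.mul_sum]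
        exact Finset.sum_congr rfl fun g _ => by rw [smul_mul', c.2 g] }
  haveI : Algebra.IsInvariant BB A G := ⟨fun x h => ⟨⟨x, h⟩, rfl⟩⟩
  haveI := Algebra.IsInvariant.isIntegral BB A G
  have hmem : b ∈ T.radical := by
    rw [Ideal.radical_eq_sInf, Ideal.mem_sInf]
    rintro P ⟨hTP, hP⟩
    haveI := hP
    obtain ⟨Q, -, hQ, hQP⟩ := Ideal.exists_ideal_over_prime_of_isIntegral P (⊥ : Ideal A)
      (fun x hx => by
        rw [Ideal.mem_comap, Ideal.mem_bot] at hx
        rw [Subtype.coe_injective (hx.trans (ZeroMemClass.coe_zero _).symm)]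
        exact P.zero_mem)
    haveI := hQ
    by_cases hQm : Q = maximalIdeal A
    · rw [← hQP, hQm]; exact hb
    obtain ⟨f, hf, hf1, hf0⟩ := exists_orbit_separate Q (hram Q hQ hQm) (1 : G)
      (Finset.univ.erase 1) (Finset.notMem_erase _ _)
    refine absurd ?_ hf1
    have key : ∀ f ∈ orbitSpan A G, ∑ g : G, f g ∈ Q := fun f hf => by
      induction hf using Submodule.span_induction with
      | mem f hf =>
        obtain ⟨x, rfl⟩ := hf
        have hx : (⟨∑ g : G, g • x, trace_fixed x⟩ : BB) ∈ P := hTP ⟨x, rfl⟩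
        rw [← hQP] at hx
        exact hx
      | zero => simp
      | add f g _ _ hf hg => simpa [Finset.sum_add_distrib] using add_mem hf hg
      | smul c f _ hf => simpa [← Finset.mul_sum] using Q.mul_mem_left c hf
    have h1 := key f hf
    rwa [Finset.sum_eq_single 1 (fun g _ hg => hf0 g (Finset.mem_erase.2 ⟨hg, Finset.mem_univ _⟩))
      (fun h => absurd (Finset.mem_univ _) h)] at h1
  obtain ⟨N, hN⟩ := hmem
  obtain ⟨a, ha⟩ := T.mul_mem_left b hN
  exact ⟨N + 1, N.succ_pos, a, by rw [ha, pow_succ']; rfl⟩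

variable (p : ℕ) [Fact p.Prime] [CharP A p]

lemma as_fixed {σ : G} {γ c : A} (hγ : σ • γ = γ + c) (hc : σ • c = c) :
    σ • (γ ^ p - c ^ (p - 1) * γ) = γ ^ p - c ^ (p - 1) * γ := by
  have hp1 : p - 1 + 1 = p := Nat.sub_add_cancel (Fact.out : p.Prime).one_le
  rw [smul_sub, smul_pow', smul_mul', smul_pow', hγ, hc, add_pow_char, mul_add, ← pow_succ, hp1]
  ring

lemma fixed_of_fixed (hcard : Nat.card G = p) {σ : G} (hσ : σ ≠ 1) {y : A} (hy : σ • y = y) (τ : G) :
    τ • y = y := by
  have hs : σ ∈ MulAction.stabilizer G y := hy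
  exact (Subgroup.zpowers_le.2 hs) (mem_zpowers_of_prime_card hcard hσ)

/-- The conjugates of an Artin–Schreier generator are distinct. -/
lemma conj_injective (hcard : Nat.card G = p) {σ : G} {α : A} {s : A} (hs : s ≠ 0)
    (hα : σ • α = α + s) : Function.Injective fun g : G => g • α := by
  intro g h hgh
  by_contra hne
  have h1 : (h⁻¹ * g) • α = α := by rw [mul_smul, show g • α = h • α from hgh, inv_smul_smul]
  have h2 := fixed_of_fixed p hcard (fun he => hne (inv_mul_eq_one.1 he).symm) h1 σ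
  rw [hα] at h2
  exact hs (add_eq_left.1 h2)

variable [IsDomain A] [IsIntegrallyClosed A] [Finite G]

/-- An invariant automorphism lifts as soon as the transported equation has a root. -/
theorem exists_lift_of_root (hcard : Nat.card G = p) (φ : BB ≃+* BB) (σ : G) (hσ : σ ≠ 1)
    (s g : BB) (hs : s ≠ 0) (α α' : A) (hα : σ • α = α + s)
    (hg : α ^ p - (s : A) ^ (p - 1) * α = g)
    (hα' : α' ^ p - (φ s : A) ^ (p - 1) * α' = φ g) :
    ∃ ψ : A →+* A, Function.Injective ψ ∧ ∀ b : BB, ψ (b : A) = φ b := by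
  classical
  cases nonempty_fintype G
  let ι : BB →+* A := (FixedPoints.subring A G).subtype
  let ι' : BB →+* A := ι.comp φ.toRingHom
  have hp := (Fact.out : p.Prime)
  have hcard' : Fintype.card G = p := by rw [← Nat.card_eq_fintype_card, hcard]
  let P0 : Polynomial BB := X ^ p - (C (s ^ (p - 1)) * X + C g)
  have hdegP0 : (C (s ^ (p - 1)) * X + C g : Polynomial BB).degree < p :=
    (degree_linear_le).trans_lt (by exact_mod_cast hp.one_lt)
  have hmon : P0.Monic := monic_X_pow_sub hdegP0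
  have hP0d : P0.natDegree = p := by
    refine natDegree_eq_of_degree_eq_some ?_
    rw [degree_sub_eq_left_of_degree_lt (by rwa [degree_X_pow]), degree_X_pow]
  have hP0α : P0.eval₂ ι α = 0 := by
    simp only [P0, eval₂_sub, eval₂_add, eval₂_mul, eval₂_pow, eval₂_X, eval₂_C, map_pow]
    show α ^ p - ((s : A) ^ (p - 1) * α + g) = 0
    rw [← hg]; ring
  have hP0α' : P0.eval₂ ι' α' = 0 := by
    simp only [P0, eval₂_sub, eval₂_add, eval₂_mul, eval₂_pow, eval₂_X, eval₂_C, map_pow]
    show α' ^ p - ((φ s : A) ^ (p - 1) * α' + φ g) = 0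
    rw [← hα']; ring
  have heq : ∀ P : Polynomial BB, P.eval₂ ι α = 0 → P.eval₂ ι' α' = 0 := by
    intro P hP
    have hR : (P %ₘ P0).eval₂ ι α = 0 := by
      rw [← modByMonic_add_div P P0, eval₂_add, eval₂_mul, hP0α, zero_mul, add_zero] at hP
      exact hP
    have hR0 : P %ₘ P0 = 0 := by
      refine map_injective ι Subtype.coe_injective ?_
      rw [Polynomial.map_zero]
      refine eq_zero_of_natDegree_lt_card_of_eval_eq_zero _ (conj_injective p hcard
        (fun h => hs (Subtype.ext h)) hα) (fun h => ?_) ?_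
      · have e : (MulSemiringAction.toRingHom G A h).comp ι = ι := RingHom.ext fun b => b.2 h
        have := hom_eval₂ (P %ₘ P0) ι (MulSemiringAction.toRingHom G A h) α
        rw [e, hR, map_zero] at this
        rw [eval_map]
        exact this.symm
      · rw [hcard', natDegree_map_eq_of_injective Subtype.coe_injective, ← hP0d]
        exact natDegree_modByMonic_lt P hmon fun h1 => by rw [h1, natDegree_one] at hP0d; exact hp.ne_zero hP0d.symm
    rw [← modByMonic_add_div P P0, eval₂_add, eval₂_mul, hP0α', zero_mul, add_zero, hR0, eval₂_zero]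
  -- Lagrange interpolation
  let Dv : A := ∏ h ∈ Finset.univ.erase (1 : G), (α - h • α)
  have hconj : ∀ h : G, σ • (h • α - α) = h • α - α := fun h => by
    have hc : σ * h = h * σ := by
      obtain ⟨i, rfl⟩ := (mem_powers_iff_mem_zpowers.2 (mem_zpowers_of_prime_card hcard hσ : h ∈ Subgroup.zpowers σ))
      exact ((Commute.refl σ).pow_right i).eq
    rw [smul_sub, smul_smul, hc, mul_smul, hα, smul_add, s.2 h]
    ring
  have hDfix : ∀ τ : G, τ • Dv = Dv := fun τ => by
    refine fixed_of_fixed p hcard hσ ?_ τ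
    rw [Finset.smul_prod']
    refine Finset.prod_congr rfl fun h _ => ?_
    rw [show α - h • α = -(h • α - α) by ring, smul_neg, hconj]
  let D : BB := ⟨Dv, hDfix⟩
  have hD0 : D ≠ 0 := fun h => by
    obtain ⟨x, hx, hx0⟩ := Finset.prod_eq_zero_iff.1 (congrArg Subtype.val h)
    exact (Finset.mem_erase.1 hx).1 (conj_injective p hcard (fun h => hs (Subtype.ext h)) hα
      (show x • α = (1 : G) • α by rw [one_smul]; exact (sub_eq_zero.1 hx0).symm))
  have hrep : ∀ x : A, ∃ P : Polynomial BB, P.eval₂ ι α = (D : A) * x := by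
    intro x
    let L : Polynomial A := ∑ g : G, C (g • x) * ∏ h ∈ Finset.univ.erase g, (X - C (h • α))
    have hLinv : ∀ τ : G, L.map (MulSemiringAction.toRingHom G A τ) = L := fun τ => by
      simp only [L, Polynomial.map_sum, Polynomial.map_mul, map_C, Polynomial.map_prod, Polynomial.map_sub, map_X,
        MulSemiringAction.toRingHom_apply, smul_smul]
      refine Fintype.sum_equiv (Equiv.mulLeft τ) _ _ fun g => ?_
      congr 1
      refine Finset.prod_equiv (Equiv.mulLeft τ) (fun h => ?_) (fun h _ => rfl)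
      simp
    have hLmem : L ∈ Polynomial.lifts ι := by
      rw [lifts_iff_coeff_lifts]
      intro m
      refine ⟨⟨L.coeff m, fun τ => ?_⟩, rfl⟩
      conv_rhs => rw [← hLinv τ]
      rw [coeff_map]
      rfl
    obtain ⟨P, hP⟩ := (mem_lifts _).1 hLmem
    refine ⟨P, ?_⟩
    rw [← eval_map, hP]
    simp only [L, eval_finsetSum, eval_mul, eval_C, eval_prod, eval_sub, eval_X]
    rw [Finset.sum_eq_single (1 : G)]
    · rw [one_smul, mul_comm]
    · intro g _ hg
      rw [Finset.prod_eq_zero (Finset.mem_erase.2 ⟨Ne.symm hg, Finset.mem_univ _⟩) (by rw [one_smul, sub_self]),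
        mul_zero]
    · simp
  choose P hP using hrep
  have hφD : (φ D : A) ≠ 0 := fun h => hD0 (by
    have h' : φ D = 0 := Subtype.ext h
    simpa using h')
  have hint : ∀ x : A, ∃ y : A, (φ D : A) * y = (P x).eval₂ ι' α' := by
    intro x
    haveI : Algebra.IsInvariant BB A G := ⟨fun x h => ⟨⟨x, h⟩, rfl⟩⟩
    obtain ⟨Q, hQ, hQ0⟩ := (Algebra.IsInvariant.isIntegral BB A G).isIntegral x
    let H : Polynomial BB := ∑ i ∈ Finset.range (Q.natDegree + 1), C (Q.coeff i * D ^ (Q.natDegree - i)) * P x ^ i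
    have hH : ∀ (j : BB →+* A) (z : A), H.eval₂ j z =
        ∑ i ∈ Finset.range (Q.natDegree + 1), j (Q.coeff i) * j D ^ (Q.natDegree - i) * (P x).eval₂ j z ^ i := by
      intro j z
      simp only [H, eval₂_finsetSum, eval₂_mul, eval₂_C, eval₂_pow, map_mul, map_pow]
    have h0 : H.eval₂ ι α = 0 := by
      rw [hH, hP]
      have : (D : A) ^ Q.natDegree * Q.eval₂ ι x = 0 := by rw [show Q.eval₂ ι x = 0 from hQ0, mul_zero]
      rw [eval₂_eq_sum_range, Finset.mul_sum] at this
      rw [← this]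
      refine Finset.sum_congr rfl fun i hi => ?_
      rw [mul_pow, show ι D = (D : A) from rfl]
      have hi' : Q.natDegree - i + i = Q.natDegree := Nat.sub_add_cancel (by simpa [Nat.lt_succ_iff] using hi)
      conv_rhs => rw [← hi', pow_add]
      ring
    have h1 := heq H h0
    rw [hH] at h1
    have hD' : algebraMap A (FractionRing A) (φ D : A) ≠ 0 := by simpa using hφD
    obtain ⟨y, hy⟩ := IsIntegrallyClosed.isIntegral_iff.1 (show IsIntegral A
        (algebraMap A (FractionRing A) ((P x).eval₂ ι' α') / algebraMap A (FractionRing A) (φ D : A)) from by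
      refine ⟨Q.map ι', hQ.map _, ?_⟩
      rw [eval₂_map, eval₂_eq_sum_range]
      refine mul_left_cancel₀ (pow_ne_zero Q.natDegree hD') ?_
      rw [mul_zero, Finset.mul_sum, ← map_zero (algebraMap A (FractionRing A)), ← h1, map_sum]
      refine Finset.sum_congr rfl fun i hi => ?_
      have hi' : Q.natDegree - i + i = Q.natDegree := Nat.sub_add_cancel (by simpa [Nat.lt_succ_iff] using hi)
      rw [RingHom.comp_apply, map_mul, map_mul, map_pow, map_pow, div_pow,
        show ι' D = (φ D : A) from rfl]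
      conv_lhs => rw [← hi', pow_add]
      have e : ∀ (a w : FractionRing A) (j : ℕ), a ≠ 0 → a ^ j * (w ^ j / a ^ j) = w ^ j := fun a w j ha => by
        field_simp
      generalize algebraMap A (FractionRing A) (φ D : A) = a' at hD' ⊢
      generalize algebraMap A (FractionRing A) (Polynomial.eval₂ ι' α' (P x)) = w'
      have := e a' w' i hD'
      linear_combination (algebraMap A (FractionRing A) (ι' (Q.coeff i)) * a' ^ (Q.natDegree - i)) * this)
    refine ⟨y, IsFractionRing.injective A (FractionRing A) ?_⟩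
    rw [map_mul, hy, mul_div_cancel₀ _ hD']
  choose ψ hψ using hint
  have hu : ∀ (x : A) (R : Polynomial BB), R.eval₂ ι α = (D : A) * x → (φ D : A) * ψ x = R.eval₂ ι' α' := by
    intro x R hR
    rw [hψ]
    refine sub_eq_zero.1 ?_
    rw [← eval₂_sub]
    exact heq _ (by rw [eval₂_sub, hP, hR, sub_self])
  have hb : ∀ b : BB, ψ (b : A) = φ b := fun b => by
    refine mul_left_cancel₀ hφD ?_
    rw [hu (b : A) (C (D * b)) (by rw [eval₂_C]; rfl), eval₂_C]
    show ((φ (D * b) : BB) : A) = _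
    rw [map_mul]; rfl
  have hmul : ∀ x y, ψ (x * y) = ψ x * ψ y := fun x y => by
    refine mul_left_cancel₀ (mul_ne_zero hφD hφD) ?_
    have h1 := heq (C D * P (x * y) - P x * P y) (by
      rw [eval₂_sub, eval₂_mul, eval₂_C, eval₂_mul, hP, hP, hP, show ι D = (D : A) from rfl]; ring)
    rw [eval₂_sub, eval₂_mul, eval₂_C, eval₂_mul, ← hψ, ← hψ, ← hψ, show ι' D = (φ D : A) from rfl] at h1
    linear_combination h1
  have hadd : ∀ x y, ψ (x + y) = ψ x + ψ y := fun x y => by
    refine mul_left_cancel₀ hφD ?_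
    rw [hu (x + y) (P x + P y) (by rw [eval₂_add, hP, hP, mul_add]), eval₂_add, ← hψ, ← hψ, mul_add]
  have h1 : ψ 1 = 1 := by
    have := hb 1
    simpa using this
  have h0 : ψ 0 = 0 := by
    have := hb 0
    simpa using this
  let Ψ : A →+* A := { toFun := ψ, map_one' := h1, map_mul' := hmul, map_zero' := h0, map_add' := hadd }
  refine ⟨Ψ, (injective_iff_map_eq_zero Ψ).2 fun x hx => ?_, hb⟩
  by_contra hx0
  have hN : Ψ (∏ h : G, h • x) = 0 := by
    rw [map_prod]
    exact Finset.prod_eq_zero (Finset.mem_univ (1 : G)) (by rw [one_smul]; exact hx)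
  have h2 := hb ⟨_, prod_fixed x⟩
  rw [show ψ ((⟨_, prod_fixed x⟩ : BB) : A) = Ψ (∏ h : G, h • x) from rfl, hN] at h2
  have h3 : φ ⟨_, prod_fixed x⟩ = 0 := Subtype.ext h2.symm
  rw [EmbeddingLike.map_eq_zero_iff] at h3
  exact Finset.prod_ne_zero_iff.2 (fun h _ hh => hx0 ((smul_eq_zero_iff_eq h).1 hh)) (congrArg Subtype.val h3)

omit [IsIntegrallyClosed A] in
/-- An endomorphism fixing the invariants is bijective. -/
theorem bijective_of_fix (f : A →+* A) (hinj : Function.Injective f) (hfix : ∀ b : BB, f (b : A) = b) :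
    Function.Bijective f := by
  classical
  cases nonempty_fintype G
  refine ⟨hinj, fun x => ?_⟩
  let F : Finset A := Finset.univ.image fun g : G => g • x
  have hmaps : ∀ z ∈ F, f z ∈ F := by
    intro z hz
    obtain ⟨g, -, rfl⟩ := Finset.mem_image.1 hz
    let M : Polynomial A := ∏ h : G, (X - C (h • x))
    have hMinv : ∀ τ : G, M.map (MulSemiringAction.toRingHom G A τ) = M := fun τ => by
      simp only [M, Polynomial.map_prod, Polynomial.map_sub, map_X, map_C, MulSemiringAction.toRingHom_apply,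
        smul_smul]
      exact Fintype.prod_equiv (Equiv.mulLeft τ) _ _ fun h => rfl
    have hM : M.map f = M := Polynomial.ext fun m => by
      rw [coeff_map]
      exact hfix ⟨M.coeff m, fun τ => by
        conv_rhs => rw [← hMinv τ]
        rw [coeff_map]; rfl⟩
    have h0 : M.eval (g • x) = 0 := by
      simp only [M, eval_prod, eval_sub, eval_X, eval_C]
      exact Finset.prod_eq_zero (Finset.mem_univ g) (sub_self _)
    have h1 : M.eval (f (g • x)) = 0 := by rw [← hM, eval_map_apply, h0, map_zero]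
    simp only [M, eval_prod, eval_sub, eval_X, eval_C, Finset.prod_eq_zero_iff] at h1
    obtain ⟨h, -, hh⟩ := h1
    exact Finset.mem_image.2 ⟨h, Finset.mem_univ _, (sub_eq_zero.1 hh).symm⟩
  have hbij := Finset.eq_of_subset_of_card_le (Finset.image_subset_iff.2 hmaps)
    (by rw [Finset.card_image_of_injective _ hinj])
  have hxF : x ∈ F := Finset.mem_image.2 ⟨1, Finset.mem_univ _, one_smul G x⟩
  rw [← hbij] at hxF
  obtain ⟨y, -, hy⟩ := Finset.mem_image.1 hxF
  exact ⟨y, hy⟩

/-- Two invariants forming part of a system of parameters. -/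
theorem exists_coprime_invariants {A : Type u} [CommRing A] [IsRegularLocalRing A]
    {G : Type w} [Group G] [Finite G] [MulSemiringAction G A] (p : ℕ) [Fact p.Prime] [CharP A p]
    [IsAdicComplete (maximalIdeal A) A] {k : Type v} [Field k] [Algebra k A]
    (hk : Function.Surjective (residue A ∘ algebraMap k A))
    (hGk : ∀ (σ : G) (c : k), σ • algebraMap k A c = algebraMap k A c)
    (hG : IsPGroup p G) (hdim : 2 ≤ ringKrullDim A) :
    ∃ x0 x1 : FixedPoints.subring A G, (x0 : A) ∈ maximalIdeal A ∧ (x1 : A) ∈ maximalIdeal A ∧ (x0 : A) ≠ 0 ∧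
      ∀ (M : ℕ) (z w : A), (x1 : A) ^ M * z = (x0 : A) ^ M * w → (x0 : A) ^ M ∣ z := by
  classical
  cases nonempty_fintype G
  obtain ⟨n, hn⟩ : ∃ n : ℕ, ringKrullDim A = n :=
    ⟨_, (IsRegularLocalRing.spanFinrank_maximalIdeal (R := A)).symm⟩
  have h2 : 2 ≤ n := by rw [hn] at hdim; exact_mod_cast hdim
  obtain ⟨u, hu⟩ := exists_admissible p hG (smul_sub_mem hk hGk) n hn
  have hu1 : Ideal.span (Set.range u) = maximalIdeal A := by simpa using hu fun _ => 1
  have hrad := (S15790.result A G n u hu1).2 fun τ => by rw [hu τ]; exact Ideal.le_radical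
  have hum : ∀ i, ∏ σ : G, σ • u i ∈ maximalIdeal A := fun i =>
    (maximalIdeal A).prod_mem (Finset.mem_univ (1 : G))
      (by rw [one_smul, ← hu1]; exact Ideal.subset_span ⟨i, rfl⟩)
  obtain ⟨φ, hφ⟩ := H2Alg.PSHom.exists_algHom (A := k) (maximalIdeal A) (fun i => ∏ σ : G, σ • u i) hum
  have hX : (fun i => φ (MvPowerSeries.X i)) = fun i => ∏ σ : G, σ • u i := funext hφ
  have hle : Ideal.span (Set.range fun i => ∏ σ : G, σ • u i) ≤ maximalIdeal A :=
    Ideal.span_le.2 (by rintro _ ⟨i, rfl⟩; exact hum i)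
  obtain ⟨d, b, -, hb⟩ := exists_basis_ps' hn hk φ (by
    rw [hX]
    exact le_antisymm ((Ideal.radical_mono hle).trans (maximalIdeal.isMaximal A).isPrime.radical.le) hrad)
  have hd0 : 0 < d := by
    rcases Nat.eq_zero_or_pos d with hd | hd
    · subst hd
      obtain ⟨r, hr⟩ := hb.2 1
      simp at hr
    · exact hd
  let i0 : Fin n := ⟨0, by omega⟩
  let i1 : Fin n := ⟨1, by omega⟩
  have h01 : i0 ≠ i1 := fun h => by simp [i0, i1] at h
  refine ⟨⟨_, prod_fixed (u i0)⟩, ⟨_, prod_fixed (u i1)⟩, hum i0, hum i1, ?_, fun M z w h => ?_⟩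
  · show ∏ σ : G, σ • u i0 ≠ 0
    rw [← hφ]
    intro h
    have := congrFun (hb.1 (a₁ := fun _ => MvPowerSeries.X i0) (a₂ := fun _ => 0)
      (Finset.sum_congr rfl fun j _ => by rw [h, map_zero])) ⟨0, hd0⟩
    simpa [MvPowerSeries.coeff_X] using congrArg (MvPowerSeries.coeff (Finsupp.single i0 1)) this
  · show (∏ σ : G, σ • u i0) ^ M ∣ z
    change (∏ σ : G, σ • u i1) ^ M * z = (∏ σ : G, σ • u i0) ^ M * w at h
    rw [← hφ, ← map_pow] at h ⊢
    rw [← hφ, ← map_pow] at h
    obtain ⟨c, hc⟩ := hb.2 z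
    obtain ⟨c', hc'⟩ := hb.2 w
    have h2 : (fun i => MvPowerSeries.X i1 ^ M * c i) = fun i => MvPowerSeries.X i0 ^ M * c' i := hb.1 (by
      simp only [map_mul, mul_assoc, ← Finset.mul_sum]
      rw [show (∑ i, φ (c i) * b i) = z from hc, show (∑ i, φ (c' i) * b i) = w from hc']
      exact h)
    choose v hv using fun i => dvd_of_dvd_pow_mul h01 (M := M) (N := M) (z := c i) ⟨c' i, congrFun h2 i⟩
    refine ⟨∑ i, φ (v i) * b i, ?_⟩
    rw [← hc, Finset.mul_sum]
    exact Finset.sum_congr rfl fun i _ => by rw [hv i, map_mul, mul_assoc]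

/-- Every automorphism of the invariants lifts. -/
theorem exists_lift {A : Type u} [CommRing A] [IsRegularLocalRing A]
    {G : Type w} [Group G] [Finite G] [MulSemiringAction G A] (p : ℕ) [Fact p.Prime] [CharP A p]
    [IsAdicComplete (maximalIdeal A) A] {k : Type v} [Field k] [Algebra k A]
    (hk : Function.Surjective (residue A ∘ algebraMap k A))
    (hkp : ∀ (L : Type v) [Field L] [Algebra k L], IsGalois k L → Module.finrank k L ≠ p)
    (hGk : ∀ (σ : G) (c : k), σ • algebraMap k A c = algebraMap k A c)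
    (hcard : Nat.card G = p) (hdim : 2 ≤ ringKrullDim A)
    (hram : ∀ P : Ideal A, P.IsPrime → P ≠ maximalIdeal A → P.inertia G = ⊥)
    (φ : FixedPoints.subring A G ≃+* FixedPoints.subring A G) :
    ∃ ψ : A →+* A, Function.Injective ψ ∧ ∀ b : FixedPoints.subring A G, ψ (b : A) = φ b := by
  classical
  cases nonempty_fintype G
  haveI := RegLoc.isDomain A
  haveI := RegLoc.ufd_of_isRegularLocalRing A
  have hG : IsPGroup p G := IsPGroup.of_card (n := 1) (by rw [hcard, pow_one])
  have hcard' : Fintype.card G = p := by rw [← Nat.card_eq_fintype_card, hcard]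
  haveI : Nontrivial G := (Finite.one_lt_card_iff_nontrivial).1 (by rw [hcard]; exact (Fact.out : p.Prime).one_lt)
  obtain ⟨σ, hσ⟩ := exists_ne (1 : G)
  obtain ⟨x0, x1, hx0, hx1, hx0', hcop⟩ := exists_coprime_invariants p hk hGk hG hdim
  have hnu : ∀ x : FixedPoints.subring A G, (x : A) ∈ maximalIdeal A → ((φ.symm x : _) : A) ∈ maximalIdeal A := by
    intro x hx hu
    have h1 := (isUnit_fixed hu).map φ.toRingHom
    simp only [RingEquiv.toRingHom_eq_coe, RingHom.coe_coe, RingEquiv.apply_symm_apply] at h1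
    exact hx (h1.map (FixedPoints.subring A G).subtype)
  obtain ⟨N0, hN0, d0, hd0⟩ := exists_trace_eq_pow hram (φ.symm x0) (hnu x0 hx0)
  obtain ⟨N1, hN1, d1, hd1⟩ := exists_trace_eq_pow hram (φ.symm x1) (hnu x1 hx1)
  obtain ⟨α0, hα0⟩ := exists_smul_sub_eq_trace p hcard' σ hσ d0
  obtain ⟨β0, hβ0⟩ := exists_smul_sub_eq_trace p hcard' σ hσ d1
  obtain ⟨M, hM⟩ : ∃ M, M = N0 * N1 := ⟨_, rfl⟩
  let s := φ.symm x0 ^ M
  let t := φ.symm x1 ^ M
  obtain ⟨α, hα⟩ : ∃ α : A, σ • α = α + s := by
    refine ⟨(φ.symm x0 : A) ^ (N0 * (N1 - 1)) * α0, ?_⟩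
    rw [smul_mul', smul_pow', (φ.symm x0).2 σ, eq_add_of_sub_eq hα0, hd0, mul_add, ← pow_add, add_comm,
      show N0 * (N1 - 1) + N0 = M by rw [hM, Nat.mul_sub, mul_one]; exact Nat.sub_add_cancel (Nat.le_mul_of_pos_right _ hN1)]
    rfl
  obtain ⟨β, hβ⟩ : ∃ β : A, σ • β = β + t := by
    refine ⟨(φ.symm x1 : A) ^ (N1 * (N0 - 1)) * β0, ?_⟩
    rw [smul_mul', smul_pow', (φ.symm x1).2 σ, eq_add_of_sub_eq hβ0, hd1, mul_add, ← pow_add, add_comm,
      show N1 * (N0 - 1) + N1 = M by rw [hM, Nat.mul_sub, mul_one, mul_comm]; exact Nat.sub_add_cancel (Nat.le_mul_of_pos_left _ hN0)]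
    rfl
  let g : FixedPoints.subring A G := ⟨α ^ p - (s : A) ^ (p - 1) * α,
    fixed_of_fixed p hcard hσ (as_fixed p hα (s.2 σ))⟩
  let h : FixedPoints.subring A G := ⟨β ^ p - (t : A) ^ (p - 1) * β,
    fixed_of_fixed p hcard hσ (as_fixed p hβ (t.2 σ))⟩
  let r : FixedPoints.subring A G := ⟨(t : A) * α - (s : A) * β,
    fixed_of_fixed p hcard hσ (by rw [smul_sub, smul_mul', smul_mul', s.2 σ, t.2 σ, hα, hβ]; ring)⟩
  have hid : r ^ p - r * (s * t) ^ (p - 1) = t ^ p * g - s ^ p * h := by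
    refine Subtype.coe_injective ?_
    push_cast
    show ((t : A) * α - s * β) ^ p - ((t : A) * α - s * β) * ((s : A) * t) ^ (p - 1) =
      (t : A) ^ p * (α ^ p - (s : A) ^ (p - 1) * α) - (s : A) ^ p * (β ^ p - (t : A) ^ (p - 1) * β)
    have e : ∀ z : A, z ^ p = z ^ (p - 1) * z := fun z => by
      rw [← pow_succ, Nat.sub_add_cancel (Fact.out : p.Prime).one_le]
    rw [sub_pow_char, mul_pow, mul_pow, mul_pow, e (t : A), e (s : A)]
    ring
  have hφid : (φ r : A) ^ p - (φ r : A) * ((φ s : A) * φ t) ^ (p - 1) =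
      (φ t : A) ^ p * φ g - (φ s : A) ^ p * φ h := by
    have := congrArg (fun z => ((φ z : _) : A)) hid
    simpa only [map_sub, map_mul, map_pow, AddSubgroupClass.coe_sub, MulMemClass.coe_mul,
      SubmonoidClass.coe_pow] using this
  have hsA : (φ s : A) = (x0 : A) ^ M := by simp [s]
  have htA : (φ t : A) = (x1 : A) ^ M := by simp [t]
  have ha0 : (φ s : A) ≠ 0 := hsA ▸ pow_ne_zero _ hx0'
  obtain ⟨S, T, hST⟩ := exists_eq_add_of_frobenius' p hk (φ r : A) (φ s : A) (φ t : A) _ _ ha0 hφid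
  obtain ⟨e, he⟩ : ∃ e, (φ g : A) - T ^ p + (φ s : A) ^ (p - 1) * T = (φ s : A) ^ p * e := by
    rw [hsA, htA] at hφid hST
    rw [hsA, ← pow_mul (x0 : A) M p]
    refine hcop (M * p) _ ((φ h : A) + S ^ p - ((x1 : A) ^ M) ^ (p - 1) * S) ?_
    rw [hST, add_pow_char] at hφid
    have e : ∀ z : A, z ^ p = z ^ (p - 1) * z := fun z => by
      rw [← pow_succ, Nat.sub_add_cancel (Fact.out : p.Prime).one_le]
    rw [pow_mul (x1 : A) M p, pow_mul (x0 : A) M p]
    rw [mul_pow, mul_pow, mul_pow] at hφid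
    generalize (x0 : A) ^ M = a at hφid ⊢
    generalize (x1 : A) ^ M = b at hφid ⊢
    rw [e a, e b] at hφid ⊢
    linear_combination -hφid
  obtain ⟨θ, hθ⟩ := exists_as_root_complete p hk hkp e
  refine exists_lift_of_root p hcard φ σ hσ s g ?_ α ((φ s : A) * θ + T) hα rfl ?_
  · intro h0
    exact ha0 (by rw [h0, map_zero]; rfl)
  · rw [add_pow_char, mul_pow]
    have e : (φ s : A) ^ p = (φ s : A) ^ (p - 1) * (φ s : A) := by
      rw [← pow_succ, Nat.sub_add_cancel (Fact.out : p.Prime).one_le]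
    linear_combination (φ s : A) ^ p * hθ - he + θ * e

end Groth.Agent.WildQuotH28
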