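import Groth.Agent.Lib.WildQuotH28.ASGal
import Mathlib.LinearAlgebra.Determinant
import Mathlib.LinearAlgebra.Matrix.ToLinearEquiv
import Mathlib.Algebra.Polynomial.Taylor

/-!
# The subalgebra of minor elements
-/

open MvPolynomial

universe u

namespace Groth.Agent.WildQuotH28.Minor

open AS (Alg rel u mono)

/-- A map between free modules of the same rank hitting a non-zero multiple of everything is injective. -/
theorem injective_of_smul_mem_range {R M N : Type*} [CommRing R] [IsDomain R] [AddCommGroup M] [Module R M]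
    [AddCommGroup N] [Module R N] {ι : Type*} [Fintype ι] (bM : Module.Basis ι R M) (bN : Module.Basis ι R N)
    (f : M →ₗ[R] N) {c : R} (hc : c ≠ 0) (h : ∀ i, c • bN i ∈ LinearMap.range f) : Function.Injective f := by
  classical
  choose g hg using h
  set F := LinearMap.toMatrix bM bN f
  set G := LinearMap.toMatrix bN bM (bN.constr R g)
  have hFG : F * G = c • (1 : Matrix ι ι R) := by
    rw [← LinearMap.toMatrix_comp, ← LinearMap.toMatrix_id bN, ← map_smul]
    congr 1
    refine bN.ext fun i => ?_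
    simp [hg i]
  have hdet : F.det ≠ 0 := by
    intro h0
    have := congrArg Matrix.det hFG
    rw [Matrix.det_mul, h0, zero_mul, Matrix.det_smul, Matrix.det_one, mul_one] at this
    exact pow_ne_zero _ hc this.symm
  rw [injective_iff_map_eq_zero]
  intro x hx
  have h1 : Matrix.mulVec F (bM.repr x) = 0 := by
    rw [LinearMap.toMatrix_mulVec_repr, hx, map_zero]; rfl
  by_contra hx0
  refine hdet (Matrix.exists_mulVec_eq_zero_iff.mp ⟨bM.repr x, ?_, h1⟩)
  exact fun h2 => hx0 (bM.repr.injective (by rw [map_zero]; exact Finsupp.coe_eq_zero.mp h2))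

variable {R : Type u} [CommRing R] {m p : ℕ} [hpf : Fact p.Prime] [CharP R p]
  (a : Fin (m + 1) → R) (μ : R) (d : Fin (m + 1) → R) (i₀ : Fin (m + 1))

/-- The ambient algebra. -/
abbrev AA : Type u := Alg p (fun i => (μ * a i) ^ (p - 1)) d

/-- linear coefficients of the minor relations -/
def c0 (j : Fin m) : R := (μ * a i₀ * a (i₀.succAbove j)) ^ (p - 1)

/-- constant coefficients of the minor relations -/
def d0 (j : Fin m) : R := a i₀ ^ p * d (i₀.succAbove j) - a (i₀.succAbove j) ^ p * d i₀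

/-- The algebra of the minor relations. -/
abbrev BB : Type u := Alg p (c0 (p := p) a μ i₀) (d0 (p := p) a d i₀)

/-- The generators of the ambient algebra. -/
noncomputable abbrev w (i : Fin (m + 1)) : AA (p := p) a μ d := u _ _ i

/-- The minor element. -/
noncomputable def zz (j : Fin m) : AA (p := p) a μ d :=
  algebraMap R _ (a i₀) * w a μ d (i₀.succAbove j) - algebraMap R _ (a (i₀.succAbove j)) * w a μ d i₀

theorem algebraMap_injective {n : ℕ} [Nontrivial R] (c e : Fin n → R) :
    Function.Injective (algebraMap R (Alg p c e)) := by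
  classical
  intro x y h
  have hl := AS.linearIndependent_mono (p := p) c e hpf.out.two_le
  have h2 : x • mono (p := p) c e (fun _ => ⟨0, hpf.out.pos⟩) = y • mono (p := p) c e (fun _ => ⟨0, hpf.out.pos⟩) := by
    rw [AS.smul_eq, AS.smul_eq, h]
  have := linearIndependent_iff'.mp hl {fun _ => ⟨0, hpf.out.pos⟩} (fun _ => x - y)
    (by rw [Finset.sum_singleton, sub_smul, h2, sub_self]) _ (Finset.mem_singleton_self _)
  exact sub_eq_zero.mp this

theorem charP_AA [Nontrivial R] : CharP (AA (p := p) a μ d) p :=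
  charP_of_injective_ringHom (algebraMap_injective _ _) p

theorem minor_rel {S : Type*} [CommRing S] [CharP S p] {q : ℕ} (hq : p = q + 1) (A0 Aj M w0 wj D0 Dj : S)
    (h0 : w0 ^ p = (M * A0) ^ q * w0 + D0) (hj : wj ^ p = (M * Aj) ^ q * wj + Dj) :
    (A0 * wj - Aj * w0) ^ p = (M * A0 * Aj) ^ q * (A0 * wj - Aj * w0) + (A0 ^ p * Dj - Aj ^ p * D0) := by
  rw [sub_pow_char, mul_pow, mul_pow, h0, hj, hq, pow_succ, pow_succ]
  ring

theorem zz_rel [Nontrivial R] (j : Fin m) : zz (p := p) a μ d i₀ j ^ p =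
    algebraMap R _ (c0 (p := p) a μ i₀ j) * zz a μ d i₀ j + algebraMap R _ (d0 (p := p) a d i₀ j) := by
  haveI := charP_AA (p := p) a μ d
  have h1 := AS.u_pow (p := p) (fun i => (μ * a i) ^ (p - 1)) d (i₀.succAbove j)
  have h2 := AS.u_pow (p := p) (fun i => (μ * a i) ^ (p - 1)) d i₀
  simp only [map_pow, map_mul] at h1 h2
  simp only [c0, d0, map_sub, map_mul, map_pow]
  exact minor_rel (Nat.succ_pred_eq_of_pos hpf.out.pos).symm _ _ _ _ _ _ _ h2 h1

/-- The map from the minor relations algebra. -/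
noncomputable def iota [Nontrivial R] : BB (p := p) a μ d i₀ →ₐ[R] AA (p := p) a μ d :=
  Ideal.Quotient.liftₐ _ (MvPolynomial.aeval (zz a μ d i₀)) fun x hx => by
    induction hx using Submodule.span_induction with
    | mem y hy =>
      obtain ⟨j, rfl⟩ := hy
      simp only [map_sub, map_mul, map_pow, MvPolynomial.aeval_X, MvPolynomial.aeval_C, zz_rel]
      ring
    | zero => rw [map_zero]
    | add a b _ _ ha hb => rw [map_add, ha, hb, add_zero]
    | smul r a _ ha => rw [smul_eq_mul, map_mul, ha, mul_zero]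

theorem iota_u [Nontrivial R] (j : Fin m) :
    iota (p := p) a μ d i₀ (u _ _ j) = zz a μ d i₀ j := by
  show MvPolynomial.aeval _ (X j) = _
  rw [MvPolynomial.aeval_X]

theorem range_iota [Nontrivial R] :
    (iota (p := p) a μ d i₀).range = Algebra.adjoin R (Set.range (zz a μ d i₀)) := by
  refine le_antisymm ?_ (Algebra.adjoin_le ?_)
  · rintro _ ⟨x, rfl⟩
    obtain ⟨q, rfl⟩ := Ideal.Quotient.mk_surjective x
    show MvPolynomial.aeval (zz a μ d i₀) q ∈ _
    rw [Algebra.adjoin_range_eq_range_aeval]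
    exact ⟨q, rfl⟩
  · rintro _ ⟨j, rfl⟩
    exact ⟨_, iota_u a μ d i₀ j⟩

/-- The polynomial of the remaining variable over the minor algebra. -/
noncomputable def g0 : Polynomial (BB (p := p) a μ d i₀) :=
  (AS.g p (fun i => (μ * a i) ^ (p - 1)) d i₀).map (algebraMap R _)

theorem g0_monic : (g0 (p := p) a μ d i₀).Monic :=
  (AS.g_monic _ _ hpf.out.two_le _).map _

theorem nontrivial_BB [Nontrivial R] : Nontrivial (BB (p := p) a μ d i₀) :=
  ⟨mono (c0 (p := p) a μ i₀) (d0 (p := p) a d i₀) (fun _ => ⟨0, hpf.out.pos⟩), 0,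
    (AS.linearIndependent_mono _ _ hpf.out.two_le).ne_zero _⟩

theorem g0_natDegree [Nontrivial R] : (g0 (p := p) a μ d i₀).natDegree = p := by
  haveI := nontrivial_BB (p := p) a μ d i₀
  rw [g0, (AS.g_monic _ _ hpf.out.two_le _).natDegree_map, AS.g_natDegree _ _ hpf.out.two_le]

/-- The tower. -/
abbrev TT : Type u := AdjoinRoot (g0 (p := p) a μ d i₀)

/-- The comparison map. -/
noncomputable def Phi [Nontrivial R] : TT (p := p) a μ d i₀ →+* AA (p := p) a μ d :=
  AdjoinRoot.lift (iota (p := p) a μ d i₀).toRingHom (w a μ d i₀) (by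
    rw [g0, Polynomial.eval₂_map, show (iota (p := p) a μ d i₀).toRingHom.comp (algebraMap R _) = algebraMap R _ from
      (iota (p := p) a μ d i₀).comp_algebraMap]
    simp only [AS.g, Polynomial.eval₂_sub, Polynomial.eval₂_mul, Polynomial.eval₂_X_pow, Polynomial.eval₂_C,
      Polynomial.eval₂_X]
    rw [w, AS.u_pow (p := p) (fun i => (μ * a i) ^ (p - 1)) d i₀]
    ring)

theorem Phi_of [Nontrivial R] (b : BB (p := p) a μ d i₀) :
    Phi a μ d i₀ (AdjoinRoot.of _ b) = iota a μ d i₀ b := AdjoinRoot.lift_of _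

theorem Phi_root [Nontrivial R] :
    Phi (p := p) a μ d i₀ (AdjoinRoot.root _) = w a μ d i₀ := AdjoinRoot.lift_root _

theorem Phi_algebraMap [Nontrivial R] (r : R) :
    Phi (p := p) a μ d i₀ (algebraMap R _ r) = algebraMap R _ r := by
  rw [show algebraMap R (TT (p := p) a μ d i₀) r = AdjoinRoot.of _ (algebraMap R _ r) from rfl, Phi_of, AlgHom.commutes]

variable [IsDomain R] (ha : a i₀ ≠ 0)

theorem exists_mul_mem (x : AA (p := p) a μ d) :
    ∃ y, Phi a μ d i₀ y = algebraMap R _ (a i₀ ^ ((m + 1) * p)) * x := by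
  let S : Submodule R (AA (p := p) a μ d) := LinearMap.range
    ({ Phi (p := p) a μ d i₀ with
        map_smul' := fun r y => by
          show Phi a μ d i₀ (r • y) = r • Phi a μ d i₀ y
          rw [Algebra.smul_def, map_mul, Phi_algebraMap]
          exact (AS.smul_eq _ _ r _).symm } : TT (p := p) a μ d i₀ →ₗ[R] _)
  have hS : ∀ z, z ∈ S ↔ ∃ y, Phi a μ d i₀ y = z := fun z => Iff.rfl
  have hgen : ∀ i, ∃ y, Phi a μ d i₀ y = algebraMap R _ (a i₀) * w a μ d i := by
    intro i
    rcases Fin.eq_self_or_eq_succAbove i₀ i with h | ⟨j, rfl⟩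
    · rw [h]; exact ⟨algebraMap R _ (a i₀) * AdjoinRoot.root _, by rw [map_mul, Phi_algebraMap, Phi_root]⟩
    · exact ⟨AdjoinRoot.of _ (u _ _ j) + algebraMap R _ (a (i₀.succAbove j)) * AdjoinRoot.root _, by
        rw [map_add, map_mul, Phi_algebraMap, Phi_root, Phi_of, iota_u, zz, sub_add_cancel]⟩
  suffices h : ∀ e : Fin (m + 1) → Fin p, algebraMap R _ (a i₀ ^ ((m + 1) * p)) * mono (fun i => (μ * a i) ^ (p - 1)) d e ∈ S by
    rw [← hS]
    have hx : x ∈ Submodule.span R (Set.range (mono (p := p) (fun i => (μ * a i) ^ (p - 1)) d)) := by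
      rw [AS.span_mono_eq_top _ _ hpf.out.two_le]; exact Submodule.mem_top
    induction hx using Submodule.span_induction with
    | mem y hy => obtain ⟨e, rfl⟩ := hy; exact h e
    | zero => rw [mul_zero]; exact zero_mem S
    | add y z _ _ hy hz => rw [mul_add]; exact add_mem hy hz
    | smul r y _ hy => rw [mul_smul_comm]; exact S.smul_mem r hy
  intro e
  rw [hS]
  choose y hy using hgen
  refine ⟨algebraMap R _ (a i₀ ^ ((m + 1) * p - ∑ i, (e i : ℕ))) * ∏ i, y i ^ (e i : ℕ), ?_⟩
  have hle : ∑ i, (e i : ℕ) ≤ (m + 1) * p := by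
    refine (Finset.sum_le_sum (g := fun _ => p) fun i _ => (e i).2.le).trans ?_
    simp
  rw [map_mul, map_prod, Phi_algebraMap]
  simp only [map_pow, hy, mul_pow, Finset.prod_mul_distrib, Finset.prod_pow_eq_pow_sum]
  rw [← mul_assoc, ← pow_add, Nat.sub_add_cancel hle]
  rfl

include ha in
theorem Phi_injective : Function.Injective (Phi (p := p) a μ d i₀) := by
  let f : TT (p := p) a μ d i₀ →ₗ[R] AA (p := p) a μ d :=
    { Phi (p := p) a μ d i₀ with
      map_smul' := fun r y => by
        show Phi a μ d i₀ (r • y) = r • Phi a μ d i₀ y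
        rw [Algebra.smul_def, map_mul, Phi_algebraMap]
        exact (AS.smul_eq _ _ r _).symm }
  let bT := (AS.basis (c0 (p := p) a μ i₀) (d0 (p := p) a d i₀) hpf.out.two_le).smulTower
    (AdjoinRoot.powerBasis' (g0_monic (p := p) a μ d i₀)).basis
  have hcard : Nonempty (((Fin m → Fin p) × Fin (AdjoinRoot.powerBasis' (g0_monic (p := p) a μ d i₀)).dim) ≃ (Fin (m + 1) → Fin p)) := by
    refine ⟨Fintype.equivOfCardEq ?_⟩
    rw [Fintype.card_prod, Fintype.card_fun, Fintype.card_fun, Fintype.card_fin, Fintype.card_fin, Fintype.card_fin,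
      Fintype.card_fin, AdjoinRoot.powerBasis'_dim, g0_natDegree, pow_succ]
  obtain ⟨e⟩ := hcard
  refine injective_of_smul_mem_range (bT.reindex e) (AS.basis _ _ hpf.out.two_le) f
    (c := a i₀ ^ ((m + 1) * p)) (pow_ne_zero _ ha) fun i => ?_
  obtain ⟨y, hy⟩ := exists_mul_mem (p := p) a μ d i₀ (AS.basis (fun i => (μ * a i) ^ (p - 1)) d hpf.out.two_le i)
  exact ⟨y, hy.trans (Algebra.smul_def _ _).symm⟩

include ha in
theorem iota_injective : Function.Injective (iota (p := p) a μ d i₀) := by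
  intro x y h
  have h1 := Phi_injective (p := p) a μ d i₀ ha ((Phi_of a μ d i₀ x).trans (h.trans (Phi_of a μ d i₀ y).symm))
  haveI := nontrivial_BB (p := p) a μ d i₀
  by_contra hxy
  refine (g0_monic (p := p) a μ d i₀).not_dvd_of_natDegree_lt
    (p := g0 (p := p) a μ d i₀) (q := Polynomial.C (x - y)) (Polynomial.C_ne_zero.mpr (sub_ne_zero.mpr hxy)) ?_ ?_
  · rw [Polynomial.natDegree_C, g0_natDegree]
    exact hpf.out.pos
  · rw [map_sub]
    exact AdjoinRoot.mk_eq_mk.mp h1

include ha in
theorem exists_pow_mul_mem (hμ : μ ≠ 0) [IsDomain (AA (p := p) a μ d)]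
    (σ : AA (p := p) a μ d ≃ₐ[R] AA (p := p) a μ d)
    (hσ : ∀ i, σ (w a μ d i) = w a μ d i + algebraMap R _ (μ * a i)) (t : AA (p := p) a μ d) (ht : σ t = t) :
    algebraMap R _ ((μ * a i₀) ^ ((m + 1) * p)) * t ∈ Algebra.adjoin R (Set.range (zz a μ d i₀)) := by
  classical
  haveI := nontrivial_BB (p := p) a μ d i₀
  haveI hBdom : IsDomain (BB (p := p) a μ d i₀) :=
    Function.Injective.isDomain (iota (p := p) a μ d i₀).toRingHom (iota_injective (p := p) a μ d i₀ ha)
  haveI hBchar : CharP (BB (p := p) a μ d i₀) p := charP_of_injective_ringHom (algebraMap_injective _ _) p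
  obtain ⟨y, hy⟩ := exists_mul_mem (p := p) a μ d i₀ (algebraMap R _ (μ ^ ((m + 1) * p)) * t)
  rw [← mul_assoc, ← map_mul, ← mul_pow, mul_comm (a i₀)] at hy
  obtain ⟨q0, rfl⟩ := AdjoinRoot.mk_surjective y
  set q := q0 %ₘ g0 (p := p) a μ d i₀ with hq
  have hmk : AdjoinRoot.mk (g0 (p := p) a μ d i₀) q0 = AdjoinRoot.mk _ q := by
    rw [AdjoinRoot.mk_eq_mk, hq]
    exact ⟨q0 /ₘ g0 a μ d i₀, by have := Polynomial.modByMonic_add_div q0 (g0 (p := p) a μ d i₀); linear_combination -this⟩
  rw [hmk] at hy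
  have hdeg : q.natDegree < p := by
    have := Polynomial.natDegree_modByMonic_lt q0 (g0_monic (p := p) a μ d i₀) (fun h => by
      have h1 := g0_natDegree (p := p) a μ d i₀
      rw [h, Polynomial.natDegree_one] at h1
      exact hpf.out.ne_zero h1.symm)
    rwa [g0_natDegree] at this
  set c := algebraMap R (BB (p := p) a μ d i₀) (μ * a i₀) with hc
  have hσι : ∀ b, σ (iota a μ d i₀ b) = iota a μ d i₀ b := by
    intro b
    have : σ.toAlgHom.comp (iota a μ d i₀) = iota a μ d i₀ := by
      refine Ideal.Quotient.algHom_ext _ (MvPolynomial.algHom_ext fun j => ?_)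
      show σ (iota a μ d i₀ (u _ _ j)) = iota a μ d i₀ (u _ _ j)
      rw [iota_u, zz, map_sub, map_mul, map_mul, AlgEquiv.commutes, AlgEquiv.commutes, hσ, hσ]
      simp only [map_mul]
      ring
    exact DFunLike.congr_fun this b
  have hσΦ : ∀ r : Polynomial (BB (p := p) a μ d i₀), σ (Phi a μ d i₀ (AdjoinRoot.mk _ r)) =
      Phi a μ d i₀ (AdjoinRoot.mk _ (Polynomial.taylor c r)) := by
    intro r
    induction r using Polynomial.induction_on' with
    | add r s hr hs => simp only [map_add, hr, hs]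
    | monomial k b =>
      rw [Polynomial.taylor_monomial, ← Polynomial.C_mul_X_pow_eq_monomial]
      simp only [map_mul, map_pow, map_add, AdjoinRoot.mk_X, AdjoinRoot.mk_C, Phi_of, Phi_root, hσι, hσ, hc,
        AlgHom.commutes]
  have hfix : Polynomial.taylor c q = q := by
    have h1 : σ (Phi a μ d i₀ (AdjoinRoot.mk _ q)) = Phi a μ d i₀ (AdjoinRoot.mk _ q) := by
      rw [hy, map_mul, AlgEquiv.commutes, ht]
    rw [hσΦ] at h1
    have h2 := AdjoinRoot.mk_eq_mk.mp (Phi_injective (p := p) a μ d i₀ ha h1)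
    refine sub_eq_zero.mp (Polynomial.eq_zero_of_dvd_of_natDegree_lt h2 ?_)
    rw [g0_natDegree]
    exact lt_of_le_of_lt (Polynomial.natDegree_sub_le _ _) (max_lt (by rwa [Polynomial.natDegree_taylor]) hdeg)
  have hq0 : q.natDegree = 0 := by
    by_contra hne
    obtain ⟨e, he⟩ : ∃ e, q.natDegree = e + 1 := ⟨q.natDegree - 1, by omega⟩
    have h1 := congrArg (fun r => Polynomial.coeff r e) hfix
    simp only [Polynomial.taylor_coeff] at h1
    have hh : (Polynomial.hasseDeriv e q).natDegree < 2 := by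
      have := Polynomial.natDegree_hasseDeriv_le q e
      omega
    rw [Polynomial.eval_eq_sum_range' hh, Finset.sum_range_succ, Finset.sum_range_one,
      Polynomial.hasseDeriv_coeff, Polynomial.hasseDeriv_coeff] at h1
    simp only [zero_add, Nat.choose_self, Nat.cast_one, one_mul, pow_zero, mul_one, pow_one, add_eq_left] at h1
    rw [show 1 + e = e + 1 by omega, Nat.choose_succ_self_right] at h1
    rcases mul_eq_zero.mp h1 with h2 | h2
    · rcases mul_eq_zero.mp h2 with h3 | h3
      · rw [CharP.cast_eq_zero_iff _ p] at h3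
        have := Nat.le_of_dvd (by omega) h3
        omega
      · rw [← he] at h3
        exact Polynomial.leadingCoeff_ne_zero.mpr (fun h => by rw [h, Polynomial.natDegree_zero] at hne; exact hne rfl) h3
    · refine mul_ne_zero hμ ha (algebraMap_injective (p := p) (c0 (p := p) a μ i₀) (d0 (p := p) a d i₀) ?_)
      rw [map_zero, ← hc]
      exact h2
  rw [← range_iota]
  refine ⟨q.coeff 0, ?_⟩
  rw [← hy, Polynomial.eq_C_of_natDegree_eq_zero hq0, AdjoinRoot.mk_C, Phi_of, Polynomial.coeff_C_zero]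
  rfl

end Groth.Agent.WildQuotH28.Minor
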