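import Groth.Agent.Lib.WildQuotH28.Minor
import Groth.Agent.Lib.RegLoc.UFD
import Mathlib.RingTheory.Localization.Integral
import Mathlib.RingTheory.IntegralClosure.IntegrallyClosed
import Mathlib.Logic.Equiv.Fin.Basic

/-!
# The minor complete intersection
-/

open MvPolynomial

universe u

namespace Groth.Agent.WildQuotH28.Minor

open AS (rel)

theorem isIntegrallyClosed_away {B : Type u} {A : Type u} [CommRing B] [CommRing A] [IsDomain B] [IsDomain A]
    [Algebra B A] [IsIntegrallyClosed A] (hinj : Function.Injective (algebraMap B A)) (σ : A ≃ₐ[B] A) (s : B)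
    (hs : s ≠ 0) (hfix : ∀ t, σ t = t → ∃ N : ℕ, algebraMap B A (s ^ N) * t ∈ Set.range (algebraMap B A)) :
    IsIntegrallyClosed (Localization.Away s) := by
  let K := FractionRing B
  let L := FractionRing A
  have hle : Submonoid.powers s ≤ nonZeroDivisors B :=
    powers_le_nonZeroDivisors_of_noZeroDivisors hs
  have hu : IsUnit (algebraMap B K s) :=
    isUnit_iff_ne_zero.mpr ((map_ne_zero_iff _ (IsFractionRing.injective B K)).mpr hs)
  letI : Algebra (Localization.Away s) K := (IsLocalization.Away.lift s hu).toAlgebra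
  haveI : IsScalarTower B (Localization.Away s) K :=
    IsScalarTower.of_algebraMap_eq fun b => (IsLocalization.Away.lift_eq s hu b).symm
  haveI : IsFractionRing (Localization.Away s) K :=
    IsFractionRing.isFractionRing_of_isDomain_of_isLocalization (Submonoid.powers s) (Localization.Away s) K
  rw [isIntegrallyClosed_iff K]
  intro x hx
  obtain ⟨⟨_, M, rfl⟩, hM⟩ := IsIntegral.exists_multiple_integral_of_isLocalization (Submonoid.powers s) x hx
  have hM' : IsIntegral B (algebraMap B K (s ^ M) * x) := by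
    rw [← Algebra.smul_def]; exact hM
  set x' := algebraMap B K (s ^ M) * x with hx'
  have hinj' : Function.Injective ((algebraMap A L).comp (algebraMap B A)) :=
    (IsFractionRing.injective A L).comp hinj
  let ι : K →+* L := IsFractionRing.lift hinj'
  have hι : ∀ b, ι (algebraMap B K b) = algebraMap A L (algebraMap B A b) := fun b =>
    IsFractionRing.lift_algebraMap hinj' b
  obtain ⟨P, hP1, hP2⟩ := hM'
  have hint : IsIntegral A (ι x') := by
    refine ⟨P.map (algebraMap B A), hP1.map _, ?_⟩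
    have h := congrArg ι hP2
    rw [map_zero, Polynomial.hom_eval₂] at h
    rw [Polynomial.eval₂_map]
    rw [show ι.comp (algebraMap B K) = (algebraMap A L).comp (algebraMap B A) from RingHom.ext hι] at h
    exact h
  obtain ⟨t, ht⟩ := IsIntegrallyClosed.isIntegral_iff.mp hint
  obtain ⟨y, z, hz, hyz⟩ := IsFractionRing.div_surjective B x'
  have hz0 : algebraMap B A z ≠ 0 := (map_ne_zero_iff _ hinj).mpr (nonZeroDivisors.ne_zero hz)
  have h1 : algebraMap B A z * t = algebraMap B A y := by
    apply IsFractionRing.injective A L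
    rw [map_mul, ht, ← hι, ← hι, ← map_mul, ← hyz, mul_div_cancel₀]
    exact (map_ne_zero_iff _ (IsFractionRing.injective B K)).mpr (nonZeroDivisors.ne_zero hz)
  have h2 : σ t = t := by
    refine mul_left_cancel₀ hz0 ?_
    conv_lhs => rw [← σ.commutes z]
    rw [← map_mul, h1, σ.commutes]
  obtain ⟨N, b, hb⟩ := hfix t h2
  refine ⟨IsLocalization.mk' (Localization.Away s) b (⟨s ^ (N + M), N + M, rfl⟩ : Submonoid.powers s), ?_⟩
  have h3 : algebraMap B K b = algebraMap B K (s ^ N) * x' := by
    apply ι.injective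
    rw [map_mul, hι, hι, hb, map_mul, ht]
  have h4 : algebraMap B K (s ^ (N + M)) ≠ 0 :=
    (map_ne_zero_iff _ (IsFractionRing.injective B K)).mpr (pow_ne_zero _ hs)
  refine mul_left_cancel₀ h4 ?_
  rw [IsScalarTower.algebraMap_apply B (Localization.Away s) K (s ^ (N + M)), ← map_mul,
    IsLocalization.mk'_spec' (Localization.Away s) b (⟨s ^ (N + M), N + M, rfl⟩ : Submonoid.powers s),
    ← IsScalarTower.algebraMap_apply, ← IsScalarTower.algebraMap_apply, h3, hx', ← mul_assoc, ← map_mul, ← pow_add]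

variable {R : Type u} [CommRing R] {m p : ℕ} [hpf : Fact p.Prime] [CharP R p]
  (a : Fin (m + 1) → R) (μ : R) (d : Fin (m + 1) → R) (i₀ : Fin (m + 1))

/-- Reindexing. -/
noncomputable def reindex :
    MvPolynomial {j : Fin (m + 1) // j ≠ i₀} R ≃ₐ[R] MvPolynomial (Fin m) R :=
  renameEquiv R (finSuccAboveEquiv i₀).symm

theorem map_span_eq (r : {j : Fin (m + 1) // j ≠ i₀} → MvPolynomial {j : Fin (m + 1) // j ≠ i₀} R)
    (hr : ∀ j, r j = X j ^ p - C ((μ * a i₀ * a j.1) ^ (p - 1)) * X j - C (a i₀ ^ p * d j.1 - a j.1 ^ p * d i₀)) :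
    (Ideal.span (Set.range r)).map (reindex (R := R) i₀).toRingEquiv.toRingHom =
      rel p (c0 (p := p) a μ i₀) (d0 (p := p) a d i₀) := by
  rw [Ideal.map_span, rel, ← Set.range_comp]
  congr 1
  ext x
  constructor
  · rintro ⟨j, rfl⟩
    obtain ⟨i, rfl⟩ := (finSuccAboveEquiv i₀).surjective j
    refine ⟨i, ?_⟩
    change _ = reindex (R := R) i₀ _
    simp [reindex, hr, c0, d0]
    simp [finSuccAboveEquiv_apply]
  · rintro ⟨i, rfl⟩
    refine ⟨finSuccAboveEquiv i₀ i, ?_⟩
    change reindex (R := R) i₀ _ = _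
    simp [reindex, hr, c0, d0]
    simp [finSuccAboveEquiv_apply]

theorem aeval_zz_eq [Nontrivial R] (z : {j : Fin (m + 1) // j ≠ i₀} → AA (p := p) a μ d)
    (hz : ∀ j, z (finSuccAboveEquiv i₀ j) = zz a μ d i₀ j) (q : MvPolynomial {j : Fin (m + 1) // j ≠ i₀} R) :
    aeval z q = iota a μ d i₀ (Ideal.Quotient.mk _ (reindex (R := R) i₀ q)) := by
  change _ = MvPolynomial.aeval (zz a μ d i₀) (rename _ q)
  rw [aeval_rename]
  congr 1
  refine MvPolynomial.algHom_ext fun j => ?_
  obtain ⟨i, rfl⟩ := (finSuccAboveEquiv i₀).surjective j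
  simp only [aeval_X, Function.comp_apply, Equiv.symm_apply_apply, hz]

end Groth.Agent.WildQuotH28.Minor
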