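import Groth.Agent.Lib.NodeH28.Len
import Groth.Agent.Lib.Depth.CM
import Mathlib.RingTheory.KrullDimension.Zero

/-!
# Lengths of quotients by norms of a regular system of parameters
-/

open IsLocalRing RingTheory.Sequence

universe u v

namespace Groth.Agent.WildQuotH28

open NodeH28

variable {A : Type u} [CommRing A] {n : ℕ}

/-- Span of all the entries but the `i`-th. -/
def others (f : Fin n → A) (i : Fin n) : Ideal A :=
  Ideal.span (Set.range fun j : {j // j ≠ i} => f j)

lemma span_update (f : Fin n → A) (i : Fin n) (x : A) :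
    Ideal.span (Set.range (Function.update f i x)) = others f i ⊔ Ideal.span {x} := by
  refine le_antisymm (Ideal.span_le.2 ?_) (sup_le (Ideal.span_le.2 ?_) ?_)
  · rintro _ ⟨j, rfl⟩
    by_cases h : j = i
    · subst h
      rw [Function.update_self]
      exact Ideal.mem_sup_right (Ideal.mem_span_singleton_self x)
    · rw [Function.update_of_ne h]
      exact Ideal.mem_sup_left (Ideal.subset_span ⟨⟨j, h⟩, rfl⟩)
  · rintro _ ⟨⟨j, h⟩, rfl⟩
    exact Ideal.subset_span ⟨j, Function.update_of_ne h x f⟩
  · rw [Ideal.span_singleton_le_iff_mem]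
    exact Ideal.subset_span ⟨i, Function.update_self i x f⟩

lemma ql_le_of_le {I J : Ideal A} (h : I ≤ J) : ql J ≤ ql I :=
  Module.length_le_of_surjective (Submodule.factor h) (Submodule.factor_surjective h)

/-- Subadditivity. -/
theorem ql_sup_mul_le (J : Ideal A) (a b : A) :
    ql (J ⊔ Ideal.span {a * b}) ≤ ql (J ⊔ Ideal.span {a}) + ql (J ⊔ Ideal.span {b}) := by
  rw [ql_colon (J ⊔ Ideal.span {a * b}) (Submodule.comap (LinearMap.mul A A a) (J ⊔ Ideal.span {a * b}))
    a (fun y => Iff.rfl), add_comm]
  refine add_le_add (le_of_eq ?_) (ql_le_of_le ?_)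
  · rw [sup_assoc, sup_eq_right.2 (Ideal.span_singleton_le_span_singleton.2 (dvd_mul_right a b))]
  · refine sup_le (fun y hy => ?_) ((Ideal.span_singleton_le_iff_mem _).2 ?_)
    · exact Ideal.mem_sup_left (Ideal.mul_mem_left _ a hy)
    · exact Ideal.mem_sup_right (Ideal.mem_span_singleton_self (a * b))

/-- Additivity for regular elements. -/
theorem ql_sup_mul_eq (J : Ideal A) (a b : A) (ha : ∀ y, a * y ∈ J → y ∈ J) :
    ql (J ⊔ Ideal.span {a * b}) = ql (J ⊔ Ideal.span {a}) + ql (J ⊔ Ideal.span {b}) := by
  rw [ql_colon (J ⊔ Ideal.span {a * b}) (J ⊔ Ideal.span {b}) a ?_, add_comm]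
  · rw [sup_assoc, sup_eq_right.2 (Ideal.span_singleton_le_span_singleton.2 (dvd_mul_right a b))]
  · intro y
    constructor
    · intro h
      obtain ⟨c, hc, q, hq, hcq⟩ := Submodule.mem_sup.1 h
      obtain ⟨d, rfl⟩ := Ideal.mem_span_singleton'.1 hq
      have h' : a * (y - d * b) ∈ J := by
        rw [show a * (y - d * b) = c by linear_combination -hcq]
        exact hc
      rw [← sub_add_cancel y (d * b)]
      exact add_mem (Ideal.mem_sup_left (ha _ h'))
        (Ideal.mem_sup_right (Ideal.mem_span_singleton'.2 ⟨d, rfl⟩))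
    · intro h
      obtain ⟨c, hc, q, hq, rfl⟩ := Submodule.mem_sup.1 h
      obtain ⟨d, rfl⟩ := Ideal.mem_span_singleton'.1 hq
      rw [mul_add]
      exact add_mem (Ideal.mem_sup_left (Ideal.mul_mem_left _ a hc))
        (Ideal.mem_sup_right (Ideal.mem_span_singleton'.2 ⟨d, by ring⟩))

/-- In a regular local ring a system of parameters is regular, in any order. -/
theorem regular_mod_others [IsRegularLocalRing A] (hn : ringKrullDim A = n) (f : Fin n → A)
    (hf : ∀ j, f j ∈ maximalIdeal A) (hrad : maximalIdeal A ≤ (Ideal.span (Set.range f)).radical)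
    (i : Fin n) (y : A) (hy : f i * y ∈ others f i) : y ∈ others f i := by
  classical
  haveI := DepthLib.isCohenMacaulayLocalRing_of_isRegularLocalRing (R := A)
  let l : List A := ((List.finRange n).filter (· ≠ i)).map f
  have hl : Ideal.ofList l = others f i := by
    apply le_antisymm
    · refine Ideal.span_le.2 fun x hx => ?_
      simp only [Set.mem_ofPred_eq, l, List.mem_map, List.mem_filter, List.mem_finRange, true_and,
        decide_eq_true_eq] at hx
      obtain ⟨j, hj, rfl⟩ := hx
      exact Ideal.subset_span ⟨⟨j, hj⟩, rfl⟩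
    · refine Ideal.span_le.2 ?_
      rintro _ ⟨⟨j, hj⟩, rfl⟩
      refine Ideal.subset_span ?_
      simp only [Set.mem_ofPred_eq, l, List.mem_map, List.mem_filter, List.mem_finRange, true_and,
        decide_eq_true_eq]
      exact ⟨j, hj, rfl⟩
  have hlen : l.length + 1 = n := by
    have h1 : ((List.finRange n).filter (· ≠ i)).Nodup := (List.nodup_finRange n).filter _
    have h2 : ((List.finRange n).filter (· ≠ i)).toFinset = Finset.univ.erase i := by
      ext j; simp
    rw [List.length_map, ← List.toFinset_card_of_nodup h1, h2, Finset.card_erase_of_mem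
      (Finset.mem_univ i), Finset.card_univ, Fintype.card_fin]
    have := i.pos
    omega
  have hI : Ideal.ofList (l ++ [f i]) = Ideal.span (Set.range f) := by
    rw [Ideal.ofList_append, Ideal.ofList_singleton, hl, ← span_update, Function.update_eq_self]
  have hne : Ideal.ofList (l ++ [f i]) ≠ ⊤ := by
    rw [hI]
    exact ne_top_of_le_ne_top (maximalIdeal.isMaximal A).ne_top (Ideal.span_le.2 (by rintro _ ⟨j, rfl⟩; exact hf j))
  have h := DepthLib.supportDim_eq_quotient_add_idealDepth (R := A) (M := A)
    LocCoh.IsCohenMacaulayLocalRing.supportDim_eq_depth hne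
  have h0 : Module.supportDim A (A ⧸ Ideal.ofList (l ++ [f i]) • (⊤ : Submodule A A)) = 0 := by
    rw [Module.supportDim_eq_of_equiv (Submodule.quotEquivOfEq _ (Ideal.ofList (l ++ [f i]))
      (by rw [smul_eq_mul, Ideal.mul_top])), Module.supportDim_quotient_eq_ringKrullDim, hI]
    have hdim0 : Ring.KrullDimLE 0 (A ⧸ Ideal.span (Set.range f)) := by
      refine Ring.krullDimLE_zero_iff.mpr fun P hP => ?_
      have hm : maximalIdeal A ≤ P.comap (Ideal.Quotient.mk _) := by
        refine hrad.trans ((Ideal.IsPrime.radical_le_iff inferInstance).2 fun x hx => ?_)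
        rw [Ideal.mem_comap, Ideal.Quotient.eq_zero_iff_mem.2 hx]
        exact P.zero_mem
      haveI : (P.comap (Ideal.Quotient.mk (Ideal.span (Set.range f)))).IsMaximal := by
        rw [← (maximalIdeal.isMaximal A).eq_of_le (Ideal.IsPrime.ne_top inferInstance) hm]
        exact maximalIdeal.isMaximal A
      rw [← Ideal.map_comap_of_surjective (Ideal.Quotient.mk (Ideal.span (Set.range f)))
        Ideal.Quotient.mk_surjective P]
      exact (Ideal.map_eq_top_or_isMaximal_of_surjective _ Ideal.Quotient.mk_surjective this).resolve_left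
        (fun h => hP.ne_top (by rw [← h, Ideal.map_comap_of_surjective _ Ideal.Quotient.mk_surjective]))
    haveI : Nontrivial (A ⧸ Ideal.span (Set.range f)) := Ideal.Quotient.nontrivial_iff.2 (hI ▸ hne)
    exact ringKrullDimZero_iff_ringKrullDim_eq_zero.1 hdim0
  rw [h0, zero_add, Module.supportDim_self_eq_ringKrullDim, hn] at h
  have hw := DepthLib.isWeaklyRegular_of_length_le_idealDepth (M := A) (l ++ [f i]) (fun x hx => ?_) ?_
  · rw [isWeaklyRegular_append_iff, isWeaklyRegular_singleton_iff] at hw
    have hreg := hw.2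
    have h1 : f i • (Submodule.Quotient.mk y : A ⧸ (Ideal.ofList l • ⊤ : Submodule A A)) = 0 := by
      rw [← Submodule.Quotient.mk_smul, Submodule.Quotient.mk_eq_zero, smul_eq_mul, Ideal.mul_top, hl]
      exact hy
    have h2 := hreg.right_eq_zero_of_smul h1
    rwa [Submodule.Quotient.mk_eq_zero, smul_eq_mul, Ideal.mul_top, hl] at h2
  · rcases List.mem_append.1 hx with hx | hx
    · obtain ⟨j, _, rfl⟩ := List.mem_map.1 hx
      exact hf j
    · rw [List.mem_singleton.1 hx]
      exact hf i
  · rw [List.length_append, List.length_singleton, hlen]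
    exact le_of_eq (WithBot.coe_inj.1 h)

section group

variable (G : Type v) [Group G] [Fintype G] [MulSemiringAction G A]

/-- `ℓ(A/(x)) ≤ g ^ n`. -/
theorem ql_norm_le [IsLocalRing A] (u : Fin n → A)
    (hu : ∀ τ : Fin n → G, Ideal.span (Set.range fun i => τ i • u i) = maximalIdeal A) :
    ql (Ideal.span (Set.range fun i => ∏ σ : G, σ • u i)) ≤ (Fintype.card G ^ n : ℕ) := by
  classical
  suffices h : ∀ (s : Finset (Fin n)) (f : Fin n → A), (∀ j ∉ s, ∃ τ : G, f j = τ • u j) →
      (∀ j ∈ s, f j = ∏ σ : G, σ • u j) →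
      ql (Ideal.span (Set.range f)) ≤ (Fintype.card G ^ s.card : ℕ) by
    simpa using h Finset.univ _ (fun j hj => absurd (Finset.mem_univ j) hj) fun j _ => rfl
  intro s
  induction s using Finset.induction with
  | empty =>
    intro f hf _
    choose τ hτ using fun j => hf j (Finset.notMem_empty j)
    rw [show f = fun j => τ j • u j from funext hτ, hu]
    simp [ql_eq_one]
  | @insert i s hi ih =>
    intro f hf hf'
    rw [← Function.update_eq_self i f, span_update, hf' i (Finset.mem_insert_self i s),
      Finset.card_insert_of_notMem hi, pow_succ', Nat.cast_mul]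
    suffices ∀ t : Finset G, ql (others f i ⊔ Ideal.span {∏ σ ∈ t, σ • u i}) ≤
        (t.card : ℕ∞) * ((Fintype.card G ^ s.card : ℕ) : ℕ∞) by simpa using this Finset.univ
    intro t
    induction t using Finset.induction with
    | empty =>
      rw [Finset.prod_empty, Ideal.span_singleton_one, sup_top_eq, ql_top]
      exact bot_le
    | @insert σ t hσ iht =>
      rw [Finset.prod_insert hσ, Finset.card_insert_of_notMem hσ, Nat.cast_succ, add_mul, one_mul,
        add_comm]
      refine (ql_sup_mul_le _ _ _).trans (add_le_add ?_ iht)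
      rw [← span_update]
      refine ih _ (fun j hj => ?_) fun j hj => ?_
      · by_cases h : j = i
        · exact ⟨σ, by rw [h, Function.update_self]⟩
        · rw [Function.update_of_ne h]
          exact hf j (by simp [h, hj])
      · rw [Function.update_of_ne (ne_of_mem_of_not_mem hj hi)]
        exact hf' j (Finset.mem_insert_of_mem hj)

omit [Fintype G] in
lemma smul_mem_maximalIdeal [IsLocalRing A] {x : A} (hx : x ∈ maximalIdeal A) (σ : G) :
    σ • x ∈ maximalIdeal A := by
  rw [mem_maximalIdeal, mem_nonunits_iff] at hx ⊢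
  intro h
  exact hx (by simpa using h.map (MulSemiringAction.toRingHom G A σ⁻¹))

/-- `g ^ n ≤ ℓ(A/(x))`. -/
theorem le_ql_norm [IsRegularLocalRing A] (hn : ringKrullDim A = n) (u : Fin n → A)
    (hu : Ideal.span (Set.range u) = maximalIdeal A)
    (hwa : ∀ τ : Fin n → G, maximalIdeal A ≤ (Ideal.span (Set.range fun i => τ i • u i)).radical) :
    ((Fintype.card G ^ n : ℕ) : ℕ∞) ≤ ql (Ideal.span (Set.range fun i => ∏ σ : G, σ • u i)) := by
  classical
  have hum : ∀ (j : Fin n) (σ : G), σ • u j ∈ maximalIdeal A :=
    fun j σ => smul_mem_maximalIdeal G (hu ▸ Ideal.subset_span ⟨j, rfl⟩) σ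
  -- products of conjugates, weakly admissible
  have hrad : ∀ (t : Fin n → Finset G) (f : Fin n → A), (∀ j, f j = ∏ σ ∈ t j, σ • u j) →
      maximalIdeal A ≤ (Ideal.span (Set.range f)).radical := by
    intro t f hf x hx
    rw [Ideal.radical_eq_sInf, Ideal.mem_sInf]
    rintro P ⟨hP, hPp⟩
    haveI := hPp
    have : ∀ j, ∃ σ : G, σ • u j ∈ P := fun j => by
      obtain ⟨σ, _, hσ⟩ := (Ideal.IsPrime.prod_mem_iff).1 (hf j ▸ hP (Ideal.subset_span ⟨j, rfl⟩))
      exact ⟨σ, hσ⟩
    choose τ hτ using this
    exact (Ideal.IsPrime.radical_le_iff inferInstance).2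
      (Ideal.span_le.2 (by rintro _ ⟨j, rfl⟩; exact hτ j)) (hwa τ hx)
  suffices h : ∀ (s : Finset (Fin n)) (f : Fin n → A), (∀ j ∉ s, ∃ τ : G, f j = τ • u j) →
      (∀ j ∈ s, f j = ∏ σ : G, σ • u j) →
      ((Fintype.card G ^ s.card : ℕ) : ℕ∞) ≤ ql (Ideal.span (Set.range f)) by
    simpa using h Finset.univ _ (fun j hj => absurd (Finset.mem_univ j) hj) fun j _ => rfl
  intro s
  induction s using Finset.induction with
  | empty =>
    intro f hf _
    choose τ hτ using fun j => hf j (Finset.notMem_empty j)
    rw [Finset.card_empty, pow_zero, Nat.cast_one, ← ql_eq_one (maximalIdeal A)]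
    refine ql_le_of_le (Ideal.span_le.2 ?_)
    rintro _ ⟨j, rfl⟩
    exact hτ j ▸ hum j _
  | @insert i s hi ih =>
    intro f hf hf'
    have hstep : ∀ σ : G, ((Fintype.card G ^ s.card : ℕ) : ℕ∞) ≤
        ql (others f i ⊔ Ideal.span {σ • u i}) := fun σ => by
      rw [← span_update]
      refine ih _ (fun j hj => ?_) fun j hj => ?_
      · by_cases h : j = i
        · exact ⟨σ, by rw [h, Function.update_self]⟩
        · rw [Function.update_of_ne h]
          exact hf j (by simp [h, hj])
      · rw [Function.update_of_ne (ne_of_mem_of_not_mem hj hi)]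
        exact hf' j (Finset.mem_insert_of_mem hj)
    have hreg : ∀ σ : G, ∀ y, (σ • u i) * y ∈ others f i → y ∈ others f i := by
      intro σ y hy
      have e : others (Function.update f i (σ • u i)) i = others f i := by
        rw [others, others]
        congr 2
        ext j
        exact Function.update_of_ne j.2 _ _
      rw [← e] at hy ⊢
      have hh : ∀ j, ∃ t : Finset G, t.Nonempty ∧
          Function.update f i (σ • u i) j = ∏ τ ∈ t, τ • u j := fun j => by
        by_cases h : j = i
        · exact ⟨{σ}, Finset.singleton_nonempty σ, by rw [h, Function.update_self, Finset.prod_singleton]⟩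
        · rw [Function.update_of_ne h]
          by_cases h' : j ∈ s
          · exact ⟨Finset.univ, Finset.univ_nonempty, hf' j (Finset.mem_insert_of_mem h')⟩
          · obtain ⟨τ, hτ⟩ := hf j (by simp [h, h'])
            exact ⟨{τ}, Finset.singleton_nonempty τ, by rw [hτ, Finset.prod_singleton]⟩
      choose t ht hft using hh
      refine regular_mod_others hn _ (fun j => ?_) (hrad t _ hft) i y (by rwa [Function.update_self])
      obtain ⟨τ, hτ⟩ := ht j
      rw [hft j, ← Finset.mul_prod_erase _ _ hτ]
      exact Ideal.mul_mem_right _ _ (hum j τ)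
    rw [← Function.update_eq_self i f, span_update, hf' i (Finset.mem_insert_self i s),
      Finset.card_insert_of_notMem hi, pow_succ', Nat.cast_mul]
    suffices ∀ t : Finset G, (t.card : ℕ∞) * ((Fintype.card G ^ s.card : ℕ) : ℕ∞) ≤
        ql (others f i ⊔ Ideal.span {∏ σ ∈ t, σ • u i}) by simpa using this Finset.univ
    intro t
    induction t using Finset.induction with
    | empty => simp
    | @insert σ t hσ iht =>
      rw [Finset.prod_insert hσ, Finset.card_insert_of_notMem hσ, Nat.cast_succ, add_mul, one_mul,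
        add_comm, ql_sup_mul_eq _ _ _ (hreg σ)]
      exact add_le_add (hstep σ) iht

end group

end Groth.Agent.WildQuotH28
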