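import Groth.Agent.Lib.WildQuotH28.Inv
import Mathlib.LinearAlgebra.Matrix.Determinant.Basic
import Mathlib.LinearAlgebra.FiniteDimensional.Basic
import Mathlib.RingTheory.Ideal.KrullsHeightTheorem

/-!
# A ring with an action ramified at one point is not flat over the invariants
-/

open IsLocalRing

universe u w

namespace Groth.Agent.WildQuotH28

variable {A : Type u} [CommRing A] {G : Type w} [Group G] [MulSemiringAction G A]

/-- The `A`-span of the orbit functions. -/
def orbitSpan (A : Type u) [CommRing A] (G : Type w) [Group G] [MulSemiringAction G A] :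
    Submodule A (G → A) :=
  Submodule.span A (Set.range fun (x : A) (h : G) => h • x)

lemma mul_orbit_mem {f : G → A} (hf : f ∈ orbitSpan A G) (y : A) :
    (fun h => f h * h • y) ∈ orbitSpan A G := by
  induction hf using Submodule.span_induction with
  | mem f hf =>
    obtain ⟨x, rfl⟩ := hf
    refine Submodule.subset_span ⟨x * y, funext fun h => ?_⟩
    exact smul_mul' h x y
  | zero =>
    rw [show (fun h => (0 : G → A) h * h • y) = 0 from funext fun h => zero_mul _]
    exact zero_mem _
  | add f g _ _ hf hg =>
    rw [show (fun h => (f + g) h * h • y) = (fun h => f h * h • y) + fun h => g h * h • y from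
      funext fun h => add_mul _ _ _]
    exact add_mem hf hg
  | smul c f _ hf =>
    rw [show (fun h => (c • f) h * h • y) = c • fun h => f h * h • y from
      funext fun h => mul_assoc c _ _]
    exact Submodule.smul_mem _ c hf

/-- Trivial inertia separates one group element from any finite set of others. -/
theorem exists_orbit_separate (Q : Ideal A) [Q.IsPrime] (hQ : Q.inertia G = ⊥) (g : G)
    (s : Finset G) (hs : g ∉ s) :
    ∃ f ∈ orbitSpan A G, f g ∉ Q ∧ ∀ h ∈ s, f h = 0 := by
  classical
  induction s using Finset.induction with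
  | empty =>
    refine ⟨fun h => h • (1 : A), Submodule.subset_span ⟨1, rfl⟩, ?_, by simp⟩
    show g • (1 : A) ∉ Q
    rw [smul_one]
    exact fun h => Ideal.IsPrime.ne_top ‹_› ((Ideal.eq_top_iff_one Q).2 h)
  | insert a s ha ih =>
    rw [Finset.mem_insert, not_or] at hs
    obtain ⟨f, hf, hfg, hfs⟩ := ih hs.2
    have hga : g * a⁻¹ ∉ Q.inertia G := by
      rw [hQ, Subgroup.mem_bot, mul_inv_eq_one]
      exact hs.1
    rw [AddSubgroup.mem_inertia] at hga
    push Not at hga
    obtain ⟨x, hx⟩ := hga
    refine ⟨x • f - fun h => f h * h • (a⁻¹ • x), sub_mem (Submodule.smul_mem _ x hf) (mul_orbit_mem hf _),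
      ?_, ?_⟩
    · show x * f g - f g * g • (a⁻¹ • x) ∉ Q
      rw [smul_smul, show x * f g - f g * (g * a⁻¹) • x = f g * -((g * a⁻¹) • x - x) by ring]
      intro h
      rcases Ideal.IsPrime.mem_or_mem ‹_› h with h | h
      · exact hfg h
      · exact hx (Submodule.neg_mem_iff _ |>.1 h)
    · intro h hh
      show x * f h - f h * h • (a⁻¹ • x) = 0
      rcases Finset.mem_insert.1 hh with rfl | hh
      · rw [smul_inv_smul]; ring
      · rw [hfs h hh]; ring

variable [IsDomain A]

/-- Along a basis over the invariants, the conjugates form a square matrix. -/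
theorem card_eq_of_basis [Fintype G] (hQ : (⊥ : Ideal A).inertia G = ⊥) {ι : Type*} [Fintype ι]
    (b : Module.Basis ι (FixedPoints.subring A G) A) : Fintype.card ι = Fintype.card G := by
  classical
  let K := FractionRing A
  have hspan : orbitSpan A G ≤ Submodule.span A (Set.range fun (i : ι) (h : G) => h • b i) := by
    refine Submodule.span_le.2 ?_
    rintro _ ⟨x, rfl⟩
    have : (fun h : G => h • x) = ∑ i, ((b.repr x i : A)) • fun h : G => h • b i := by
      funext h
      rw [Finset.sum_apply]
      conv_lhs => rw [← b.sum_repr x, Finset.smul_sum]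
      refine Finset.sum_congr rfl fun i _ => ?_
      show h • ((b.repr x i : A) * b i) = (b.repr x i : A) * h • b i
      rw [smul_mul', (b.repr x i).2 h]
    show (fun h : G => h • x) ∈ _
    rw [this]
    exact Submodule.sum_mem _ fun i _ => Submodule.smul_mem _ _ (Submodule.subset_span ⟨i, rfl⟩)
  refine le_antisymm ?_ ?_
  · -- the columns are independent
    have hli : LinearIndependent A (fun (i : ι) (h : G) => h • b i) := by
      rw [Fintype.linearIndependent_iff]
      intro c hc i
      by_contra hci
      have hrel : ∀ g : G, ∑ j, (g • c j) * b j = 0 := fun g => by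
        have := congrArg (g • ·) (congrFun hc g⁻¹)
        simpa [Finset.smul_sum, smul_mul', smul_smul] using this
      have htr : ∀ (a : A) (j : ι), ∑ g : G, g • (a * c j) = 0 := by
        intro a j
        have h0 : ∑ j, (⟨∑ g : G, g • (a * c j), fun σ => by
            rw [Finset.smul_sum]
            exact Fintype.sum_equiv (Equiv.mulLeft σ) _ _ fun g => (mul_smul σ g _).symm⟩ :
              FixedPoints.subring A G) • b j = 0 := by
          show ∑ j, (∑ g : G, g • (a * c j)) * b j = 0
          simp only [smul_mul', Finset.sum_mul]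
          rw [Finset.sum_comm]
          refine Finset.sum_eq_zero fun g _ => ?_
          simp only [mul_assoc]
          rw [← Finset.mul_sum, hrel, mul_zero]
        exact congrArg Subtype.val (Fintype.linearIndependent_iff.1 b.linearIndependent _ h0 j)
      obtain ⟨f, hf, hf1, hf0⟩ :=
        exists_orbit_separate (⊥ : Ideal A) hQ (1 : G) (Finset.univ.erase 1) (Finset.notMem_erase _ _)
      obtain ⟨d, hd⟩ : ∃ d : A, ∑ g : G, g • d ≠ 0 := by
        by_contra hall
        push Not at hall
        refine hf1 (Ideal.mem_bot.2 ?_)
        have key : ∀ f ∈ orbitSpan A G, ∑ g : G, f g = 0 := fun f hf => by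
          induction hf using Submodule.span_induction with
          | mem f hf => obtain ⟨x, rfl⟩ := hf; exact hall x
          | zero => simp
          | add f g _ _ hf hg => simp [Finset.sum_add_distrib, hf, hg]
          | smul c f _ hf => simp [← Finset.mul_sum, hf]
        rw [← key f hf]
        exact (Finset.sum_eq_single 1 (fun g _ hg => hf0 g (Finset.mem_erase.2 ⟨hg, Finset.mem_univ _⟩))
          (fun h => absurd (Finset.mem_univ _) h)).symm
      let N := ∏ g ∈ Finset.univ.erase (1 : G), g • c i
      have hN : N * c i = ∏ g : G, g • c i := by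
        rw [← Finset.prod_erase_mul _ _ (Finset.mem_univ (1 : G)), one_smul]
      have hNne : ∏ g : G, g • c i ≠ 0 := Finset.prod_ne_zero_iff.2 fun g _ h =>
        hci ((smul_eq_zero_iff_eq g).1 h)
      have := htr (d * N) i
      rw [mul_assoc, hN] at this
      have hfixN : ∀ σ : G, σ • (∏ g : G, g • c i) = ∏ g : G, g • c i := fun σ => by
        rw [Finset.smul_prod']
        exact Fintype.prod_equiv (Equiv.mulLeft σ) _ _ fun τ => (mul_smul σ τ _).symm
      simp only [smul_mul', hfixN, ← Finset.sum_mul] at this
      exact (mul_ne_zero hd hNne) this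
    have h := hli.cardinalMk_le_finrank
    rw [Module.finrank_pi, Cardinal.mk_fintype, Nat.cast_le] at h
    exact h
  · -- and generate up to torsion
    choose f hf hfg hf0 using fun g : G =>
      exists_orbit_separate (⊥ : Ideal A) hQ g (Finset.univ.erase g) (Finset.notMem_erase _ _)
    have hdiag : ∀ g, f g = Pi.single g (f g g) := fun g => funext fun h => by
      by_cases hh : h = g
      · subst hh; rw [Pi.single_eq_same]
      · rw [Pi.single_eq_of_ne hh, hf0 g h (Finset.mem_erase.2 ⟨hh, Finset.mem_univ _⟩)]
    have hli : LinearIndependent A f := by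
      rw [Fintype.linearIndependent_iff]
      intro c hc g
      have := congrFun hc g
      rw [Finset.sum_apply, Finset.sum_eq_single g] at this
      · exact (mul_eq_zero.1 this).resolve_right fun h => hfg g (Ideal.mem_bot.2 h)
      · intro h _ hh
        show c h * f h g = 0
        rw [hdiag h, Pi.single_eq_of_ne (Ne.symm hh), mul_zero]
      · simp
    let W := Submodule.span A (Set.range fun (i : ι) (h : G) => h • b i)
    let e : G → W := fun g => ⟨f g, hspan (hf g)⟩
    have hli' : LinearIndependent A e := LinearIndependent.of_comp W.subtype hli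
    haveI : Module.Finite A W := Module.Finite.span_of_finite A (Set.finite_range _)
    exact hli'.fintype_card_le_finrank.trans (finrank_range_le_card _)

/-- An element of the maximal ideal outside every other prime, if `A` were free over the invariants. -/
theorem exists_det_mem [Fintype G] [IsLocalRing A] [Nontrivial G]
    (hres : ∀ (σ : G) (a : A), σ • a - a ∈ maximalIdeal A)
    (hram : ∀ P : Ideal A, P.IsPrime → P ≠ maximalIdeal A → P.inertia G = ⊥)
    (hne : (⊥ : Ideal A) ≠ maximalIdeal A) {ι : Type*} [Fintype ι]
    (b : Module.Basis ι (FixedPoints.subring A G) A) :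
    ∃ Δ ∈ maximalIdeal A, ∀ P : Ideal A, P.IsPrime → P ≠ maximalIdeal A → Δ ∉ P := by
  classical
  have hcard := card_eq_of_basis (hram ⊥ Ideal.isPrime_bot hne) b
  let e : G ≃ ι := Fintype.equivOfCardEq hcard.symm
  let T : Matrix G G A := Matrix.of fun h g => h • b (e g)
  refine ⟨T.det, ?_, fun P hP hPne hdet => ?_⟩
  · obtain ⟨σ, hσ⟩ := exists_ne (1 : G)
    rw [← residue_eq_zero_iff, RingHom.map_det]
    refine Matrix.det_zero_of_row_eq hσ (funext fun g => ?_)
    show residue A (σ • b (e g)) = residue A ((1 : G) • b (e g))
    rw [one_smul]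
    exact Ideal.Quotient.eq.2 (hres σ _)
  · haveI := hP
    have hvec : ∀ g : G, ∃ (c : G → A) (t : A), t ∉ P ∧ T.mulVec c = Pi.single g t := by
      intro g
      obtain ⟨f, hf, hfg, hf0⟩ :=
        exists_orbit_separate P (hram P hP hPne) g (Finset.univ.erase g) (Finset.notMem_erase _ _)
      have hfm : f ∈ LinearMap.range T.mulVecLin := by
        refine (Submodule.span_le.2 ?_ : orbitSpan A G ≤ LinearMap.range T.mulVecLin) hf
        rintro _ ⟨x, rfl⟩
        refine ⟨fun g => (b.repr x (e g) : A), funext fun h => ?_⟩
        show ∑ g, h • b (e g) * (b.repr x (e g) : A) = h • x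
        conv_rhs => rw [← b.sum_repr x, Finset.smul_sum, ← e.sum_comp]
        refine Finset.sum_congr rfl fun g _ => ?_
        show _ = h • ((b.repr x (e g) : A) * b (e g))
        rw [smul_mul', (b.repr x (e g)).2 h, mul_comm]
      obtain ⟨c, hc⟩ := hfm
      refine ⟨c, f g, hfg, ?_⟩
      rw [← Matrix.mulVecLin_apply, hc]
      funext h
      by_cases hh : h = g
      · subst hh; rw [Pi.single_eq_same]
      · rw [Pi.single_eq_of_ne hh, hf0 h (Finset.mem_erase.2 ⟨hh, Finset.mem_univ _⟩)]
    choose c t ht hct using hvec
    have hTC : T * (Matrix.of fun g' g => c g g') = Matrix.diagonal t := by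
      ext h g
      have := congrFun (hct g) h
      rw [Matrix.mul_apply, Matrix.diagonal_apply]
      simp only [Matrix.of_apply]
      rw [show (∑ j, T h j * c g j) = T.mulVec (c g) h from rfl, this, Pi.single_apply]
      split_ifs with h1 <;> simp_all
    have hd : (Matrix.diagonal t).det ∈ P := by
      rw [← hTC, Matrix.det_mul]
      exact P.mul_mem_right _ hdet
    rw [Matrix.det_diagonal] at hd
    obtain ⟨g, -, hg⟩ := (Ideal.IsPrime.prod_mem_iff (hp := hP)).1 hd
    exact ht g hg

/-- Not free over the invariants in dimension at least two. -/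
theorem not_free [Finite G] [IsLocalRing A] [IsNoetherianRing A] [Nontrivial G]
    (hdim : 2 ≤ ringKrullDim A) (hres : ∀ (σ : G) (a : A), σ • a - a ∈ maximalIdeal A)
    (hram : ∀ P : Ideal A, P.IsPrime → P ≠ maximalIdeal A → P.inertia G = ⊥)
    [Module.Finite (FixedPoints.subring A G) A] : ¬ Module.Free (FixedPoints.subring A G) A := by
  intro hfree
  classical
  cases nonempty_fintype G
  have hh : (2 : ℕ∞) ≤ (maximalIdeal A).height := by
    rw [← maximalIdeal_height_eq_ringKrullDim] at hdim
    exact WithBot.coe_le_coe.1 hdim
  have hne : (⊥ : Ideal A) ≠ maximalIdeal A := fun h => by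
    rw [← h, Ideal.height_bot] at hh
    exact absurd hh (by norm_num)
  obtain ⟨Δ, hΔ, hout⟩ := exists_det_mem hres hram hne (Module.Free.chooseBasis (FixedPoints.subring A G) A)
  have hmin : maximalIdeal A ∈ (Ideal.span {Δ}).minimalPrimes := by
    refine ⟨⟨inferInstance, (Ideal.span_singleton_le_iff_mem _).2 hΔ⟩, fun P hP _ => ?_⟩
    by_contra hle
    exact hout P hP.1 (fun h => hle h.ge) (hP.2 (Ideal.mem_span_singleton_self Δ))
  exact absurd (hh.trans (Ideal.height_le_one_of_isPrincipal_of_mem_minimalPrimes (Ideal.span {Δ}) _ hmin)) (by norm_num)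

end Groth.Agent.WildQuotH28
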