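import Groth.Agent.Lib.WildQuotH28.Minor

/-!
# Invariants of a hyperplane of translations
-/

open MvPolynomial

universe u

namespace Groth.Agent.WildQuotH28.Orth

open AS (Alg rel u mono)

variable {R : Type u} [CommRing R] {n p : ℕ} [hpf : Fact p.Prime] [CharP R p]
  (a : Fin n → R) (μ α : R) (d γ : Fin n → R) (i₀ : Fin n)

/-- linear coefficients in the new coordinates -/
def c' : Fin n → R := Function.update (fun i => (μ * a i) ^ (p - 1)) i₀ ((μ * α) ^ (p - 1))

/-- constant coefficients in the new coordinates -/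
def d' : Fin n → R := Function.update d i₀ (∑ i, γ i ^ p * d i)

/-- The ambient algebra. -/
abbrev AA : Type u := Alg p (fun i => (μ * a i) ^ (p - 1)) d

/-- The algebra in the new coordinates. -/
abbrev NN : Type u := Alg p (c' (p := p) a μ α i₀) (d' (p := p) d γ i₀)

/-- The invariant linear form. -/
noncomputable def Z : AA (p := p) a μ d := ∑ i, algebraMap R _ (γ i) * u _ _ i

/-- The new coordinates. -/
noncomputable def gen : Fin n → AA (p := p) a μ d :=
  Function.update (fun i => u _ _ i) i₀ (Z a μ d γ)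

theorem gen_self : gen (p := p) a μ d γ i₀ i₀ = Z a μ d γ := Function.update_self ..

theorem gen_ne {i : Fin n} (h : i ≠ i₀) : gen (p := p) a μ d γ i₀ i = u _ _ i := Function.update_of_ne h ..

variable (hγ : ∀ i, γ i ^ p * (μ * a i) ^ (p - 1) = (μ * α) ^ (p - 1) * γ i)

include hγ in
theorem Z_pow [Nontrivial R] : Z (p := p) a μ d γ ^ p =
    algebraMap R _ ((μ * α) ^ (p - 1)) * Z a μ d γ + algebraMap R _ (∑ i, γ i ^ p * d i) := by
  haveI : CharP (AA (p := p) a μ d) p := charP_of_injective_ringHom (Minor.algebraMap_injective _ _) p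
  rw [Z, sum_pow_char, Finset.mul_sum, map_sum, ← Finset.sum_add_distrib]
  refine Finset.sum_congr rfl fun i _ => ?_
  rw [mul_pow, AS.u_pow, mul_add, ← map_pow, ← mul_assoc, ← map_mul, hγ i, map_mul, map_mul _ (γ i ^ p), mul_assoc]

/-- The change of coordinates. -/
noncomputable def Psi [Nontrivial R] : NN (p := p) a μ α d γ i₀ →ₐ[R] AA (p := p) a μ d :=
  Ideal.Quotient.liftₐ _ (MvPolynomial.aeval (gen a μ d γ i₀)) fun x hx => by
    induction hx using Submodule.span_induction with
    | mem y hy =>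
      obtain ⟨j, rfl⟩ := hy
      simp only [map_sub, map_mul, map_pow, MvPolynomial.aeval_X, MvPolynomial.aeval_C]
      by_cases h : j = i₀
      · subst h
        simp only [gen_self, c', d', Function.update_self]
        rw [Z_pow a μ α d γ hγ]
        ring
      · simp only [gen_ne a μ d γ i₀ h, c', d', Function.update_of_ne h]
        rw [AS.u_pow]
        ring
    | zero => rw [map_zero]
    | add a b _ _ ha hb => rw [map_add, ha, hb, add_zero]
    | smul r a _ ha => rw [smul_eq_mul, map_mul, ha, mul_zero]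

theorem Psi_u [Nontrivial R] (j : Fin n) : Psi a μ α d γ i₀ hγ (u _ _ j) = gen a μ d γ i₀ j := by
  show MvPolynomial.aeval _ (X j) = _
  rw [MvPolynomial.aeval_X]

variable [IsDomain R] (hg0 : γ i₀ ≠ 0)

theorem exists_mul_mem (x : AA (p := p) a μ d) :
    ∃ y, Psi a μ α d γ i₀ hγ y = algebraMap R _ (γ i₀ ^ (n * p)) * x := by
  classical
  have hgen : ∀ i, ∃ y, Psi (p := p) a μ α d γ i₀ hγ y = algebraMap R _ (γ i₀) * u _ _ i := by
    intro i
    by_cases h : i = i₀
    · subst h
      refine ⟨u _ _ i - ∑ j ∈ Finset.univ.erase i, algebraMap R _ (γ j) * u _ _ j, ?_⟩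
      rw [map_sub, map_sum, Psi_u, gen_self, Z, ← Finset.add_sum_erase _ _ (Finset.mem_univ i)]
      have h : ∀ j ∈ Finset.univ.erase i, Psi (p := p) a μ α d γ i hγ (algebraMap R _ (γ j) * u _ _ j) =
          algebraMap R _ (γ j) * u _ _ j := fun j hj => by
        rw [map_mul, AlgHom.commutes, Psi_u, gen_ne a μ d γ i (Finset.ne_of_mem_erase hj)]
      rw [Finset.sum_congr rfl h, add_sub_cancel_right]
    · exact ⟨algebraMap R _ (γ i₀) * u _ _ i, by rw [map_mul, AlgHom.commutes, Psi_u, gen_ne a μ d γ i₀ h]⟩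
  suffices h : ∀ e : Fin n → Fin p, algebraMap R _ (γ i₀ ^ (n * p)) * mono (fun i => (μ * a i) ^ (p - 1)) d e ∈
      (Psi (p := p) a μ α d γ i₀ hγ).range by
    have hx : x ∈ Submodule.span R (Set.range (mono (p := p) (fun i => (μ * a i) ^ (p - 1)) d)) := by
      rw [AS.span_mono_eq_top _ _ hpf.out.two_le]; exact Submodule.mem_top
    induction hx using Submodule.span_induction with
    | mem y hy => obtain ⟨e, rfl⟩ := hy; exact h e
    | zero => exact ⟨0, by rw [mul_zero, map_zero]⟩
    | add y z _ _ hy hz =>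
      obtain ⟨y', hy'⟩ := hy; obtain ⟨z', hz'⟩ := hz
      exact ⟨y' + z', by rw [map_add, hy', hz', mul_add]⟩
    | smul r y _ hy =>
      obtain ⟨y', hy'⟩ := hy
      exact ⟨algebraMap R _ r * y', by rw [map_mul, AlgHom.commutes, hy', AS.smul_eq, mul_left_comm]⟩
  intro e
  choose y hy using hgen
  refine ⟨algebraMap R _ (γ i₀ ^ (n * p - ∑ i, (e i : ℕ))) * ∏ i, y i ^ (e i : ℕ), ?_⟩
  have hle : ∑ i, (e i : ℕ) ≤ n * p := by
    refine (Finset.sum_le_sum (g := fun _ => p) fun i _ => (e i).2.le).trans ?_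
    simp
  show Psi a μ α d γ i₀ hγ _ = _
  rw [map_mul, map_prod, AlgHom.commutes]
  simp only [map_pow, hy, mul_pow, Finset.prod_mul_distrib, Finset.prod_pow_eq_pow_sum]
  rw [← mul_assoc, ← pow_add, Nat.sub_add_cancel hle]
  rfl

include hg0 in
theorem Psi_injective : Function.Injective (Psi (p := p) a μ α d γ i₀ hγ) := by
  refine Minor.injective_of_smul_mem_range (AS.basis _ _ hpf.out.two_le) (AS.basis _ _ hpf.out.two_le)
    (Psi (p := p) a μ α d γ i₀ hγ).toLinearMap (c := γ i₀ ^ (n * p)) (pow_ne_zero _ hg0) fun i => ?_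
  obtain ⟨y, hy⟩ := exists_mul_mem (p := p) a μ α d γ i₀ hγ (AS.basis (fun i => (μ * a i) ^ (p - 1)) d hpf.out.two_le i)
  exact ⟨y, hy.trans (AS.smul_eq _ _ _ _).symm⟩

include hg0 hγ in
theorem exists_rational (hμa : ∀ i, μ * a i ≠ 0) [IsDomain (AA (p := p) a μ d)]
    (τ : Fin n → (AA (p := p) a μ d ≃ₐ[R] AA (p := p) a μ d))
    (hτZ : ∀ i, i ≠ i₀ → τ i (Z a μ d γ) = Z a μ d γ)
    (hτu : ∀ i j, i ≠ i₀ → j ≠ i₀ → τ i (u _ _ j) = u _ _ j + if i = j then algebraMap R _ (μ * a i) else 0)
    (t : AA (p := p) a μ d) (ht : ∀ i, i ≠ i₀ → τ i t = t) :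
    ∃ q : Polynomial R, q.natDegree < p ∧
      algebraMap R _ (γ i₀ ^ (n * p)) * t = Polynomial.aeval (Z a μ d γ) q := by
  classical
  obtain ⟨w, hw⟩ := exists_mul_mem (p := p) a μ α d γ i₀ hγ t
  let b := AS.basis (p := p) (c' (p := p) a μ α i₀) (d' (p := p) d γ i₀) hpf.out.two_le
  have hmono : ∀ e, Psi a μ α d γ i₀ hγ (b e) = ∏ j, gen a μ d γ i₀ j ^ (e j : ℕ) := fun e => by
    rw [AS.basis_apply, mono, map_prod]
    simp only [map_pow, Psi_u]
  have hzero : ∀ e : Fin n → Fin p, ∀ i, i ≠ i₀ → (e i : ℕ) ≠ 0 → b.repr w e = 0 := by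
    by_contra hcon
    push Not at hcon
    obtain ⟨e₁, i, hi, hei, hne⟩ := hcon
    let S := (Finset.univ : Finset (Fin n → Fin p)).filter fun e => b.repr w e ≠ 0
    obtain ⟨e₀, he₀, hmax⟩ := Finset.exists_max_image S (fun e => (e i : ℕ)) ⟨e₁, by simpa [S] using hne⟩
    have hd : (e₀ i : ℕ) ≠ 0 := by
      have := hmax e₁ (by simpa [S] using hne)
      omega
    let ε := μ * a i
    -- expansion of the translate of a monomial
    let E : (Fin n → Fin p) → NN (p := p) a μ α d γ i₀ := fun e =>
      ∑ l : Fin p, (((e i : ℕ).choose l : R) * if (l : ℕ) ≤ e i then ε ^ ((e i : ℕ) - l) else 0) • b (Function.update e i l)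
    have hE : ∀ e, τ i (Psi a μ α d γ i₀ hγ (b e)) = Psi a μ α d γ i₀ hγ (E e) := by
      intro e
      rw [hmono, map_prod, ← Finset.mul_prod_erase _ _ (Finset.mem_univ i)]
      have h1 : ∏ j ∈ Finset.univ.erase i, τ i (gen a μ d γ i₀ j ^ (e j : ℕ)) =
          ∏ j ∈ Finset.univ.erase i, gen a μ d γ i₀ j ^ (e j : ℕ) := by
        refine Finset.prod_congr rfl fun j hj => ?_
        rw [map_pow]
        congr 1
        by_cases hj0 : j = i₀
        · subst hj0; rw [gen_self, hτZ i hi]
        · rw [gen_ne a μ d γ i₀ hj0, hτu i j hi hj0, if_neg (Finset.ne_of_mem_erase hj).symm, add_zero]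
      rw [h1, map_pow, gen_ne a μ d γ i₀ hi, hτu i i hi hi, if_pos rfl]
      simp only [E, AS.smul_eq, map_sum, map_mul, AlgHom.commutes, hmono]
      have h2 : ∀ l : Fin p, ∏ j, gen a μ d γ i₀ j ^ ((Function.update e i l j : Fin p) : ℕ) =
          u (fun i => (μ * a i) ^ (p - 1)) d i ^ (l : ℕ) * ∏ j ∈ Finset.univ.erase i, gen a μ d γ i₀ j ^ (e j : ℕ) := by
        intro l
        rw [← Finset.mul_prod_erase _ _ (Finset.mem_univ i), Function.update_self, gen_ne a μ d γ i₀ hi]
        congr 1
        exact Finset.prod_congr rfl fun j hj => by rw [Function.update_of_ne (Finset.ne_of_mem_erase hj)]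
      simp only [h2, ← mul_assoc]
      rw [← Finset.sum_mul, add_pow,
        Fin.sum_univ_eq_sum_range (fun l : ℕ => algebraMap R (AA (p := p) a μ d) ((e i : ℕ).choose l : R) * algebraMap R (AA (p := p) a μ d) (if l ≤ (e i : ℕ) then ε ^ ((e i : ℕ) - l) else 0) * u (fun i => (μ * a i) ^ (p - 1)) d i ^ l) p]
      congr 1
      refine (Finset.sum_subset_zero_on_sdiff (Finset.range_subset_range.mpr (Nat.succ_le_of_lt (e i).2)) ?_ ?_)
      · intro l hl
        simp only [Finset.mem_sdiff, Finset.mem_range] at hl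
        rw [if_neg (by omega), map_zero, mul_zero, zero_mul]
      · intro l hl
        simp only [Finset.mem_range] at hl
        rw [if_pos (by omega), map_natCast, map_pow, map_mul]
        ring
    have hfix : ∑ e, b.repr w e • E e = w := by
      refine Psi_injective a μ α d γ i₀ hγ hg0 ?_
      rw [map_sum]
      simp only [map_smul, ← hE]
      conv_lhs => arg 2; ext e; rw [← map_smul (τ i), ← map_smul (Psi a μ α d γ i₀ hγ)]
      rw [← map_sum, ← map_sum, b.sum_repr, hw, map_mul, AlgEquiv.commutes, ht i hi]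
    have hlt : (e₀ i : ℕ) - 1 < p := by have := (e₀ i).2; omega
    set e' := Function.update e₀ i (⟨(e₀ i : ℕ) - 1, hlt⟩ : Fin p) with he'
    have hco : ∀ e l, (b.repr (b (Function.update e i l))) e' = if Function.update e i l = e' then 1 else 0 := fun e l => by
      rw [b.repr_self, Finsupp.single_apply]
    have key := congrArg (fun z => b.repr z e') hfix
    simp only [E, map_sum, map_smul, Finsupp.coe_finsetSum, Finset.sum_apply, Finsupp.smul_apply, hco,
      smul_eq_mul, mul_ite, mul_one, mul_zero] at key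
    have he'i : (e' i : ℕ) = (e₀ i : ℕ) - 1 := by rw [he', Function.update_self]
    have hl : ∀ e l, Function.update e i l = e' → l = e' i ∧ ∀ j, j ≠ i → e j = e₀ j := fun e l h =>
      ⟨by rw [← h, Function.update_self], fun j hj => by
        have := congrFun h j
        rwa [Function.update_of_ne hj, he', Function.update_of_ne hj] at this⟩
    rw [← Finset.sum_subset (Finset.subset_univ ({e₀, e'} : Finset (Fin n → Fin p)))] at key
    · have hne' : e₀ ≠ e' := fun h => by
        have := congrArg Fin.val (congrFun h i); rw [he'i] at this; omega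
      rw [Finset.sum_pair hne'] at key
      rw [Finset.sum_eq_single (e' i) (fun l _ hl' => by rw [if_neg (fun h => hl' (hl _ _ h).1)]) (by simp),
        Finset.sum_eq_single (e' i) (fun l _ hl' => by rw [if_neg (fun h => hl' (hl _ _ h).1)]) (by simp)] at key
      rw [if_pos (by rw [he', Function.update_self]; ), if_pos (Function.update_eq_self i e'), he'i,
        if_pos (Nat.sub_le _ _), show (e₀ i : ℕ) - ((e₀ i : ℕ) - 1) = 1 by omega, pow_one, Nat.choose_self,
        if_pos le_rfl, Nat.sub_self, pow_zero, Nat.cast_one, one_mul, mul_one,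
        Nat.choose_symm (by omega : 1 ≤ (e₀ i : ℕ)), Nat.choose_one_right, add_eq_right] at key
      rcases mul_eq_zero.mp key with h | h
      · simp only [S, Finset.mem_filter] at he₀
        exact he₀.2 h
      · rcases mul_eq_zero.mp h with h | h
        · rw [CharP.cast_eq_zero_iff R p] at h
          have := Nat.le_of_dvd (by omega) h
          have := (e₀ i).2
          omega
        · exact hμa i h
    · intro e _ he
      simp only [Finset.mem_insert, Finset.mem_singleton, not_or] at he
      by_cases hr : b.repr w e = 0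
      · rw [hr, zero_mul]
      refine mul_eq_zero_of_right _ (Finset.sum_eq_zero fun l _ => ?_)
      have hle := hmax e (by simpa [S] using hr)
      split_ifs with h h'
      · obtain ⟨rfl, hj⟩ := hl e _ h
        exfalso
        rw [he'i] at h'
        have hcases : (e i : ℕ) = (e₀ i : ℕ) ∨ (e i : ℕ) = (e₀ i : ℕ) - 1 := by omega
        rcases hcases with hc | hc
        · exact he.1 (funext fun j => if hj' : j = i then hj' ▸ Fin.ext hc else hj j hj')
        · exact he.2 (funext fun j => if hj' : j = i then by rw [hj']; exact Fin.ext (hc.trans he'i.symm)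
            else by rw [hj j hj', he', Function.update_of_ne hj'])
      all_goals rfl
  refine ⟨∑ l : Fin p, Polynomial.C (b.repr w (Function.update (fun _ => ⟨0, hpf.out.pos⟩) i₀ l)) * Polynomial.X ^ (l : ℕ), ?_, ?_⟩
  · refine lt_of_le_of_lt (Polynomial.natDegree_sum_le_of_forall_le _ _ fun l _ => ?_) (Nat.sub_lt hpf.out.pos one_pos)
    exact (Polynomial.natDegree_C_mul_X_pow_le _ _).trans (by have := l.2; omega)
  rw [← hw, map_sum]
  conv_lhs => rw [← b.sum_repr w, map_sum]
  symm
  refine Finset.sum_of_injOn (fun l => Function.update (fun _ => ⟨0, hpf.out.pos⟩) i₀ l) ?_ ?_ ?_ ?_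
  · intro x _ y _ h
    simpa using congrFun h i₀
  · intro x _; exact Finset.mem_coe.mpr (Finset.mem_univ _)
  · intro e _ he
    have : ∃ i, i ≠ i₀ ∧ (e i : ℕ) ≠ 0 := by
      by_contra h
      push Not at h
      refine he ⟨e i₀, Finset.mem_coe.mpr (Finset.mem_univ _), funext fun j => ?_⟩
      by_cases hj : j = i₀
      · subst hj; exact Function.update_self ..
      · exact (Function.update_of_ne hj ..).trans (Fin.ext (h j hj).symm)
    obtain ⟨i, hi, hei⟩ := this
    rw [hzero e i hi hei, zero_smul, map_zero]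
  · intro l _
    rw [map_mul, Polynomial.aeval_C, map_pow, Polynomial.aeval_X, map_smul, hmono, AS.smul_eq]
    congr 1
    rw [Finset.prod_eq_single i₀ (fun j _ hj => by rw [Function.update_of_ne hj]; simp) (by simp),
      Function.update_self, gen_self]

end Groth.Agent.WildQuotH28.Orth
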