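import Groth.Agent.Lib.WildQuotH28.Orth
import Groth.Agent.Lib.RegLoc.UFD
import Mathlib.RingTheory.MvPowerSeries.NoZeroDivisors
import Mathlib.Data.Nat.Choose.Multinomial

/-!
# Invariants of a hyperplane of translations: the power series case
-/

open MvPolynomial

universe u

namespace Groth.Agent.WildQuotH28.Orth

open AS (Alg rel u mono)

variable {R : Type u} [CommRing R] {n p : ℕ} [hpf : Fact p.Prime] [CharP R p]
  (a : Fin n → R) (μ : R) (d γ : Fin n → R)

omit [CharP R p] in
theorem repr_aeval_Z [Nontrivial R] (q : Polynomial R) (hq : q.natDegree < p) (i : Fin n) (l : ℕ) (hl : l < p) :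
    (AS.basis (p := p) (fun i => (μ * a i) ^ (p - 1)) d hpf.out.two_le).repr (Polynomial.aeval (Z a μ d γ) q)
      (Function.update (fun _ => ⟨0, hpf.out.pos⟩) i ⟨l, hl⟩) = q.coeff l * γ i ^ l := by
  classical
  set b := AS.basis (p := p) (fun i => (μ * a i) ^ (p - 1)) d hpf.out.two_le
  set e₁ : Fin n → Fin p := Function.update (fun _ => ⟨0, hpf.out.pos⟩) i ⟨l, hl⟩ with he₁
  have hZ : ∀ m < p, b.repr (Z (p := p) a μ d γ ^ m) e₁ = if m = l then γ i ^ l else 0 := by
    intro m hm
    rw [Z, Finset.sum_pow_eq_sum_piAntidiag, map_sum, Finsupp.coe_finsetSum, Finset.sum_apply]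
    have hterm : ∀ k ∈ Finset.piAntidiag (Finset.univ : Finset (Fin n)) m,
        b.repr ((Nat.multinomial Finset.univ k : AA (p := p) a μ d) * ∏ j, (algebraMap R _ (γ j) * u _ _ j) ^ k j) e₁ =
          if (∀ j, k j = (e₁ j : ℕ)) then (Nat.multinomial Finset.univ k : R) * ∏ j, γ j ^ k j else 0 := by
      intro k hk
      rw [Finset.mem_piAntidiag] at hk
      have hkp : ∀ j, k j < p := fun j =>
        lt_of_le_of_lt (hk.1 ▸ Finset.single_le_sum (fun _ _ => Nat.zero_le _) (Finset.mem_univ j)) hm
      have : (Nat.multinomial Finset.univ k : AA (p := p) a μ d) * ∏ j, (algebraMap R _ (γ j) * u _ _ j) ^ k j =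
          ((Nat.multinomial Finset.univ k : R) * ∏ j, γ j ^ k j) • b (fun j => ⟨k j, hkp j⟩) := by
        rw [AS.basis_apply, AS.smul_eq, mono]
        simp only [map_mul, map_prod, map_pow, map_natCast, mul_pow, Finset.prod_mul_distrib, mul_assoc]
      rw [this, map_smul, Finsupp.smul_apply, b.repr_self, Finsupp.single_apply, smul_eq_mul, mul_ite, mul_one, mul_zero]
      exact if_congr ⟨fun h j => congrArg Fin.val (congrFun h j), fun h => funext fun j => Fin.ext (h j)⟩ rfl rfl
    rw [Finset.sum_congr rfl hterm]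
    have hsum1 : ∑ j, (e₁ j : ℕ) = l := by
      rw [Finset.sum_eq_single i (fun j _ hj => by rw [he₁, Function.update_of_ne hj]) (by simp), he₁, Function.update_self]
    by_cases hml : m = l
    · rw [if_pos hml, Finset.sum_eq_single (fun j => (e₁ j : ℕ))]
      · rw [if_pos fun j => rfl, Nat.multinomial, hsum1]
        have h1 : ∏ j, ((e₁ j : ℕ)).factorial = l.factorial := by
          rw [Finset.prod_eq_single i (fun j _ hj => by rw [he₁, Function.update_of_ne hj]; rfl) (by simp), he₁, Function.update_self]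
        rw [h1, Nat.div_self (Nat.factorial_pos l), Nat.cast_one, one_mul,
          Finset.prod_eq_single i (fun j _ hj => by simp only [he₁, Function.update_of_ne hj]; exact pow_zero _) (by simp)]
        simp only [he₁, Function.update_self]
      · intro k _ hk
        exact if_neg fun h => hk (funext h)
      · intro h
        exact absurd (Finset.mem_piAntidiag.mpr ⟨hsum1.trans hml.symm, fun j _ => Finset.mem_univ j⟩) h
    · rw [if_neg hml]
      refine Finset.sum_eq_zero fun k hk => if_neg fun h => hml ?_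
      rw [Finset.mem_piAntidiag] at hk
      rw [← hk.1, ← hsum1]
      exact Finset.sum_congr rfl fun j _ => h j
  rw [Polynomial.aeval_eq_sum_range' hq, map_sum, Finsupp.coe_finsetSum, Finset.sum_apply,
    Finset.sum_eq_single l]
  · rw [map_smul, Finsupp.smul_apply, hZ l hl, if_pos rfl, smul_eq_mul]
  · intro m hm hne
    rw [map_smul, Finsupp.smul_apply, hZ m (Finset.mem_range.mp hm), if_neg hne, smul_zero]
  · intro h
    exact absurd (Finset.mem_range.mpr hl) h

theorem saturate [IsDomain R] [UniqueFactorizationMonoid R] [IsDomain (AA (p := p) a μ d)]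
    (hg : ∀ g : R, Prime g → ∃ i, ¬ g ∣ γ i) (N : R) (hN : N ≠ 0) (t : AA (p := p) a μ d) :
    ∀ q : Polynomial R, q.natDegree < p → algebraMap R _ N * t = Polynomial.aeval (Z a μ d γ) q →
      ∃ q' : Polynomial R, t = Polynomial.aeval (Z a μ d γ) q' := by
  classical
  induction N using UniqueFactorizationMonoid.induction_on_prime generalizing t with
  | h₁ => exact absurd rfl hN
  | h₂ x hx =>
    obtain ⟨w, rfl⟩ := hx
    intro q _ h
    refine ⟨Polynomial.C (↑w⁻¹ : R) * q, ?_⟩
    rw [map_mul, Polynomial.aeval_C, ← h, ← mul_assoc, ← map_mul, Units.inv_mul, map_one, one_mul]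
  | h₃ N g hN0 hgp ih =>
    intro q hq h
    have hdvd : ∀ l, g ∣ q.coeff l := by
      intro l
      by_cases hl : l < p
      · have hall : ∀ i, g ∣ q.coeff l * γ i ^ l := fun i => by
          rw [← repr_aeval_Z (p := p) a μ d γ q hq i l hl, ← h, ← AS.smul_eq, map_smul,
            Finsupp.smul_apply, smul_eq_mul, mul_assoc]
          exact dvd_mul_right _ _
        obtain ⟨i, hi⟩ := hg g hgp
        exact (hgp.dvd_or_dvd (hall i)).resolve_right fun h' => hi (hgp.dvd_of_dvd_pow h')
      · rw [Polynomial.coeff_eq_zero_of_natDegree_lt (by omega)]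
        exact dvd_zero g
    obtain ⟨q1, hq1⟩ := (Polynomial.C_dvd_iff_dvd_coeff g q).mpr hdvd
    refine ih hN0 t q1 ?_ ?_
    · rwa [hq1, Polynomial.natDegree_C_mul hgp.ne_zero] at hq
    · refine mul_left_cancel₀ (show algebraMap R (AA (p := p) a μ d) g ≠ 0 from fun h0 => hgp.ne_zero ?_) ?_
      · exact Minor.algebraMap_injective (p := p) _ _ (h0.trans (map_zero _).symm)
      · rw [← mul_assoc, ← map_mul, h, hq1, map_mul, Polynomial.aeval_C]

omit [CharP R p] in
theorem coeff_zero_of_aeval [IsDomain R] [IsDomain (AA (p := p) a μ d)] [CharP (AA (p := p) a μ d) p]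
    (τ : AA (p := p) a μ d ≃ₐ[R] AA (p := p) a μ d) (ε : R) (hε : algebraMap R (AA (p := p) a μ d) ε ≠ 0)
    (hτ : τ (Z a μ d γ) = Z a μ d γ + algebraMap R _ ε) (q : Polynomial R) (hq : q.natDegree < p)
    (hinj : Function.Injective (algebraMap R (AA (p := p) a μ d)))
    (h : Polynomial.aeval (Z (p := p) a μ d γ) q = 0) : q = 0 := by
  classical
  have hroots : ∀ j : ℕ, Polynomial.aeval (Z (p := p) a μ d γ + (j : AA (p := p) a μ d) * algebraMap R _ ε) q = 0 := by
    intro j
    induction j with
    | zero => rw [Nat.cast_zero, zero_mul, add_zero, h]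
    | succ j ih =>
      have := congrArg τ ih
      rw [← Polynomial.aeval_algHom_apply τ] at this
      simp only [AlgEquiv.toAlgHom_eq_coe, AlgHom.coe_coe, map_add, map_mul, map_natCast, AlgEquiv.commutes, hτ, map_zero] at this
      rw [Nat.cast_succ]
      convert this using 3
      ring
  have h0 : q.map (algebraMap R (AA (p := p) a μ d)) = 0 := by
    refine Polynomial.eq_zero_of_natDegree_lt_card_of_eval_eq_zero' _
      ((Finset.range p).image fun j : ℕ => Z (p := p) a μ d γ + (j : AA (p := p) a μ d) * algebraMap R _ ε) ?_ ?_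
    · intro x hx
      obtain ⟨j, -, rfl⟩ := Finset.mem_image.mp hx
      rw [Polynomial.eval_map, ← Polynomial.aeval_def, hroots]
    · rw [Polynomial.natDegree_map_eq_of_injective hinj, Finset.card_image_of_injOn, Finset.card_range]
      · exact hq
      · intro x hx y hy hxy
        exact CharP.natCast_injOn_Iio (AA (p := p) a μ d) p (Finset.mem_range.1 hx) (Finset.mem_range.1 hy)
          (mul_right_cancel₀ hε (add_left_cancel hxy))
  exact Polynomial.map_injective _ hinj (h0.trans (Polynomial.map_zero _).symm)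

end Groth.Agent.WildQuotH28.Orth
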