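import Groth.Agent.Lib.H2Alg.PSHom
import Groth.Agent.Lib.Miracle4
import Groth.Agent.Lib.Depth.CM
import Groth.Agent.Lib.Compl.Complete
import Groth.Agent.Lib.ArtFun.PS
import Mathlib.RingTheory.LocalRing.Module
import Mathlib.RingTheory.AdicCompletion.Functoriality
import Mathlib.RingTheory.Length

/-!
# A complete regular local ring is free over power series in a system of parameters
-/

open IsLocalRing

universe u

namespace Groth.Agent.WildQuotH28

/-- The structure theorem, one universe. -/
theorem exists_basis_ps {k : Type u} [Field k] {A : Type u} [CommRing A] [IsRegularLocalRing A] [Algebra k A]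
    [IsAdicComplete (maximalIdeal A) A] {n : ℕ} (hn : ringKrullDim A = n)
    (hk : Function.Surjective (IsLocalRing.residue A ∘ algebraMap k A))
    (φ : MvPowerSeries (Fin n) k →ₐ[k] A)
    (hx : (Ideal.span (Set.range fun i => φ (MvPowerSeries.X i))).radical = maximalIdeal A) :
    ∃ (d : ℕ) (b : Fin d → A),
      (d : ℕ∞) = Module.length A (A ⧸ Ideal.span (Set.range fun i => φ (MvPowerSeries.X i))) ∧
      Function.Bijective (fun r : Fin d → MvPowerSeries (Fin n) k => ∑ i, φ (r i) * b i) := by
  classical
  haveI := H2Alg.PSHom.isRegularLocalRing k n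
  letI : Algebra (MvPowerSeries (Fin n) k) A := φ.toRingHom.toAlgebra
  set J : Ideal A := Ideal.span (Set.range fun i => φ (MvPowerSeries.X i)) with hJ
  have hmap : (maximalIdeal (MvPowerSeries (Fin n) k)).map (algebraMap (MvPowerSeries (Fin n) k) A) = J := by
    rw [H2Alg.PSHom.maximalIdeal_eq, H2Alg.PSHom.V, Ideal.map_span, ← Set.range_comp]
    rfl
  have hJm : J ≤ maximalIdeal A := Ideal.le_radical.trans hx.le
  haveI hloc : IsLocalHom (algebraMap (MvPowerSeries (Fin n) k) A) :=
    ((local_hom_TFAE (algebraMap (MvPowerSeries (Fin n) k) A)).out 0 2).2 (hmap.trans_le hJm)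
  have hres : Module.length (ResidueField (MvPowerSeries (Fin n) k)) (ResidueField A) = 1 := by
    refine Eq.trans (b := Module.length (ResidueField A) (ResidueField A)) (Module.length_eq_of_surjective ?_)
      (Module.length_eq_one_iff.2 inferInstance)
    intro z
    obtain ⟨c, hc⟩ := hk z
    refine ⟨residue _ (algebraMap k _ c), ?_⟩
    rw [← hc]
    show residue A (φ (algebraMap k _ c)) = residue A (algebraMap k A c)
    rw [AlgHom.commutes]
  have h1 := IsLocalRing.length_restrictScalars (MvPowerSeries (Fin n) k) A (A ⧸ J)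
  rw [hres, mul_one] at h1
  haveI hart : IsArtinianRing (A ⧸ J) := by
    obtain ⟨N, hN⟩ := J.exists_radical_pow_le_of_fg (IsNoetherian.noetherian _)
    rw [hx] at hN
    haveI : Ring.KrullDimLE 0 (A ⧸ J) := by
      rw [Ring.krullDimLE_zero_iff]
      intro P hP
      have h : maximalIdeal A ≤ P.comap (Ideal.Quotient.mk J) := by
        rw [← (hP.comap (Ideal.Quotient.mk J)).radical]
        refine le_trans (le_of_eq hx.symm) (Ideal.radical_mono ?_)
        exact (Ideal.mk_ker (I := J)).symm.le.trans (Ideal.ker_le_comap _)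
      have hmax := (maximalIdeal.isMaximal A).eq_of_le (hP.comap (Ideal.Quotient.mk J)).ne_top h
      rw [← Ideal.map_comap_of_surjective _ Ideal.Quotient.mk_surjective P, ← hmax]
      exact (maximalIdeal.isMaximal A).map_of_surjective_of_ker_le Ideal.Quotient.mk_surjective
        (by rw [Ideal.mk_ker]; exact hJm)
    exact isArtinianRing_iff_isNoetherianRing_krullDimLE_zero.2 ⟨inferInstance, inferInstance⟩
  have hfl : Module.length A (A ⧸ J) ≠ ⊤ := by
    rw [Module.length_eq_of_surjective (S := A) (R := A ⧸ J) Ideal.Quotient.mk_surjective, Module.length_ne_top_iff,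
      isFiniteLength_iff_isNoetherian_isArtinian]
    exact ⟨inferInstance, hart⟩
  -- finiteness
  haveI hQfin : Module.Finite (MvPowerSeries (Fin n) k) (A ⧸ J) := by
    rw [← h1, Module.length_ne_top_iff, isFiniteLength_iff_isNoetherian_isArtinian] at hfl
    haveI := hfl.1
    infer_instance
  obtain ⟨e, g, hg⟩ := Module.Finite.exists_fin' (MvPowerSeries (Fin n) k) (A ⧸ J)
  obtain ⟨g', hg'⟩ := Module.projective_lifting_property
    ((Ideal.Quotient.mkₐ (MvPowerSeries (Fin n) k) J).toLinearMap) g Ideal.Quotient.mk_surjective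
  haveI : IsAdicComplete (maximalIdeal k) k := by
    rw [(IsLocalRing.isField_iff_maximalIdeal_eq).1 (Field.toIsField k)]
    infer_instance
  haveI : IsAdicComplete (maximalIdeal (MvPowerSeries (Fin n) k)) (MvPowerSeries (Fin n) k) :=
    ArtFunLib.isAdicComplete_mvPowerSeries
  haveI : IsAdicComplete (maximalIdeal (MvPowerSeries (Fin n) k)) (Fin e → MvPowerSeries (Fin n) k) :=
    Compl.isAdicComplete_of_finite _ _
  haveI : IsHausdorff (maximalIdeal (MvPowerSeries (Fin n) k)) A := by
    rw [← IsHausdorff.map_algebraMap_iff (S := A), hmap]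
    exact IsHausdorff.of_le_jacobson J A (hJm.trans (IsLocalRing.jacobson_eq_maximalIdeal ⊥ bot_ne_top).ge)
  have hsub : (maximalIdeal (MvPowerSeries (Fin n) k)) • (⊤ : Submodule (MvPowerSeries (Fin n) k) A) =
      J.restrictScalars (MvPowerSeries (Fin n) k) := by
    rw [Ideal.smul_top_eq_map, hmap]
  have hg'surj : Function.Surjective g' := by
    refine surjective_of_mkQ_comp_surjective (I := maximalIdeal (MvPowerSeries (Fin n) k)) fun z => ?_
    obtain ⟨z, rfl⟩ := Submodule.mkQ_surjective _ z
    obtain ⟨y, hy⟩ := hg (Ideal.Quotient.mk J z)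
    refine ⟨y, (Submodule.Quotient.eq _).2 ?_⟩
    rw [hsub, Submodule.restrictScalars_mem, ← Ideal.Quotient.eq, ← hy]
    exact LinearMap.congr_fun hg' y
  haveI : Module.Finite (MvPowerSeries (Fin n) k) A := Module.Finite.of_surjective g' hg'surj
  haveI := DepthLib.isCohenMacaulayLocalRing_of_isRegularLocalRing (R := A)
  haveI : Module.Flat (MvPowerSeries (Fin n) k) A := by
    refine Miracle4.flat_of_ringKrullDim_eq ?_
    rw [hn, H2Alg.PSHom.ringKrullDim_eq, hmap]
    haveI : Nontrivial (A ⧸ J) := Ideal.Quotient.nontrivial_iff.2 fun h => (maximalIdeal.isMaximal A).ne_top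
      (top_le_iff.1 (h ▸ hJm))
    rw [ringKrullDimZero_iff_ringKrullDim_eq_zero.1 inferInstance, add_zero]
  haveI : Module.Free (MvPowerSeries (Fin n) k) A := Module.free_of_flat_of_isLocalRing
  let d := Module.finrank (MvPowerSeries (Fin n) k) A
  let b : Module.Basis (Fin d) (MvPowerSeries (Fin n) k) A := Module.finBasis _ A
  refine ⟨d, b, ?_, ?_⟩
  · rw [← h1]
    have e1 : (A ⧸ J) ≃ₗ[MvPowerSeries (Fin n) k]
        TensorProduct (MvPowerSeries (Fin n) k) (MvPowerSeries (Fin n) k ⧸ maximalIdeal (MvPowerSeries (Fin n) k)) A :=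
      (Submodule.Quotient.restrictScalarsEquiv _ _).symm ≪≫ₗ Submodule.quotEquivOfEq _ _ hsub.symm ≪≫ₗ
        (TensorProduct.quotTensorEquivQuotSMul A (maximalIdeal (MvPowerSeries (Fin n) k))).symm
    haveI : IsSimpleModule (MvPowerSeries (Fin n) k) (MvPowerSeries (Fin n) k ⧸ maximalIdeal (MvPowerSeries (Fin n) k)) :=
      isSimpleModule_iff_isCoatom.2 ((maximalIdeal.isMaximal _).out)
    rw [e1.length_eq, (TensorProduct.congr (LinearEquiv.refl _ _) b.repr ≪≫ₗ
      TensorProduct.finsuppScalarRight (MvPowerSeries (Fin n) k) (MvPowerSeries (Fin n) k) _ (Fin d)).length_eq,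
      Module.length_finsupp, ENat.card_eq_coe_fintype_card, Fintype.card_fin, Module.length_eq_one, mul_one]
  · have hfun : (fun r : Fin d → MvPowerSeries (Fin n) k => ∑ i, φ (r i) * b i) = b.equivFun.symm := by
      funext r
      rw [Module.Basis.equivFun_symm_apply]
      exact Finset.sum_congr rfl fun i _ => (Algebra.smul_def (r i) (b i)).symm
    rw [hfun]
    exact b.equivFun.symm.bijective

/-- The structure theorem, transported to any coefficient field. -/
theorem exists_basis_ps' {A : Type u} [CommRing A] [IsRegularLocalRing A] [IsAdicComplete (maximalIdeal A) A]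
    {n : ℕ} (hn : ringKrullDim A = n) {k : Type*} [Field k] [Algebra k A]
    (hk : Function.Surjective (IsLocalRing.residue A ∘ algebraMap k A))
    (φ : MvPowerSeries (Fin n) k →ₐ[k] A)
    (hx : (Ideal.span (Set.range fun i => φ (MvPowerSeries.X i))).radical = maximalIdeal A) :
    ∃ (d : ℕ) (b : Fin d → A),
      (d : ℕ∞) = Module.length A (A ⧸ Ideal.span (Set.range fun i => φ (MvPowerSeries.X i))) ∧
      Function.Bijective (fun r : Fin d → MvPowerSeries (Fin n) k => ∑ i, φ (r i) * b i) := by
  let ψ : k →+* ResidueField A := (IsLocalRing.residue A).comp (algebraMap k A)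
  let e : k ≃+* ResidueField A := RingEquiv.ofBijective ψ ⟨ψ.injective, hk⟩
  letI : Algebra (ResidueField A) A := ((algebraMap k A).comp e.symm.toRingHom).toAlgebra
  let E : MvPowerSeries (Fin n) (ResidueField A) →+* MvPowerSeries (Fin n) k := MvPowerSeries.map e.symm.toRingHom
  let φ' : MvPowerSeries (Fin n) (ResidueField A) →ₐ[ResidueField A] A :=
    { φ.toRingHom.comp E with
      commutes' := fun c => by
        show φ (E (MvPowerSeries.C c)) = algebraMap k A (e.symm c)
        rw [MvPowerSeries.map_C]
        exact φ.commutes _ }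
  have hX : ∀ i, φ' (MvPowerSeries.X i) = φ (MvPowerSeries.X i) := fun i => by
    show φ (E (MvPowerSeries.X i)) = _
    rw [MvPowerSeries.map_X]
  have hk' : Function.Surjective (IsLocalRing.residue A ∘ algebraMap (ResidueField A) A) := fun z => by
    obtain ⟨c, hc⟩ := hk z
    refine ⟨e c, ?_⟩
    show residue A (algebraMap k A (e.symm (e c))) = z
    rw [e.symm_apply_apply]
    exact hc
  have hf : (fun i => φ' (MvPowerSeries.X i)) = fun i => φ (MvPowerSeries.X i) := funext hX
  obtain ⟨d, b, hd, hb⟩ := exists_basis_ps hn hk' φ' (by rw [hf]; exact hx)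
  rw [hf] at hd
  refine ⟨d, b, hd, ?_⟩
  have hE : Function.Bijective (fun r : Fin d → MvPowerSeries (Fin n) k => fun i => MvPowerSeries.map e.toRingHom (r i)) := by
    refine Function.bijective_iff_has_inverse.2 ⟨fun r i => E (r i), fun r => funext fun i => ?_, fun r => funext fun i => ?_⟩
    · show MvPowerSeries.map e.symm.toRingHom (MvPowerSeries.map e.toRingHom (r i)) = r i
      ext m; simp
    · show MvPowerSeries.map e.toRingHom (MvPowerSeries.map e.symm.toRingHom (r i)) = r i
      ext m; simp
  convert hb.comp hE using 1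
  funext r
  refine Finset.sum_congr rfl fun i _ => ?_
  show φ (r i) * b i = φ (E (MvPowerSeries.map e.toRingHom (r i))) * b i
  congr 2
  ext m
  simp [E]

end Groth.Agent.WildQuotH28
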