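import Groth.Agent.Lib.WildQuotH28.NotFlat
import Groth.Agent.Lib.RegLoc.GlobalDim
import Mathlib.RingTheory.Flat.Localization
import Mathlib.RingTheory.Flat.Stability

/-!
# Invariants are regular where the inertia is trivial
-/

open IsLocalRing TensorProduct

universe u w

namespace Groth.Agent.WildQuotH28

variable {A : Type u} [CommRing A] {G : Type w} [Group G] [MulSemiringAction G A] [Finite G]

/-- An invariant outside `P` that splits `A` off a free module over the invariants. -/
theorem exists_retract (P : Ideal (FixedPoints.subring A G)) [P.IsPrime]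
    (hP : ∀ Q : Ideal A, Q.IsPrime → Q.comap (algebraMap (FixedPoints.subring A G) A) = P → Q.inertia G = ⊥) :
    ∃ t : FixedPoints.subring A G, t ∉ P ∧ ∃ (s : Finset A)
      (F : A →ₗ[FixedPoints.subring A G] (s → FixedPoints.subring A G))
      (R : (s → FixedPoints.subring A G) →ₗ[FixedPoints.subring A G] A), R.comp F = t • LinearMap.id := by
  classical
  cases nonempty_fintype G
  let J : Ideal A := Submodule.comap ((LinearMap.single A (fun _ : G => A) (1 : G))) (orbitSpan A G)
  haveI : Algebra.IsInvariant (FixedPoints.subring A G) A G := ⟨fun x h => ⟨⟨x, h⟩, rfl⟩⟩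
  haveI := Algebra.IsInvariant.isIntegral (FixedPoints.subring A G) A G
  obtain ⟨t, htJ, htP⟩ : ∃ t : FixedPoints.subring A G, (t : A) ∈ J ∧ t ∉ P := by
    by_contra hall
    push Not at hall
    obtain ⟨Q, hJQ, hQ, hQP⟩ := Ideal.exists_ideal_over_prime_of_isIntegral P J
      (fun x hx => hall x hx : J.comap (algebraMap (FixedPoints.subring A G) A) ≤ P)
    haveI := hQ
    obtain ⟨f, hf, hf1, hf0⟩ :=
      exists_orbit_separate Q (hP Q hQ hQP) (1 : G) (Finset.univ.erase 1) (Finset.notMem_erase _ _)
    refine hf1 (hJQ ?_)
    show Pi.single (1 : G) (f 1) ∈ orbitSpan A G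
    convert hf using 1
    funext h
    by_cases hh : h = 1
    · subst hh; rw [Pi.single_eq_same]
    · rw [Pi.single_eq_of_ne hh, hf0 h (Finset.mem_erase.2 ⟨hh, Finset.mem_univ _⟩)]
  obtain ⟨c, hc⟩ := (Finsupp.mem_span_range_iff_exists_finsupp).1
    (show Pi.single (1 : G) (t : A) ∈ orbitSpan A G from htJ)
  let Tr : A →ₗ[FixedPoints.subring A G] FixedPoints.subring A G :=
    { toFun := fun a => ⟨∑ g : G, g • a, fun σ => by
        rw [Finset.smul_sum]
        exact Fintype.sum_equiv (Equiv.mulLeft σ) _ _ fun g => (mul_smul σ g _).symm⟩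
      map_add' := fun a b => Subtype.ext (by simp [smul_add, Finset.sum_add_distrib])
      map_smul' := fun b a => Subtype.ext (by
        show ∑ g : G, g • ((b : A) * a) = (b : A) * ∑ g : G, g • a
        rw [Finset.mul_sum]
        exact Finset.sum_congr rfl fun g _ => by rw [smul_mul', b.2 g]) }
  refine ⟨t, htP, c.support, LinearMap.pi fun x => Tr.comp (LinearMap.mulRight _ (c x)),
    Fintype.linearCombination (FixedPoints.subring A G) (fun x : c.support => (x : A)), ?_⟩
  refine LinearMap.ext fun a => ?_
  rw [LinearMap.comp_apply, Fintype.linearCombination_apply, LinearMap.smul_apply, LinearMap.id_apply]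
  show ∑ x : c.support, (∑ g : G, g • (a * c x)) * (x : A) = (t : A) * a
  rw [Finset.sum_coe_sort c.support (fun x => (∑ g : G, g • (a * c x)) * x)]
  simp only [Finset.sum_mul]
  rw [Finset.sum_comm, Finset.sum_eq_single (1 : G)]
  · have := congrFun hc 1
    rw [Pi.single_eq_same, Finsupp.sum, Finset.sum_apply] at this
    simp only [Pi.smul_apply, one_smul, smul_eq_mul] at this
    rw [← this, Finset.sum_mul]
    exact Finset.sum_congr rfl fun x _ => by rw [one_smul]; ring
  · intro g _ hg
    have := congrFun hc g⁻¹
    rw [Pi.single_eq_of_ne (by simpa using hg), Finsupp.sum, Finset.sum_apply] at this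
    simp only [Pi.smul_apply, smul_eq_mul] at this
    have h2 := congrArg (g • ·) this
    simp only [Finset.smul_sum, smul_mul', smul_inv_smul, smul_zero] at h2
    calc ∑ x ∈ c.support, g • (a * c x) * x = g • a * ∑ x ∈ c.support, g • c x * x := by
          rw [Finset.mul_sum]
          exact Finset.sum_congr rfl fun x _ => by rw [smul_mul', mul_assoc]
      _ = 0 := by rw [h2, mul_zero]
  · simp

/-- `A_Q` is flat over the invariants when the fibre has trivial inertia. -/
theorem flat_localization (P : Ideal (FixedPoints.subring A G)) [P.IsPrime]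
    (hP : ∀ Q : Ideal A, Q.IsPrime → Q.comap (algebraMap (FixedPoints.subring A G) A) = P → Q.inertia G = ⊥)
    (Q : Ideal A) [Q.IsPrime] (hQ : Q.comap (algebraMap (FixedPoints.subring A G) A) = P) :
    Module.Flat (FixedPoints.subring A G) (Localization.AtPrime Q) := by
  obtain ⟨t, ht, s, F, R, hRF⟩ := exists_retract P hP
  let L := Localization.AtPrime P
  let S : Submonoid A := Algebra.algebraMapSubmonoid A P.primeCompl
  obtain ⟨u, hu⟩ := (IsLocalization.map_units L (⟨t, ht⟩ : P.primeCompl)).exists_left_inv
  haveI : Module.Flat (FixedPoints.subring A G) (L ⊗[FixedPoints.subring A G] A) := by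
    refine Module.Flat.of_retract (LinearMap.lTensor L F)
      ((LinearMap.rTensor A (LinearMap.mulLeft (FixedPoints.subring A G) u)).comp (LinearMap.lTensor L R)) ?_
    refine TensorProduct.ext' fun l a => ?_
    simp only [LinearMap.comp_apply, LinearMap.lTensor_tmul, LinearMap.rTensor_tmul, LinearMap.id_apply]
    rw [show R (F a) = t • a from LinearMap.congr_fun hRF a, LinearMap.mulLeft_apply, tmul_smul, smul_tmul',
      Algebra.smul_def, ← mul_assoc, mul_comm _ u, hu, one_mul]
  haveI : IsLocalizedModule P.primeCompl (TensorProduct.mk (FixedPoints.subring A G) L A 1) :=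
    (isLocalizedModule_iff_isBaseChange P.primeCompl L _).2 (TensorProduct.isBaseChange _ A L)
  haveI : Module.Flat (FixedPoints.subring A G) (Localization S) :=
    Module.Flat.of_linearEquiv (IsLocalizedModule.linearEquiv P.primeCompl
      (TensorProduct.mk (FixedPoints.subring A G) L A 1)
      (IsScalarTower.toAlgHom (FixedPoints.subring A G) A (Localization S)).toLinearMap).symm
  have hS : ∀ y : S, IsUnit (algebraMap A (Localization.AtPrime Q) y) := by
    rintro ⟨_, b, hb, rfl⟩
    refine IsLocalization.map_units _ (⟨_, fun h => hb ?_⟩ : Q.primeCompl)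
    rw [← hQ]
    exact h
  letI : Algebra (Localization S) (Localization.AtPrime Q) := (IsLocalization.lift hS).toAlgebra
  haveI : IsScalarTower A (Localization S) (Localization.AtPrime Q) :=
    IsScalarTower.of_algebraMap_eq fun a => (IsLocalization.lift_eq hS a).symm
  haveI : IsScalarTower (FixedPoints.subring A G) (Localization S) (Localization.AtPrime Q) :=
    IsScalarTower.of_algebraMap_eq fun b => by
      rw [IsScalarTower.algebraMap_apply (FixedPoints.subring A G) A (Localization S),
        ← IsScalarTower.algebraMap_apply A (Localization S), ← IsScalarTower.algebraMap_apply]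
  haveI : Module.Flat (Localization S) (Localization.AtPrime Q) :=
    (Module.flat_iff_of_isLocalization (R := A) (Localization S) S (Localization.AtPrime Q)).2
      (IsLocalization.flat _ Q.primeCompl)
  exact Module.Flat.trans (FixedPoints.subring A G) (Localization S) _

/-- Hence the invariants are regular there. -/
theorem isRegularLocalRing_of_inertia [IsRegularLocalRing A] [IsNoetherianRing (FixedPoints.subring A G)]
    (P : Ideal (FixedPoints.subring A G)) [P.IsPrime]
    (hP : ∀ Q : Ideal A, Q.IsPrime → Q.comap (algebraMap (FixedPoints.subring A G) A) = P → Q.inertia G = ⊥) :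
    IsRegularLocalRing (Localization.AtPrime P) := by
  haveI : Algebra.IsInvariant (FixedPoints.subring A G) A G := ⟨fun x h => ⟨⟨x, h⟩, rfl⟩⟩
  haveI := Algebra.IsInvariant.isIntegral (FixedPoints.subring A G) A G
  obtain ⟨Q, -, hQ, hQP⟩ := Ideal.exists_ideal_over_prime_of_isIntegral P (⊥ : Ideal A)
    (fun x hx => by
      rw [Ideal.mem_comap, Ideal.mem_bot] at hx
      rw [Subtype.coe_injective (hx.trans (ZeroMemClass.coe_zero _).symm)]
      exact P.zero_mem)
  haveI := hQ
  haveI := RegLoc.isRegularLocalRing_localization A Q
  haveI := flat_localization P hP Q hQP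
  letI : Algebra (Localization.AtPrime P) (Localization.AtPrime Q) :=
    (Localization.localRingHom P Q (algebraMap (FixedPoints.subring A G) A) hQP.symm).toAlgebra
  haveI : IsScalarTower (FixedPoints.subring A G) (Localization.AtPrime P) (Localization.AtPrime Q) :=
    IsScalarTower.of_algebraMap_eq fun b => by
      rw [RingHom.algebraMap_toAlgebra, Localization.localRingHom_to_map]
      exact (IsScalarTower.algebraMap_apply _ A _ b)
  haveI : IsLocalHom (algebraMap (Localization.AtPrime P) (Localization.AtPrime Q)) := by
    rw [RingHom.algebraMap_toAlgebra]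
    infer_instance
  haveI : IsNoetherianRing (Localization.AtPrime P) := IsLocalization.isNoetherianRing P.primeCompl _ inferInstance
  haveI : Module.Flat (Localization.AtPrime P) (Localization.AtPrime Q) :=
    (Module.flat_iff_of_isLocalization (R := FixedPoints.subring A G) (Localization.AtPrime P) P.primeCompl _).2 inferInstance
  exact RegLoc.isRegularLocalRing_of_flat _ (Localization.AtPrime Q)

end Groth.Agent.WildQuotH28
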