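import Groth.Agent.Lib.WildQuotH28.NotFlat
import Mathlib.RingTheory.MvPowerSeries.Expand
import Mathlib.GroupTheory.SpecificGroups.Cyclic
import Mathlib.Algebra.CharP.Lemmas

/-!
# Invariants are not purely inseparable over a norm subring
-/

open IsLocalRing

universe u v w

namespace Groth.Agent.WildQuotH28

open MvPowerSeries in
/-- Frobenius has no fixed vectors in local cohomology along two variables, in Čech form. -/
theorem mem_span_of_frobenius {k : Type v} [Field k] (p : ℕ) [Fact p.Prime] [CharP k p] {σ : Type*} [Finite σ]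
    (i j : σ) (hij : i ≠ j) {M : ℕ} (hM : 0 < M) (r g h : MvPowerSeries σ k)
    (he : r ^ p - r * (X i ^ M * X j ^ M) ^ (p - 1) = (X j ^ M) ^ p * g - (X i ^ M) ^ p * h) :
    ∀ m : σ →₀ ℕ, m i < M → m j < M → coeff m r = 0 := by
  classical
  have hp : 1 < p := (Fact.out : p.Prime).one_lt
  let d : σ →₀ ℕ := Finsupp.single i (M * (p - 1)) + Finsupp.single j (M * (p - 1))
  have hd : (X i ^ M * X j ^ M : MvPowerSeries σ k) ^ (p - 1) = monomial d 1 := by
    rw [mul_pow, ← pow_mul, ← pow_mul, X_pow_eq, X_pow_eq, monomial_mul_monomial, one_mul]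
  have hfrob : ∀ m : σ →₀ ℕ, coeff (p • m) (r ^ p) = coeff m r ^ p := fun m => by
    rw [← map_frobenius_expand (p := p) (by omega : p ≠ 0), coeff_map, coeff_expand_smul, frobenius_def]
  suffices H : ∀ a, ∀ m : σ →₀ ℕ, m i = a → m i < M → m j < M → coeff m r = 0 from fun m => H _ m rfl
  intro a
  induction a using Nat.strong_induction_on with
  | _ a ih =>
    intro m hma hmi hmj
    have e := congrArg (coeff (p • m)) he
    have hlt : ∀ s : σ, m s < M → (p • m) s < M * p := fun s hs => by
      rw [Finsupp.smul_apply, smul_eq_mul, mul_comm]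
      exact Nat.mul_lt_mul_of_pos_right hs (by omega)
    rw [map_sub, map_sub, hfrob, hd, ← pow_mul, ← pow_mul,
      X_pow_dvd_iff.1 (dvd_mul_right (X j ^ (M * p)) g) _ (hlt j hmj),
      X_pow_dvd_iff.1 (dvd_mul_right (X i ^ (M * p)) h) _ (hlt i hmi), sub_zero, sub_eq_zero,
      coeff_mul_monomial] at e
    refine eq_zero_of_pow_eq_zero (n := p) (e.trans ?_)
    split_ifs with hle
    · rw [mul_one]
      have hi := hle i
      have hj := hle j
      simp only [d, Finsupp.add_apply, Finsupp.single_apply, hij, Ne.symm hij, if_true, if_false, add_zero, zero_add,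
        Finsupp.smul_apply, smul_eq_mul] at hi hj
      obtain ⟨c, rfl⟩ : ∃ c, p = c + 1 := ⟨p - 1, by omega⟩
      have hi2 : (((c + 1) • m : σ →₀ ℕ) - d) i < m i := by
        simp only [d, Finsupp.tsub_apply, Finsupp.add_apply, Finsupp.single_apply, hij, Ne.symm hij, if_true, if_false,
          add_zero, Finsupp.smul_apply, smul_eq_mul, Nat.add_sub_cancel]
        have : c * m i < c * M := Nat.mul_lt_mul_of_pos_left hmi (by omega)
        rw [Nat.add_sub_cancel] at hi
        rw [Nat.add_mul, one_mul] at hi ⊢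
        rw [mul_comm M c] at hi ⊢
        omega
      have hj2 : (((c + 1) • m : σ →₀ ℕ) - d) j < M := by
        simp only [d, Finsupp.tsub_apply, Finsupp.add_apply, Finsupp.single_apply, hij, Ne.symm hij, if_true, if_false,
          zero_add, Finsupp.smul_apply, smul_eq_mul, Nat.add_sub_cancel]
        have : c * m j ≤ c * M := Nat.mul_le_mul_left c (le_of_lt hmj)
        rw [Nat.add_sub_cancel] at hj
        rw [Nat.add_mul, one_mul] at hj ⊢
        rw [mul_comm M c] at hj ⊢
        omega
      exact ih _ (hma ▸ hi2) _ rfl (lt_trans hi2 hmi) hj2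
    · rfl

open MvPowerSeries in
/-- Splitting a series along two variable powers. -/
theorem exists_eq_add_of_coeff {k : Type v} [CommRing k] {σ : Type*} (i j : σ) {M : ℕ} (r : MvPowerSeries σ k)
    (h : ∀ m : σ →₀ ℕ, m i < M → m j < M → coeff m r = 0) :
    ∃ s t : MvPowerSeries σ k, r = X i ^ M * s + X j ^ M * t := by
  classical
  let r₀ : MvPowerSeries σ k := fun m => if m i < M then coeff m r else 0
  have h0 : ∀ m, coeff m r₀ = if m i < M then coeff m r else 0 := fun m => coeff_apply r₀ m
  obtain ⟨t, ht⟩ : X j ^ M ∣ r₀ := X_pow_dvd_iff.2 fun m hm => by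
    rw [h0]
    split_ifs with hi
    · exact h m hi hm
    · rfl
  obtain ⟨s, hs⟩ : X i ^ M ∣ r - r₀ := X_pow_dvd_iff.2 fun m hm => by
    rw [map_sub, h0, if_pos hm, sub_self]
  exact ⟨s, t, by rw [← hs, ← ht, sub_add_cancel]⟩

open MvPowerSeries in
/-- Powers of distinct variables are coprime. -/
theorem dvd_of_dvd_pow_mul {k : Type v} [CommRing k] {σ : Type*} {i j : σ} (hij : i ≠ j) {M N : ℕ}
    {z : MvPowerSeries σ k} (h : X i ^ M ∣ X j ^ N * z) : X i ^ M ∣ z := by
  classical
  refine X_pow_dvd_iff.2 fun m hm => ?_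
  have := X_pow_dvd_iff.1 h (Finsupp.single j N + m) (by simpa [Finsupp.single_apply, Ne.symm hij] using hm)
  rw [X_pow_eq, coeff_monomial_mul, if_pos le_self_add, one_mul, add_tsub_cancel_left] at this
  exact this

variable {A : Type u} [CommRing A] (p : ℕ) [Fact p.Prime] [CharP A p]
  {G : Type w} [Group G] [Fintype G] [MulSemiringAction G A]

/-- An invariant trace is a difference. -/
theorem exists_smul_sub_eq_trace (hcard : Fintype.card G = p) (σ : G) (hσ : σ ≠ 1) (d : A) :
    ∃ α : A, σ • α - α = ∑ g : G, g • d := by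
  have hc : Nat.card G = p := by rw [Nat.card_eq_fintype_card, hcard]
  have hgen : ∀ x, x ∈ Subgroup.zpowers σ := fun x => mem_zpowers_of_prime_card hc hσ
  let e := zmodMulEquivOfGenerator hgen hc
  let χ : G → A := fun g => ZMod.castHom (dvd_refl p) A (Multiplicative.toAdd (e.symm g))
  have hχ : ∀ g, χ (σ * g) = χ g + 1 := fun g => by
    show ZMod.castHom _ A _ = ZMod.castHom _ A _ + 1
    rw [map_mul, zmodMulEquivOfGenerator_symm_apply_generator, toAdd_mul, toAdd_ofAdd, map_add, map_one, add_comm]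
  refine ⟨-∑ g : G, χ g * g • d, ?_⟩
  have hfix : ∀ g, σ • χ g = χ g := fun g => by
    show σ • (ZMod.castHom (dvd_refl p) A (Multiplicative.toAdd (e.symm g))) = _
    exact RingHom.congr_fun (Subsingleton.elim
      ((MulSemiringAction.toRingHom G A σ).comp (ZMod.castHom (dvd_refl p) A)) (ZMod.castHom (dvd_refl p) A)) _
  rw [smul_neg, Finset.smul_sum, sub_neg_eq_add]
  have h1 : ∑ g : G, σ • (χ g * g • d) = ∑ g : G, (χ g - 1) * g • d := by
    refine Fintype.sum_equiv (Equiv.mulLeft σ) _ _ fun g => ?_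
    rw [smul_mul', hfix, smul_smul]
    show _ = (χ (σ * g) - 1) * _
    rw [hχ, add_sub_cancel_right]
    rfl
  rw [h1, ← Finset.sum_neg_distrib, ← Finset.sum_add_distrib]
  exact Finset.sum_congr rfl fun g _ => by ring

end Groth.Agent.WildQuotH28
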