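import Groth.Agent.Lib.WildQuotH28.ASBasis
import Mathlib.LinearAlgebra.Matrix.Block
import Mathlib.LinearAlgebra.Matrix.Determinant.Basic
import Mathlib.LinearAlgebra.Dual.Basis
import Mathlib.LinearAlgebra.Determinant
import Mathlib.Algebra.SkewMonoidAlgebra.Basic

/-!
# The coefficient of the top monomial is a perfect invariant form
-/

open MvPolynomial

universe u

namespace Groth.Agent.WildQuotH28.Sym

open AS (Alg mono u)

variable {R : Type u} [CommRing R] [Nontrivial R] {n p : ℕ} (c d : Fin n → R) (hp : 2 ≤ p)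

variable (p) in
/-- The span of the monomials of non-maximal degree in the `i`-th variable. -/
noncomputable def W (i : Fin n) : Submodule R (Alg p c d) :=
  Submodule.span R (mono c d '' {e | (e i : ℕ) + 1 < p})

omit [Nontrivial R] in
lemma mul_u_mem {i j : Fin n} (hij : j ≠ i) {y : Alg p c d} (hy : y ∈ W p c d i) (hp : 2 ≤ p) :
    y * u c d j ∈ W p c d i := by
  induction hy using Submodule.span_induction with
  | mem y hy =>
    obtain ⟨e, he', rfl⟩ := hy
    have he := AS.mono_update c d e j (e j)
    rw [Function.update_eq_self] at he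
    have hmem : ∀ m, mono c d (Function.update e j m) ∈ W p c d i := fun m =>
      Submodule.subset_span ⟨_, by simpa [Function.update_of_ne hij.symm] using he', rfl⟩
    by_cases h : (e j : ℕ) + 1 < p
    · convert hmem ⟨e j + 1, h⟩ using 1
      rw [AS.mono_update, he, pow_succ]
      ring
    · have hej : (e j : ℕ) + 1 = p := by omega
      have e1 := AS.mono_update c d e j ⟨1, by omega⟩
      have e0 := AS.mono_update c d e j ⟨0, by omega⟩
      simp only [pow_zero, one_mul, pow_one] at e0 e1
      have : mono c d e * u c d j = c j • mono c d (Function.update e j ⟨1, by omega⟩) +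
          d j • mono c d (Function.update e j ⟨0, by omega⟩) := by
        rw [he, mul_right_comm, ← pow_succ, hej, AS.u_pow, AS.smul_eq, AS.smul_eq, e0, e1]
        ring
      rw [this]
      exact add_mem (Submodule.smul_mem _ _ (hmem _)) (Submodule.smul_mem _ _ (hmem _))
  | zero => rw [zero_mul]; exact zero_mem _
  | add a b _ _ ha hb => rw [add_mul]; exact add_mem ha hb
  | smul r a _ ha => rw [smul_mul_assoc]; exact Submodule.smul_mem _ r ha

omit [Nontrivial R] in
lemma mul_adjoin_mem {i : Fin n} (hp : 2 ≤ p) {z : Alg p c d}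
    (hz : z ∈ Algebra.adjoin R (u c d '' {j | j ≠ i})) :
    ∀ {y : Alg p c d}, y ∈ W p c d i → y * z ∈ W p c d i := by
  induction hz using Algebra.adjoin_induction with
  | mem z hz =>
    obtain ⟨j, hj, rfl⟩ := hz
    exact fun hy => mul_u_mem c d hj hy hp
  | algebraMap r =>
    intro y hy
    rw [mul_comm, ← Algebra.smul_def]
    exact Submodule.smul_mem _ _ hy
  | add a b _ _ ha hb => intro y hy; rw [mul_add]; exact add_mem (ha hy) (hb hy)
  | mul a b _ _ ha hb => intro y hy; rw [← mul_assoc]; exact hb (ha hy)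

omit [Nontrivial R] in
include hp in
lemma pow_mem (i : Fin n) {l : ℕ} (hl : l + 1 < p) : (u c d i : Alg p c d) ^ l ∈ W p c d i := by
  refine Submodule.subset_span ⟨Function.update (fun _ => ⟨0, by omega⟩) i ⟨l, by omega⟩, by simpa using hl, ?_⟩
  rw [AS.mono_update]
  simp

omit [Nontrivial R] in
include hp in
lemma shift_pow_mem (i : Fin n) (r : R) {l : ℕ} (hl : l + 1 < p) :
    ((u c d i : Alg p c d) + algebraMap R _ r) ^ l ∈ W p c d i := by
  rw [add_pow]
  refine sum_mem fun m hm => ?_
  rw [mul_assoc, mul_comm, ← map_pow, ← map_natCast (algebraMap R (Alg p c d)), ← map_mul, ← Algebra.smul_def]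
  exact Submodule.smul_mem _ _ (pow_mem c d hp i (by have := Finset.mem_range.mp hm; omega))

omit [Nontrivial R] in
include hp in
lemma shift_top_mem (i : Fin n) (r : R) :
    ((u c d i : Alg p c d) + algebraMap R _ r) ^ (p - 1) - u c d i ^ (p - 1) ∈ W p c d i := by
  rw [add_pow, Finset.sum_range_succ, Nat.sub_self, pow_zero, Nat.choose_self, Nat.cast_one, mul_one, mul_one,
    add_sub_cancel_right]
  refine sum_mem fun m hm => ?_
  rw [mul_assoc, mul_comm, ← map_pow, ← map_natCast (algebraMap R (Alg p c d)), ← map_mul, ← Algebra.smul_def]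
  exact Submodule.smul_mem _ _ (pow_mem c d hp i (by have := Finset.mem_range.mp hm; omega))

/-- The top exponent. -/
def top : Fin n → Fin p := fun _ => ⟨p - 1, by omega⟩

/-- The top coefficient. -/
noncomputable def ψ : Alg p c d →ₗ[R] R := (AS.basis c d hp).coord (top hp)

lemma ψ_mem {i : Fin n} {y : Alg p c d} (hy : y ∈ W p c d i) : ψ c d hp y = 0 := by
  induction hy using Submodule.span_induction with
  | mem y hy =>
    obtain ⟨e, he, rfl⟩ := hy
    rw [ψ, ← AS.basis_apply c d hp, Module.Basis.coord_apply, Module.Basis.repr_self, Finsupp.single_eq_of_ne]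
    intro h
    have := congrArg Fin.val (congrFun h i)
    simp only [top, Set.mem_setOf_eq] at this he
    omega
  | zero => rw [map_zero]
  | add a b _ _ ha hb => rw [map_add, ha, hb, add_zero]
  | smul r a _ ha => rw [map_smul, ha, smul_zero]

lemma ψ_prod (f : Fin n → Alg p c d) (hf : ∀ j, f j ∈ Algebra.adjoin R {u c d j}) (i : Fin n)
    (hi : f i ∈ W p c d i) : ψ c d hp (∏ j, f j) = 0 := by
  rw [← Finset.mul_prod_erase _ _ (Finset.mem_univ i)]
  refine ψ_mem c d hp (mul_adjoin_mem c d hp (Subalgebra.prod_mem _ fun j hj => ?_) hi)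
  exact Algebra.adjoin_mono (t := u c d '' {k | k ≠ i}) (Set.singleton_subset_iff.mpr ⟨j, Finset.ne_of_mem_erase hj, rfl⟩) (hf j)

lemma ψ_top : ψ c d hp (∏ j, u c d j ^ (p - 1)) = 1 := by
  change ψ c d hp (mono c d (top hp)) = 1
  rw [ψ, ← AS.basis_apply c d hp, Module.Basis.coord_apply, Module.Basis.repr_self, Finsupp.single_eq_same]

omit [Nontrivial R] in
lemma shift_mem_adjoin (j : Fin n) (r : R) (l : ℕ) :
    ((u c d j : Alg p c d) + algebraMap R _ r) ^ l ∈ Algebra.adjoin R {u c d j} :=
  Subalgebra.pow_mem _ (Subalgebra.add_mem _ (Algebra.self_mem_adjoin_singleton R (u c d j : Alg p c d)) (Subalgebra.algebraMap_mem _ r)) l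

/-- Products differing in one factor. -/
lemma prod_sub_prod {ι S : Type*} [Fintype ι] [DecidableEq ι] [CommRing S] (g f : ι → S) (i : ι)
    (h : ∀ j, j ≠ i → g j = f j) : ∏ j, g j - ∏ j, f j = ∏ j, Function.update f i (g i - f i) j := by
  rw [← Finset.mul_prod_erase _ g (Finset.mem_univ i), ← Finset.mul_prod_erase _ f (Finset.mem_univ i),
    ← Finset.mul_prod_erase _ (Function.update f i _) (Finset.mem_univ i), Function.update_self,
    Finset.prod_congr rfl fun j hj => h j (Finset.ne_of_mem_erase hj), sub_mul,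
    Finset.prod_congr rfl fun j hj => Function.update_of_ne (Finset.ne_of_mem_erase hj) (g i - f i) f]

/-- The top coefficient is invariant under translations. -/
theorem ψ_shift (τ : Alg p c d →ₐ[R] Alg p c d) (r : Fin n → R)
    (hτ : ∀ j, τ (u c d j) = u c d j + algebraMap R _ (r j)) (x : Alg p c d) :
    ψ c d hp (τ x) = ψ c d hp x := by
  classical
  suffices h : (ψ c d hp).comp τ.toLinearMap = ψ c d hp from LinearMap.congr_fun h x
  refine (AS.basis c d hp).ext fun e => ?_
  rw [LinearMap.comp_apply, AS.basis_apply, mono]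
  change ψ c d hp (τ _) = _
  simp only [map_prod, map_pow, hτ]
  by_cases he : ∃ i, (e i : ℕ) + 1 < p
  · obtain ⟨i, hi⟩ := he
    rw [ψ_prod c d hp (fun j => (u c d j + algebraMap R _ (r j)) ^ (e j : ℕ)) (fun j => shift_mem_adjoin c d j (r j) (e j)) i (shift_pow_mem c d hp i (r i) hi),
      ψ_prod c d hp (fun j => u c d j ^ (e j : ℕ)) (fun j => Subalgebra.pow_mem _ (Algebra.subset_adjoin (Set.mem_singleton _)) _) i
        (pow_mem c d hp i hi)]
  · push Not at he
    have hE : ∀ i, (e i : ℕ) = p - 1 := fun i => by have := he i; have := (e i).isLt; omega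
    simp only [hE]
    have key : ∀ S : Finset (Fin n), ψ c d hp (∏ j, if j ∈ S then (u c d j + algebraMap R _ (r j)) ^ (p - 1)
        else u c d j ^ (p - 1)) = ψ c d hp (∏ j, u c d j ^ (p - 1)) := by
      intro S
      induction S using Finset.induction_on with
      | empty => simp
      | @insert i S hi ih =>
        refine Eq.trans ?_ ih
        rw [← sub_eq_zero, ← map_sub]
        let f : Fin n → Alg p c d := fun j => if j ∈ S then (u c d j + algebraMap R _ (r j)) ^ (p - 1)
          else u c d j ^ (p - 1)
        have h1 : (∏ j, if j ∈ insert i S then (u c d j + algebraMap R _ (r j)) ^ (p - 1) else u c d j ^ (p - 1)) -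
            ∏ j, f j = ∏ j, Function.update f i ((u c d i + algebraMap R _ (r i)) ^ (p - 1) - u c d i ^ (p - 1)) j := by
          rw [prod_sub_prod _ f i fun j hj => by simp only [f, Finset.mem_insert, hj, false_or]]
          simp only [f, if_pos (Finset.mem_insert_self i S), if_neg hi]
        change ψ c d hp (_ - ∏ j, f j) = 0
        rw [h1]
        refine ψ_prod c d hp _ (fun j => ?_) i (by rw [Function.update_self]; exact shift_top_mem c d hp i _)
        have hu : ∀ l, (u c d j : Alg p c d) ^ l ∈ Algebra.adjoin R {u c d j} := fun l =>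
          Subalgebra.pow_mem _ (Algebra.subset_adjoin (Set.mem_singleton _)) _
        by_cases hji : j = i
        · subst hji
          rw [Function.update_self]
          exact sub_mem (shift_mem_adjoin c d j _ _) (hu _)
        · rw [Function.update_of_ne hji]
          simp only [f]
          split_ifs
          · exact shift_mem_adjoin c d j _ _
          · exact hu _
    simpa using key Finset.univ

/-- The pairing given by the top coefficient. -/
noncomputable def pairing : Alg p c d →ₗ[R] Module.Dual R (Alg p c d) :=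
  (((LinearMap.mul R (Alg p c d)).compr₂ (ψ c d hp))).flip

lemma pairing_apply (x y : Alg p c d) : pairing c d hp y x = ψ c d hp (x * y) := rfl

/-- The pairing is perfect. -/
theorem pairing_bijective : Function.Bijective (pairing c d hp) := by
  classical
  let b := AS.basis c d hp
  let rv : (Fin n → Fin p) ≃ (Fin n → Fin p) := Equiv.piCongrRight fun _ => Fin.revPerm
  let b' := b.reindex rv.symm
  let N : Matrix (Fin n → Fin p) (Fin n → Fin p) R :=
    Matrix.of fun e' e => ψ c d hp (mono c d e * mono c d fun i => Fin.rev (e' i))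
  have hzero : ∀ e' e : Fin n → Fin p, (∃ i, (e i : ℕ) < (e' i : ℕ)) → N e' e = 0 := by
    rintro e' e ⟨i, hi⟩
    simp only [N, Matrix.of_apply, mono, ← Finset.prod_mul_distrib, ← pow_add]
    refine ψ_prod c d hp _ (fun j => Subalgebra.pow_mem _ (Algebra.subset_adjoin (Set.mem_singleton _)) _) i (pow_mem c d hp i ?_)
    have h1 := (e' i).isLt
    rw [Fin.val_rev]
    omega
  have hone : ∀ e, N e e = 1 := by
    intro e
    simp only [N, Matrix.of_apply, mono, ← Finset.prod_mul_distrib, ← pow_add]
    rw [← ψ_top c d hp]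
    refine congrArg _ (Finset.prod_congr rfl fun i _ => ?_)
    have h1 := (e i).isLt
    rw [Fin.val_rev]
    congr 1
    omega
  have hdet : N.det = 1 := by
    let w : (Fin n → Fin p) → ℕ := fun e => ∑ i, (e i : ℕ)
    have hlt : ∀ e' e, e' ≠ e → w e ≤ w e' → ∃ i, (e i : ℕ) < (e' i : ℕ) := by
      intro e' e hne hw
      by_contra h
      push Not at h
      exact hne (funext fun i => Fin.ext
        ((Finset.sum_eq_sum_iff_of_le fun i _ => h i).mp (le_antisymm (Finset.sum_le_sum fun i _ => h i) hw) i
          (Finset.mem_univ i)))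
    have htri : N.BlockTriangular w := fun e' e h =>
      hzero e' e (hlt e' e (fun he => by rw [he] at h; exact lt_irrefl _ h) h.le)
    rw [htri.det]
    refine Finset.prod_eq_one fun k _ => ?_
    suffices N.toSquareBlock w k = 1 by rw [this, Matrix.det_one]
    ext ⟨e', he'⟩ ⟨e, he⟩
    by_cases h : e' = e
    · subst h
      rw [Matrix.one_apply_eq]
      exact hone e'
    · rw [Matrix.one_apply_ne (fun h' => h (congrArg Subtype.val h'))]
      exact hzero e' e (hlt e' e h (by omega))
  have hM : LinearMap.toMatrix b' b.dualBasis (pairing c d hp) = N.transpose := by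
    ext e e'
    rw [LinearMap.toMatrix_apply, Module.Basis.dualBasis_repr, pairing_apply]
    simp only [b', b, Module.Basis.reindex_apply, AS.basis_apply, Matrix.transpose_apply, N, Matrix.of_apply]
    rfl
  exact (LinearEquiv.ofIsUnitDet (f := pairing c d hp) (v := b') (v' := b.dualBasis)
    (by rw [hM, Matrix.det_transpose, hdet]; exact isUnit_one)).bijective

/-- A skew group ring over an invariant perfect form is symmetric. -/
theorem skew_symmetric {S A : Type*} [CommRing S] [CommRing A] [Algebra S A] {G : Type*} [Group G] [Finite G]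
    [MulSemiringAction G A] [SMulCommClass G S A] (ω : A →ₗ[S] S) (hω : ∀ (h : G) (x : A), ω (h • x) = ω x)
    (hinj : ∀ y y' : A, (∀ x, ω (x * y) = ω (x * y')) → y = y')
    (hsurj : ∀ θ : A →ₗ[S] S, ∃ y : A, ∀ x, θ x = ω (x * y)) :
    ∃ φ : SkewMonoidAlgebra A G →ₗ[S] S,
      (∀ x y : SkewMonoidAlgebra A G, φ (x * y) = φ (y * x)) ∧
      Function.Injective (fun y : SkewMonoidAlgebra A G => fun x : SkewMonoidAlgebra A G => φ (x * y)) ∧
      ∀ θ : SkewMonoidAlgebra A G →ₗ[S] S, ∃ y : SkewMonoidAlgebra A G, ∀ x, θ x = φ (x * y) := by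
  classical
  haveI := Fintype.ofFinite G
  let φ : SkewMonoidAlgebra A G →ₗ[S] S :=
    ω.comp ((Finsupp.lapply (1 : G)).comp (SkewMonoidAlgebra.coeffLinearEquiv (S := S)).toLinearMap)
  have hφ : ∀ z : SkewMonoidAlgebra A G, φ z = ω (z.coeff 1) := fun z => rfl
  have hmul : ∀ x y : SkewMonoidAlgebra A G, φ (x * y) = ∑ h, ω (x.coeff h * h • y.coeff h⁻¹) := by
    intro x y
    rw [hφ, SkewMonoidAlgebra.coeff_mul_left, SkewMonoidAlgebra.sum_def, Finsupp.sum_fintype _ _ (by simp), map_sum]
    simp only [mul_one]
  have hsingle : ∀ (h : G) (x : A) (y : SkewMonoidAlgebra A G),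
      φ (SkewMonoidAlgebra.single h x * y) = ω (x * h • y.coeff h⁻¹) := by
    intro h x y
    rw [hφ, SkewMonoidAlgebra.coeff_single_mul, mul_one]
  refine ⟨φ, fun x y => ?_, fun y y' hyy => ?_, fun θ => ?_⟩
  · rw [hmul, hmul]
    refine Fintype.sum_equiv (Equiv.inv G) _ _ fun h => ?_
    rw [Equiv.inv_apply, inv_inv, ← hω h (y.coeff h⁻¹ * _), smul_mul', smul_inv_smul, mul_comm]
  · refine SkewMonoidAlgebra.ext fun h => ?_
    refine (MulAction.injective h⁻¹) (hinj _ _ fun x => ?_)
    have := congrFun hyy (SkewMonoidAlgebra.single h⁻¹ x)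
    simpa only [hsingle, inv_inv] using this
  · have hz : ∀ h : G, ∃ z : A, ∀ x, θ (SkewMonoidAlgebra.single h x) = ω (x * z) := fun h =>
      hsurj { toFun := fun x => θ (SkewMonoidAlgebra.single h x)
              map_add' := fun a b => by rw [SkewMonoidAlgebra.single_add, map_add]
              map_smul' := fun r a => by rw [← SkewMonoidAlgebra.smul_single, map_smul]; rfl }
    choose z hz using hz
    refine ⟨⟨Finsupp.equivFunOnFinite.symm fun g => g • z g⁻¹⟩, fun x => ?_⟩
    induction x using SkewMonoidAlgebra.induction_on with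
    | zero => rw [map_zero, zero_mul, map_zero]
    | single h a =>
      rw [hz, hsingle]
      simp
    | add a b ha hb => rw [map_add, ha, hb, add_mul, map_add]

end Groth.Agent.WildQuotH28.Sym
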